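import Mathlib
import Cfsg.Agent.Lib.SpecSq.JD

/-!
Definitions for the recognition of the direct square of a small Ree group by its element orders
(plan: `plans/RSQ.md`).
-/

set_option autoImplicit false
set_option linter.unusedSectionVars false
set_option linter.style.haveILetI false

namespace CfsgLib.RSQ

open Cfsg Subgroup CfsgLib.BG CfsgLib.CIT.App CfsgLib.Comp CfsgLib.SpecSq
open scoped commutatorElement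

/-- the five numbers `9, (q-1)/2, (q+1)/4, q-r+1, q+r+1` for `q = 3 ^ (2 m + 1)`, `r = 3 ^ (m + 1)` -/
structure Pm (m : ℕ) (μ : Fin 5 → ℕ) : Prop where
  hm : 1 ≤ m
  m0 : μ 0 = 9
  m1 : 2 * μ 1 + 1 = 3 ^ (2 * m + 1)
  m2 : 4 * μ 2 = 3 ^ (2 * m + 1) + 1
  m3 : μ 3 + 3 ^ (m + 1) = 3 ^ (2 * m + 1) + 1
  m4 : μ 4 = 3 ^ (2 * m + 1) + 3 ^ (m + 1) + 1
  cop : ∀ i j, i ≠ j → (μ i).Coprime (μ j)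
  odd : ∀ i, Odd (μ i)

/-- the five numbers -/
def mu (m : ℕ) : Fin 5 → ℕ :=
  ![9, (3 ^ (2 * m + 1) - 1) / 2, (3 ^ (2 * m + 1) + 1) / 4, 3 ^ (2 * m + 1) - 3 ^ (m + 1) + 1,
    3 ^ (2 * m + 1) + 3 ^ (m + 1) + 1]

/-- `s` is a prime of class `i` -/
def Cl (μ : Fin 5 → ℕ) (i : Fin 5) (s : ℕ) : Prop := s.Prime ∧ s ∣ μ i

/-- all element orders are allowed -/
structure Ub (μ : Fin 5 → ℕ) (G : Type*) [Group G] : Prop where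
  dvd : ∀ g : G, ∃ i j, i ≠ j ∧ orderOf g ∣ 2 * (μ i * μ j)
  n1 : ∀ c e, Cl μ 3 c → Cl μ 4 e → ¬ HasOrd G (2 * c * e)
  n2 : ∀ c, Cl μ 3 c ∨ Cl μ 4 c → ¬ HasOrd G (18 * c)

/-- all products of two different `μ i` are element orders -/
def Lb (μ : Fin 5 → ℕ) (G : Type*) [Group G] : Prop := ∀ i j, i ≠ j → HasOrd G (μ i * μ j)

variable {G : Type*} [Group G] [Finite G] {Γ : Type*} [Group Γ] [Finite Γ]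

/-- the class `i` meets the order of `H` -/
def Mt (μ : Fin 5 → ℕ) (i : Fin 5) (H : Subgroup G) : Prop := ∃ s, Cl μ i s ∧ s ∣ Nat.card H

/-- a surjection with solvable kernel -/
structure Sit (π : G →* Γ) (m : ℕ) (μ : Fin 5 → ℕ) : Prop where
  par : Pm m μ
  up : Ub μ G
  surj : Function.Surjective π
  sol : Group.IsSolvable π.ker

/-- an element of order `r` of `S` acts nontrivially on a `t`-subgroup of `S` -/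
def Pair (S : Subgroup Γ) (t r : ℕ) : Prop :=
  ∃ (Q : Subgroup Γ) (x : Γ), Q ≤ S ∧ IsPiSubgroup {t} Q ∧ x ∈ S ∧ x ∈ 𝒩(Q) ∧ orderOf x = r ∧
    x ∉ 𝒞(Q)

/-- the `r`-subgroups of `S` are cyclic -/
def CycS (r : ℕ) (S : Subgroup Γ) : Prop :=
  ∀ R : Subgroup Γ, R ≤ S → IsPiSubgroup {r} R → IsCyclic R

/-- a nonabelian simple subgroup -/
structure Smp (S : Subgroup Γ) : Prop where
  simp : Simp S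
  perf : ⁅S, S⁆ = S
  ne : S ≠ ⊥
  ic : S ⊓ 𝒞(S) = ⊥

/-- common properties of the components -/
structure Cmp (S : Subgroup Γ) (r f : ℕ) : Prop extends Smp S where
  d12 : 12 ∣ Nat.card S
  big5 : ∃ w : ℕ, w.Prime ∧ 5 ≤ w ∧ w ∣ Nat.card S
  hr : r.Prime
  r2 : r ≠ 2
  pair : Pair S 2 r
  sim : CycS r S ∨ (r = 3 ∧ ∃ w : ℕ, w.Prime ∧ 5 ≤ w ∧ Pair S 3 w)
  fodd : Odd f
  out : ∀ g ∈ 𝒩(S), g ^ (2 * f) ∈ S ⊔ 𝒞(S)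
  big : ∃ k, HasOrd S k ∧ (k + 1 = 2 ^ f ∨ 3 ^ f ≤ 2 * k + 1)
  line : ∀ x ∈ S, ∀ y ∈ S, (orderOf x).Prime → 5 ≤ orderOf x → orderOf y = orderOf x →
    ∃ s ∈ S, cj s (zpowers y) = zpowers x
  cent : ∀ x ∈ S, (orderOf x).Prime → 5 ≤ orderOf x → Group.IsSolvable ↥(S ⊓ 𝒞[x])
  cyc3 : CycS 3 S ∨ ∃ v w k l : ℕ, v.Prime ∧ w.Prime ∧ 5 ≤ v ∧ 5 ≤ w ∧ v ∣ Nat.card S ∧
    w ∣ Nat.card S ∧ Odd k ∧ v ∣ 3 ^ k - 1 ∧ w ∣ 3 ^ l + 1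

/-- the type `L₂(2 ^ f)` -/
def EvP (S : Subgroup Γ) (r : ℕ) : Prop :=
  5 ≤ r ∧ ∃ k, HasOrd S k ∧ r ∣ k ∧
    ∀ w : ℕ, w.Prime → 5 ≤ w → w ∣ Nat.card S → w ∣ k ∨ HasOrd S (3 * w)

/-- the type `L₂(u)`, `u` odd -/
def OdP (S : Subgroup Γ) : Prop :=
  ∃ k l, HasOrd S k ∧ HasOrd S l ∧
    ∀ w : ℕ, w.Prime → 5 ≤ w → w ∣ Nat.card S → w ∣ k ∨ w ∣ l ∨ HasOrd S (3 * w)

/-- an element acting like a field automorphism -/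
structure Fd (S : Subgroup Γ) (n : ℕ) (h : Γ) : Prop where
  c2 : ∃ t ∈ S, orderOf t = 2 ∧ h ∈ 𝒞[t]
  c7 : ∃ t ∈ S, orderOf t = 7 ∧ h ∈ 𝒞[t]
  c9 : ∃ t ∈ S, orderOf t = 9 ∧ h ∈ 𝒞[t]
  pow : h ^ n ∈ 𝒞(S)
  fix : ∀ k f : ℕ, f.Prime → f ≠ n → (h ^ k) ^ f ∈ 𝒞(S) →
    ∃ l ∈ S, (orderOf l).Prime ∧ orderOf l ≠ 2 ∧ orderOf l ∣ 3 ^ n - 1 ∧ h ^ k ∈ 𝒞[l]
  three : ∀ k : ℕ, (h ^ k) ^ 3 ∈ 𝒞(S) → h ^ k ∉ 𝒞(S) → ∃ x ∈ S, 27 ∣ orderOf (x * h ^ k)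

/-- the Ree type, without the field automorphisms -/
structure ReA (S : Subgroup Γ) (m : ℕ) : Prop extends Cmp S 3 (2 * m + 1) where
  hm : 1 ≤ m
  p2 : Pair S 3 2
  p7 : Pair S 2 7
  pA : ∃ w : ℕ, w.Prime ∧ 5 ≤ w ∧ w ∣ 3 ^ (2 * m + 1) - 1 ∧ Pair S 3 w
  spec : ∀ d, HasOrd S d ↔ (d ∣ 6 ∨ d ∣ 9 ∨ d ∣ 3 ^ (2 * m + 1) - 1 ∨ d ∣ (3 ^ (2 * m + 1) + 1) / 2 ∨
    d ∣ 3 ^ (2 * m + 1) - 3 ^ (m + 1) + 1 ∨ d ∣ 3 ^ (2 * m + 1) + 3 ^ (m + 1) + 1)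
  out1 : ∀ g ∈ 𝒩(S), g ^ (2 * m + 1) ∈ S ⊔ 𝒞(S)

/-- the Ree type -/
structure ReP (S : Subgroup Γ) (m : ℕ) : Prop extends ReA S m where
  fld : ∀ g ∈ 𝒩(S), ∃ s ∈ S, ∀ c ∈ 𝒞(S), Fd S (2 * m + 1) (c * s * g)

/-- the data of the case of two components -/
structure Tw (π : G →* Γ) (m : ℕ) (μ : Fin 5 → ℕ) (S₁ S₂ : Subgroup Γ) (r₁ f₁ r₂ f₂ : ℕ) : Prop where
  sit : Sit π m μ
  low : Lb μ G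
  c1 : Cmp S₁ r₁ f₁
  c2 : Cmp S₂ r₂ f₂
  comm : S₁ ≤ 𝒞(S₂)
  n1 : ⊤ ≤ 𝒩(S₁)
  n2 : ⊤ ≤ 𝒩(S₂)
  cc : 𝒞(S₁) ⊓ 𝒞(S₂) = ⊥

theorem Tw.symm {π : G →* Γ} {m : ℕ} {μ : Fin 5 → ℕ} {S₁ S₂ : Subgroup Γ} {r₁ f₁ r₂ f₂ : ℕ}
    (h : Tw π m μ S₁ S₂ r₁ f₁ r₂ f₂) : Tw π m μ S₂ S₁ r₂ f₂ r₁ f₁ :=
  ⟨h.sit, h.low, h.c2, h.c1, cents_symm h.comm, h.n2, h.n1, by rw [inf_comm, h.cc]⟩

theorem Pair.dvd {S : Subgroup Γ} {t r : ℕ} (h : Pair S t r) : r ∣ Nat.card S :=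
  let ⟨_, _, _, _, hx, _, e, _⟩ := h
  e ▸ order_dvdG hx

end CfsgLib.RSQ
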