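import Mathlib
import Cfsg.Agent.Lib.RSQ.Defs

/-!
RSQ package BASE: the classes of primes.  Write `n = 2 m + 1`, `q = 3 ^ n`; `4 μ₂ μ₃ μ₄ = q³ + 1`
(from `m2 m3 m4`: `μ₃ μ₄ = (q+1)² - 3 q`), `2 μ₁ = q - 1`.
-/

set_option autoImplicit false
set_option linter.unusedSectionVars false
set_option linter.style.haveILetI false

namespace CfsgLib.RSQ

open Cfsg Subgroup CfsgLib.BG CfsgLib.CIT.App CfsgLib.Comp CfsgLib.SpecSq
open scoped commutatorElement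

variable {G : Type*} [Group G] [Finite G] {Γ : Type*} [Group Γ] [Finite Γ] {π : G →* Γ}
  {μ : Fin 5 → ℕ} {m : ℕ} {S S₁ S₂ : Subgroup Γ} {r f r₁ f₁ r₂ f₂ : ℕ}

theorem Cl.unique (hP : Pm m μ) {i j : Fin 5} {s : ℕ} (h1 : Cl μ i s) (h2 : Cl μ j s) : i = j := by
  by_contra hij
  exact h1.1.one_lt.ne' (Nat.dvd_one.1 ((hP.cop i j hij).gcd_eq_one ▸ Nat.dvd_gcd h1.2 h2.2))

theorem Cl.ne (hP : Pm m μ) {i j : Fin 5} {a b : ℕ} (hij : i ≠ j) (h1 : Cl μ i a) (h2 : Cl μ j b) :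
    a ≠ b := by
  rintro rfl
  exact hij (h1.unique hP h2)

theorem Cl.ne_two (hP : Pm m μ) {i : Fin 5} {s : ℕ} (h : Cl μ i s) : s ≠ 2 := by
  rintro rfl
  exact (hP.odd i).not_two_dvd_nat h.2

theorem Pm.cl_three (hP : Pm m μ) : Cl μ 0 3 := by
  refine ⟨Nat.prime_three, ?_⟩
  rw [hP.m0]
  norm_num

theorem Cl.eq_three (hP : Pm m μ) {s : ℕ} (h : Cl μ 0 s) : s = 3 := by
  have h2 := h.2
  rw [hP.m0, show 9 = 3 ^ 2 by norm_num] at h2
  exact (Nat.prime_dvd_prime_iff_eq h.1 Nat.prime_three).1 (h.1.dvd_of_dvd_pow h2)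

/-- `4 μ₂ μ₃ μ₄ = q³ + 1` -/
theorem Pm.cube (hP : Pm m μ) : 4 * (μ 2 * μ 3 * μ 4) = 3 ^ (3 * (2 * m + 1)) + 1 := by
  have h2 := hP.m2
  have h3 := hP.m3
  have h4 := hP.m4
  have hr : 3 ^ (m + 1) * 3 ^ (m + 1) = 3 * 3 ^ (2 * m + 1) := by ring
  have hq : 3 ^ (3 * (2 * m + 1)) = (3 ^ (2 * m + 1)) ^ 3 := by ring
  rw [hq]
  generalize 3 ^ (2 * m + 1) = q at *
  generalize 3 ^ (m + 1) = r at *
  zify at h2 h3 h4 hr ⊢
  have e3 : (μ 3 : ℤ) = q + 1 - r := by linarith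
  rw [e3, h4]
  linear_combination ((q + 1 - r) * (q + r + 1)) * h2 - (q + 1) * hr

/-- `3 ^ k ≡ 1` with `k` odd and `3 ^ l ≡ -1` force `w ∣ 2`: `1 = (3^k)^l = (3^l)^k = -1`. -/
theorem dvd_two_of {w k l : ℕ} (hk : Odd k) (h1 : w ∣ 3 ^ k - 1) (h2 : w ∣ 3 ^ l + 1) : w ∣ 2 := by
  have e1 : (3 : ZMod w) ^ k = 1 := by
    have := (ZMod.natCast_eq_zero_iff _ _).2 h1
    rw [Nat.cast_sub (Nat.one_le_pow _ _ (by norm_num))] at this
    push_cast at this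
    exact sub_eq_zero.1 this
  have e2 : (3 : ZMod w) ^ l = -1 := by
    have := (ZMod.natCast_eq_zero_iff _ _).2 h2
    push_cast at this
    exact eq_neg_of_add_eq_zero_left this
  have e3 : ((3 : ZMod w) ^ l) ^ k = 1 := by rw [← pow_mul, mul_comm, pow_mul, e1, one_pow]
  rw [e2, hk.neg_one_pow] at e3
  refine (ZMod.natCast_eq_zero_iff _ _).1 ?_
  push_cast
  linear_combination -e3

theorem Pm.dvd_one (hP : Pm m μ) {s : ℕ} (h : s ∣ μ 1) : s ∣ 3 ^ (2 * m + 1) - 1 := by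
  rw [← hP.m1, Nat.add_sub_cancel]
  exact h.mul_left 2

theorem Pm.dvd_cube (hP : Pm m μ) {i : Fin 5} (h0 : i ≠ 0) (h1 : i ≠ 1) {s : ℕ} (h : s ∣ μ i) :
    s ∣ 3 ^ (3 * (2 * m + 1)) + 1 := by
  rw [← hP.cube]
  refine Dvd.dvd.mul_left ?_ 4
  have hi : i = 2 ∨ i = 3 ∨ i = 4 := by omega
  rcases hi with rfl | rfl | rfl
  · exact (h.mul_right _).mul_right _
  · exact (h.mul_left _).mul_right _
  · exact h.mul_left _

/-- `5` divides no `μ i` (the order of `3` modulo `5` is `4`; `5 ∣ q - 1` or `5 ∣ q³ + 1` is impossible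
for odd `n`). -/
theorem Pm.not_five (hP : Pm m μ) (i : Fin 5) : ¬ 5 ∣ μ i := by
  intro h
  by_cases h0 : i = 0
  · rw [h0, hP.m0] at h
    omega
  by_cases h1 : i = 1
  · subst h1
    have := dvd_two_of (l := 2) (odd_two_mul_add_one m) (hP.dvd_one h) (by norm_num)
    omega
  have h2 := (ZMod.natCast_eq_zero_iff _ _).2 (hP.dvd_cube h0 h1 h)
  push_cast at h2
  rw [show 3 * (2 * m + 1) = 2 * (3 * m + 1) + 1 by ring, pow_succ, pow_mul,
    show (3 : ZMod 5) ^ 2 = -1 by decide] at h2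
  rcases neg_one_pow_eq_or (ZMod 5) (3 * m + 1) with e | e <;> rw [e] at h2 <;> revert h2 <;> decide

theorem Cl.seven_le (hP : Pm m μ) {i : Fin 5} {s : ℕ} (hi : i ≠ 0) (h : Cl μ i s) : 7 ≤ s := by
  have h2 := h.ne_two hP
  have h3 : s ≠ 3 := Cl.ne hP hi h hP.cl_three
  have h5 : s ≠ 5 := fun e => hP.not_five i (e ▸ h.2)
  have hp := h.1
  by_contra h7
  push Not at h7
  interval_cases s <;> first | omega | exact absurd hp (by norm_num)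

theorem Cl.ne_zero (hP : Pm m μ) {i : Fin 5} {s : ℕ} (h : Cl μ i s) (h5 : 5 ≤ s) : i ≠ 0 := by
  rintro rfl
  have := h.eq_three hP
  omega

theorem Pm.seven_le (hP : Pm m μ) (i : Fin 5) : 7 ≤ μ i := by
  have h0 := hP.m0
  have h1 := hP.m1
  have h2 := hP.m2
  have h3 := hP.m3
  have h4 := hP.m4
  have hm := hP.hm
  have hr : 3 ^ 2 ≤ 3 ^ (m + 1) := Nat.pow_le_pow_right (by norm_num) (by omega)
  have hq : 3 ^ (m + 1 + 1) ≤ 3 ^ (2 * m + 1) := Nat.pow_le_pow_right (by norm_num) (by omega)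
  rw [pow_succ] at hq
  have hi : i = 0 ∨ i = 1 ∨ i = 2 ∨ i = 3 ∨ i = 4 := by omega
  rcases hi with rfl | rfl | rfl | rfl | rfl <;> omega

theorem Pm.exists_cl (hP : Pm m μ) (i : Fin 5) : ∃ s, Cl μ i s := by
  have := hP.seven_le i
  exact Nat.exists_prime_and_dvd (by omega)

theorem Ub.of_surj (h : Ub μ G) (π : G →* Γ) (hπ : Function.Surjective π) : Ub μ Γ := by
  refine ⟨fun γ => ?_, fun c e hc he hh => h.n1 c e hc he (hh.of_surjective π hπ),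
    fun c hc hh => h.n2 c hc (hh.of_surjective π hπ)⟩
  obtain ⟨g, rfl⟩ := hπ γ
  obtain ⟨i, j, hij, hd⟩ := h.dvd g
  exact ⟨i, j, hij, (orderOf_map_dvd π g).trans hd⟩

theorem Cl.eq_or (hP : Pm m μ) {t u v : Fin 5} {s : ℕ} (h : Cl μ t s) (hd : s ∣ 2 * (μ u * μ v)) :
    t = u ∨ t = v := by
  rcases (Nat.Prime.dvd_mul h.1).1 hd with h2 | h2
  · exact absurd ((Nat.prime_dvd_prime_iff_eq h.1 Nat.prime_two).1 h2) (h.ne_two hP)
  rcases (Nat.Prime.dvd_mul h.1).1 h2 with h3 | h3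
  · exact Or.inl (h.unique hP ⟨h.1, h3⟩)
  · exact Or.inr (h.unique hP ⟨h.1, h3⟩)

theorem Pm.dvd_mu_aux (hP : Pm m μ) {i u v : Fin 5} {k : ℕ} (huv : u ≠ v)
    (hd : k ∣ 2 * (μ u * μ v)) (hc : ∀ s : ℕ, s.Prime → s ∣ k → s ∣ μ i) : k ∣ μ i := by
  have c2 : k.Coprime 2 := Nat.coprime_of_dvd fun s hs h1 h2 =>
    Cl.ne_two hP ⟨hs, hc s hs h1⟩ ((Nat.prime_dvd_prime_iff_eq hs Nat.prime_two).1 h2)
  have ct : ∀ t, t ≠ i → k.Coprime (μ t) := fun t ht => Nat.coprime_of_dvd fun s hs h1 h2 =>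
    ht (Cl.unique hP ⟨hs, h2⟩ ⟨hs, hc s hs h1⟩)
  have h1 := c2.dvd_of_dvd_mul_left hd
  by_cases hu : u = i
  · subst hu
    exact (ct v huv.symm).dvd_of_dvd_mul_right h1
  have h2 := (ct u hu).dvd_of_dvd_mul_left h1
  by_cases hv : v = i
  · exact hv ▸ h2
  rw [(ct v hv).eq_one_of_dvd h2]
  exact one_dvd _

/-- no element order is a product of primes of three different classes -/
theorem Ub.tri (h : Ub μ G) (hP : Pm m μ) {i j k : Fin 5} (hij : i ≠ j) (hik : i ≠ k) (hjk : j ≠ k)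
    {a b c : ℕ} (ha : Cl μ i a) (hb : Cl μ j b) (hc : Cl μ k c) : ¬ HasOrd G (a * b * c) := by
  rintro ⟨g, hg⟩
  obtain ⟨u, v, -, hd⟩ := h.dvd g
  rw [hg] at hd
  have h1 := ha.eq_or hP (((dvd_mul_right a b).mul_right c).trans hd)
  have h2 := hb.eq_or hP (((dvd_mul_left b a).mul_right c).trans hd)
  have h3 := hc.eq_or hP ((dvd_mul_left c _).trans hd)
  omega

theorem Ub.no4 (h : Ub μ G) (hP : Pm m μ) : ¬ HasOrd G (2 ^ 2) := by
  rintro ⟨g, hg⟩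
  obtain ⟨u, v, -, hd⟩ := h.dvd g
  rw [hg, pow_two, Nat.mul_dvd_mul_iff_left (by norm_num)] at hd
  exact ((hP.odd u).mul (hP.odd v)).not_two_dvd_nat hd

theorem Ub.no27 (h : Ub μ G) (hP : Pm m μ) : ¬ HasOrd G (3 ^ 3) := by
  rintro ⟨g, hg⟩
  obtain ⟨u, v, huv, hd⟩ := h.dvd g
  rw [hg] at hd
  have := hP.dvd_mu_aux (i := 0) huv hd fun s hs h1 => by
    rw [(Nat.prime_dvd_prime_iff_eq hs Nat.prime_three).1 (hs.dvd_of_dvd_pow h1)]
    exact hP.cl_three.2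
  rw [hP.m0] at this
  omega

theorem Ub.no5 (h : Ub μ G) (hP : Pm m μ) : ¬ HasOrd G 5 := by
  rintro ⟨g, hg⟩
  obtain ⟨u, v, -, hd⟩ := h.dvd g
  rw [hg] at hd
  rcases (Nat.Prime.dvd_mul Nat.prime_five).1 hd with h2 | h2
  · omega
  rcases (Nat.Prime.dvd_mul Nat.prime_five).1 h2 with h3 | h3
  · exact hP.not_five u h3
  · exact hP.not_five v h3

theorem Ub.cls (h : Ub μ G) {p : ℕ} (hp : p.Prime) (h2 : p ≠ 2) (hd : p ∣ Nat.card G) :
    ∃ i, Cl μ i p := by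
  obtain ⟨g, hg⟩ := hasOrd_of_prime_dvd hp hd
  obtain ⟨u, v, -, h1⟩ := h.dvd g
  rw [hg] at h1
  rcases (Nat.Prime.dvd_mul hp).1 h1 with h3 | h3
  · exact absurd ((Nat.prime_dvd_prime_iff_eq hp Nat.prime_two).1 h3) h2
  rcases (Nat.Prime.dvd_mul hp).1 h3 with h4 | h4
  · exact ⟨u, hp, h4⟩
  · exact ⟨v, hp, h4⟩

/-- an odd element order all of whose primes lie in the class `i` divides `μ i` -/
theorem Ub.dvd_mu (h : Ub μ G) (hP : Pm m μ) {i : Fin 5} {k : ℕ} (hk : HasOrd G k)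
    (hc : ∀ s : ℕ, s.Prime → s ∣ k → s ∣ μ i) : k ∣ μ i := by
  obtain ⟨g, hg⟩ := hk
  obtain ⟨u, v, huv, hd⟩ := h.dvd g
  exact hP.dvd_mu_aux huv (hg ▸ hd) hc

theorem Ub.clA (h : Ub μ G) (hP : Pm m μ) {w k : ℕ} (hw : w.Prime) (h5 : 5 ≤ w)
    (hd : w ∣ Nat.card G) (hk : Odd k) (h1 : w ∣ 3 ^ k - 1) : Cl μ 1 w := by
  obtain ⟨i, hi⟩ := h.cls hw (by omega) hd
  by_cases e : i = 1
  · exact e ▸ hi
  have := Nat.le_of_dvd two_pos (dvd_two_of hk h1 (hP.dvd_cube (hi.ne_zero hP h5) e hi.2))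
  omega

theorem Pm.not_clA (hP : Pm m μ) {w l : ℕ} (h : w ∣ 3 ^ l + 1) : ¬ Cl μ 1 w := by
  intro hw
  exact hw.ne_two hP ((Nat.prime_dvd_prime_iff_eq hw.1 Nat.prime_two).1
    (dvd_two_of (odd_two_mul_add_one m) (hP.dvd_one hw.2) h))

/-- `7 ∣ q + 1` forces `3 ∣ n` (the order of `3` modulo `7` is `6`) -/
theorem Pm.three_dvd (hP : Pm m μ) (h : Cl μ 2 7) : 3 ∣ 2 * m + 1 := by
  have h1 : 7 ∣ 3 ^ (2 * m + 1) + 1 := hP.m2 ▸ h.2.mul_left 4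
  have h2 := (ZMod.natCast_eq_zero_iff _ _).2 h1
  push_cast at h2
  obtain ⟨t, a, ha, rfl⟩ : ∃ t a, a < 3 ∧ m = 3 * t + a :=
    ⟨m / 3, m % 3, Nat.mod_lt _ (by norm_num), (Nat.div_add_mod m 3).symm⟩
  rw [show 2 * (3 * t + a) + 1 = 6 * t + (2 * a + 1) by ring, pow_add, pow_mul,
    show (3 : ZMod 7) ^ 6 = 1 by decide, one_pow, one_mul] at h2
  interval_cases a
  · exact absurd h2 (by decide)
  · omega
  · exact absurd h2 (by decide)

/-- a prime of class `i` survives in `g ^ E` (`exists_prime_div_gcd`, `dvd_orderOf_pow`,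
`exists_pow_orderOf_eq`) -/
theorem Pm.wit (hP : Pm m μ) {i : Fin 5} {E : ℕ} (hE : ¬ μ i ∣ E) {g : G} (hg : μ i ∣ orderOf g) :
    ∃ w k : ℕ, Cl μ i w ∧ orderOf ((g ^ E) ^ k) = w := by
  obtain ⟨b, hb⟩ := hg
  have := hP.seven_le i
  obtain ⟨w, hw, hd⟩ := exists_prime_div_gcd (a := μ i) (by omega) hE
  obtain ⟨k, hk⟩ := exists_pow_orderOf_eq (dvd_orderOf_pow hb hd)
  exact ⟨w, k, ⟨hw, hd.trans (Nat.div_dvd_of_dvd (Nat.gcd_dvd_left _ _))⟩, hk⟩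

theorem Mt.mono {i : Fin 5} {A B : Subgroup G} (h : Mt μ i A) (hAB : A ≤ B) : Mt μ i B := by
  obtain ⟨s, h1, h2⟩ := h
  exact ⟨s, h1, h2.trans (cardSg hAB)⟩

/-- `π` preserves the order of an element of prime order not dividing the order of the kernel -/
theorem orderOf_map_of_not_dvd {g : G} {w : ℕ} (hw : w.Prime) (hg : orderOf g = w)
    (hK : ¬ w ∣ Nat.card π.ker) : orderOf (π g) = w := by
  rcases (Nat.dvd_prime hw).1 (hg ▸ orderOf_map_dvd π g) with e | e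
  · exact absurd (hg ▸ order_dvdG (MonoidHom.mem_ker.2 (orderOf_eq_one_iff.1 e))) hK
  · exact e

/-- three commuting elements of prime orders in different classes -/
theorem Ub.tri_elt (h : Ub μ G) (hP : Pm m μ) {i j k : Fin 5} (hij : i ≠ j) (hik : i ≠ k)
    (hjk : j ≠ k) {x y z : G} (hx : Cl μ i (orderOf x)) (hy : Cl μ j (orderOf y))
    (hz : Cl μ k (orderOf z)) (hxy : Commute x y) (hxz : Commute x z) (hyz : Commute y z) : False := by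
  exact h.tri hP hij hik hjk hx hy hz (hasOrd_mul3 rfl rfl rfl
    ((Nat.coprime_primes hx.1 hy.1).2 (Cl.ne hP hij hx hy))
    ((Nat.coprime_primes hx.1 hz.1).2 (Cl.ne hP hik hx hz))
    ((Nat.coprime_primes hy.1 hz.1).2 (Cl.ne hP hjk hy hz)) hxy hxz hyz)

/-- an element whose order has primes of two classes and commutes with a subgroup whose order has a
prime of a third class -/
theorem Ub.tri_cent (h : Ub μ G) (hP : Pm m μ) {i j k : Fin 5} (hij : i ≠ j) (hik : i ≠ k)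
    (hjk : j ≠ k) {a b c : ℕ} (ha : Cl μ i a) (hb : Cl μ j b) (hc : Cl μ k c) {x : G}
    {C : Subgroup G} (h1 : a ∣ orderOf x) (h2 : b ∣ orderOf x) (h3 : c ∣ Nat.card C)
    (hx : x ∈ 𝒞(C)) : False := by
  obtain ⟨y, my, hy⟩ := Cauchy hc.1 h3
  have hab := (Nat.coprime_primes ha.1 hb.1).2 (Cl.ne hP hij ha hb)
  have hac := (Nat.coprime_primes ha.1 hc.1).2 (Cl.ne hP hik ha hc)
  have hbc := (Nat.coprime_primes hb.1 hc.1).2 (Cl.ne hP hjk hb hc)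
  have hxy : Commute x y := (mem_centralizer_iff.1 hx y my).symm
  exact h.tri hP hij hik hjk ha hb hc (hasOrd_mul_of_commute hxy
    (hab.mul_dvd_of_dvd_of_dvd h1 h2) (hy ▸ dvd_rfl) (Nat.Coprime.mul_left hac hbc))

end CfsgLib.RSQ
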