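import Mathlib
import Cfsg.Agent.Lib.RSQ.Base

/-!
RSQ package ARI: arithmetic.  `n = 2 m + 1`, `q = 3 ^ n`; every `μ i` (`i ≠ 0`) is odd, at least
`μ₂ = (q+1)/4` and less than `2 q`.  For `m = 1`: `μ = (9, 13, 7, 19, 37)`.
-/

set_option autoImplicit false
set_option linter.unusedSectionVars false
set_option linter.style.haveILetI false

namespace CfsgLib.RSQ

open Cfsg Subgroup CfsgLib.BG CfsgLib.CIT.App CfsgLib.Comp CfsgLib.SpecSq
open scoped commutatorElement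

variable {G : Type*} [Group G] [Finite G] {Γ : Type*} [Group Γ] [Finite Γ] {π : G →* Γ}
  {μ : Fin 5 → ℕ} {m : ℕ} {S S₁ S₂ : Subgroup Γ} {r f r₁ f₁ r₂ f₂ : ℕ}

namespace Ari

theorem bd (hP : Pm m μ) {i : Fin 5} (hi : i ≠ 0) : 3 ^ (2 * m + 1) < 4 * μ i ∧ μ i < 2 * 3 ^ (2 * m + 1) := by
  have h1 := hP.m1
  have h2 := hP.m2
  have h3 := hP.m3
  have h4 := hP.m4
  have h5 : 3 ^ (m + 1) * 3 ≤ 3 ^ (2 * m + 1) := by
    rw [← pow_succ]; exact Nat.pow_le_pow_right (by norm_num) (by have := hP.hm; omega)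
  have h6 : 0 < 3 ^ (m + 1) := by positivity
  fin_cases i
  · exact absurd rfl hi
  all_goals simp; omega

theorem bd' (hP : Pm m μ) (i : Fin 5) : μ i < 2 * 3 ^ (2 * m + 1) := by
  by_cases hi : i = 0
  · have := Nat.pow_le_pow_right (n := 3) (by norm_num) (show 3 ≤ 2 * m + 1 by have := hP.hm; omega)
    rw [hi, hP.m0]; omega
  · exact (bd hP hi).2

theorem cop2 (hP : Pm m μ) (i : Fin 5) : (μ i).Coprime 2 := Nat.coprime_two_right.2 (hP.odd i)

theorem one (hP : Pm 1 μ) : μ = ![9, 13, 7, 19, 37] := by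
  have h0 := hP.m0
  have h1 := hP.m1
  have h2 := hP.m2
  have h3 := hP.m3
  have h4 := hP.m4
  funext i
  fin_cases i <;> simp <;> omega

theorem p256 {n : ℕ} (hn : 17 ≤ n) : 256 * (n * n) < 2 ^ n := by
  induction n, hn using Nat.le_induction with
  | base => norm_num
  | succ n _ ih => rw [pow_succ]; nlinarith

theorem p9 {n : ℕ} (hn : 3 ≤ n) : 9 * n ≤ 3 ^ n := by
  induction n, hn using Nat.le_induction with
  | base => norm_num
  | succ n _ ih => rw [pow_succ]; omega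

end Ari

theorem pm_mu (hm : 1 ≤ m) : Pm m (mu m) := by
  obtain ⟨u, hu⟩ : Odd (3 ^ m) := Odd.pow (by decide)
  have e1 : 3 ^ (2 * m + 1) = 12 * (u * u) + 12 * u + 3 := by rw [pow_succ, pow_mul', hu]; ring
  have e2 : 3 ^ (m + 1) = 6 * u + 3 := by rw [pow_succ, hu]; ring
  have e : mu m = ![9, 6 * (u * u) + 6 * u + 1, 3 * (u * u) + 3 * u + 1, 12 * (u * u) + 6 * u + 1,
      12 * (u * u) + 18 * u + 7] := by
    rw [mu, e1, e2]
    congr 2
    · omega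
    · congr 1
      · omega
      · congr 1
        · omega
        · congr 1; omega
  have c : ∀ {a b : ℕ} (x y : ℤ), x * a + y * b = 1 → a.Coprime b := fun x y h =>
    Nat.isCoprime_iff_coprime.1 ⟨x, y, h⟩
  have c9 : ∀ a : ℕ, Nat.Coprime 9 (3 * a + 1) := fun a =>
    Nat.Coprime.pow_left 2 (c (-a) 1 (by push_cast; ring) : Nat.Coprime 3 _)
  have c01 : Nat.Coprime 9 (6 * (u * u) + 6 * u + 1) := by convert c9 (2 * (u * u) + 2 * u) using 1; ring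
  have c02 : Nat.Coprime 9 (3 * (u * u) + 3 * u + 1) := by convert c9 (u * u + u) using 1; ring
  have c03 : Nat.Coprime 9 (12 * (u * u) + 6 * u + 1) := by convert c9 (4 * (u * u) + 2 * u) using 1; ring
  have c04 : Nat.Coprime 9 (12 * (u * u) + 18 * u + 7) := by convert c9 (4 * (u * u) + 6 * u + 2) using 1; ring
  have c12 : Nat.Coprime (6 * (u * u) + 6 * u + 1) (3 * (u * u) + 3 * u + 1) := c (-1) 2 (by push_cast; ring)
  have c13 : Nat.Coprime (6 * (u * u) + 6 * u + 1) (12 * (u * u) + 6 * u + 1) :=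
    c (6 - 2 * (6 * u + 5)) (6 * u + 5) (by push_cast; ring)
  have c14 : Nat.Coprime (6 * (u * u) + 6 * u + 1) (12 * (u * u) + 18 * u + 7) :=
    c (6 + 2 * (6 * u + 1)) (-(6 * u + 1)) (by push_cast; ring)
  have c23 : Nat.Coprime (3 * (u * u) + 3 * u + 1) (12 * (u * u) + 6 * u + 1) :=
    c (-(8 * u)) (1 + 2 * u) (by push_cast; ring)
  have c24 : Nat.Coprime (3 * (u * u) + 3 * u + 1) (12 * (u * u) + 18 * u + 7) :=
    c (4 * (2 * u + 2)) (1 - (2 * u + 2)) (by push_cast; ring)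
  have c34 : Nat.Coprime (12 * (u * u) + 6 * u + 1) (12 * (u * u) + 18 * u + 7) :=
    c (1 + u) (-u) (by push_cast; ring)
  obtain ⟨v, hv⟩ := Nat.even_mul_succ_self u
  rw [e]
  refine ⟨hm, rfl, ?_, ?_, ?_, ?_, fun i j hij => ?_, fun i => ?_⟩
  · rw [e1]; simp; omega
  · rw [e1]; simp; omega
  · rw [e1, e2]; simp; omega
  · rw [e1, e2]; simp; omega
  · fin_cases i <;> fin_cases j <;> first | exact absurd rfl hij | assumption | (apply Nat.Coprime.symm; assumption)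
  · rw [mul_add, mul_one] at hv
    fin_cases i <;> simp [Nat.odd_iff] <;> omega

theorem dvd_of_three_pow {a b : ℕ} (h : 3 ^ a - 1 ∣ 3 ^ b - 1) : a ∣ b := by
  have e := Nat.gcd_eq_left h
  rw [Nat.pow_sub_one_gcd_pow_sub_one] at e
  have h1 : 0 < 3 ^ a := by positivity
  have h2 : 0 < 3 ^ a.gcd b := by positivity
  have e' : a.gcd b = a := Nat.pow_right_injective (by norm_num : 2 ≤ 3) (by simp only; omega)
  exact e' ▸ Nat.gcd_dvd_right a b

/-- `k ∣ 2 μᵢ μⱼ ≤ 8 q²`, so `2 ^ f ≤ 16 q² + 1 ≤ 2 ^ (4 n + 5)`, and `f < (q+1)/4 ≤ μ i` for `m ≥ 2`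
(`n = 5`: `25 < 61`); `μ i` is odd, so `μ i ∣ 2 f` gives `μ i ∣ f`, `μ i ≤ f`.
For `m = 1`: `μ i ∈ {13, 7, 19, 37}`, so `f ≥ 7` and `f = 7` or `f ≥ 13`; `k ≤ 1406`; `k + 1 = 2 ^ 7` gives
`127 ∣ 2 μᵢ μⱼ`, false; `3 ^ 7 ≤ 2 k + 1` gives `k ≥ 1093`, so `k = 2 * 19 * 37`, excluded by `n1`. -/
theorem ari_one (hP : Pm m μ) (hU : Ub μ G) {k : ℕ} (hf : Odd f) (hk : HasOrd G k)
    (h : k + 1 = 2 ^ f ∨ 3 ^ f ≤ 2 * k + 1) {i : Fin 5} (hi : i ≠ 0) : ¬ μ i ∣ 2 * f := by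
  intro hd
  have d := (Ari.cop2 hP i).dvd_of_dvd_mul_left hd
  have l := Nat.le_of_dvd hf.pos d
  obtain ⟨g, rfl⟩ := hk
  obtain ⟨a, b, hab, hk⟩ := hU.dvd g
  rcases hP.hm.eq_or_lt with rfl | hm
  · obtain rfl := Ari.one hP
    have k1 : orderOf g ≠ 1406 := fun e => hU.n1 19 37 ⟨by norm_num, dvd_rfl⟩ ⟨by norm_num, dvd_rfl⟩ ⟨g, e⟩
    have k2 : orderOf g ≤ 962 ∧ orderOf g ≠ 127 := by
      refine ⟨not_lt.1 fun k => ?_, fun e => ?_⟩
      · have k3 := Nat.le_of_dvd (by have := hP.seven_le a; have := hP.seven_le b; positivity) hk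
        have k4 : ∀ a b : Fin 5, a ≠ b → 2 * (![9, 13, 7, 19, 37] a * ![9, 13, 7, 19, 37] b) ≤ 962 ∨
          2 * (![9, 13, 7, 19, 37] a * ![9, 13, 7, 19, 37] b) = 1406 := by decide
        rcases k4 a b hab with k5 | k5
        · omega
        · rw [k5] at hk
          exact k1 (Nat.eq_of_dvd_of_lt_two_mul (by norm_num) hk (by omega)).symm
      · rw [e] at hk
        revert hk a b; decide
    have l7 := (hP.seven_le i).trans l
    rcases h with h | h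
    · have : f < 10 := (Nat.pow_lt_pow_iff_right (a := 2) (by norm_num)).1 (by omega)
      interval_cases f
      · omega
      · exact absurd hf (by decide)
      · revert d hi i; decide
    · have := Nat.pow_le_pow_right (n := 3) (by norm_num) l7
      omega
  · have b1 := (Ari.bd hP hi).1
    have b2 := Nat.mul_le_mul (Ari.bd' hP a).le (Ari.bd' hP b).le
    have k3 := Nat.le_of_dvd (by have := hP.seven_le a; have := hP.seven_le b; positivity) hk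
    have q := Nat.pow_le_pow_right (n := 3) (by norm_num) (show 5 ≤ 2 * m + 1 by omega)
    have e := Nat.pow_le_pow_left (show 2 ≤ 3 by norm_num) f
    have p := Ari.p256 (n := f) (by omega)
    generalize 3 ^ (2 * m + 1) = Q at *
    have : Q * Q < 4 * f * (4 * f) := Nat.mul_self_lt_mul_self (by omega)
    rcases h with h | h <;> nlinarith

/-- If `k + 1 = 2 ^ f` (`f` odd) then `k` is coprime to `6`, so `k ∣ μ j`, `2 ^ f ≤ μ j + 1 ≤ 2 q`.  If
`3 ^ f ≤ 2 k + 1 ≤ 72 q + 1 < 3 ^ (n + 4)` then `f ≤ n + 3`, `f ≤ n + 2` (`f`, `n` odd), `2 ^ f ≤ 4 * 2 ^ n ≤ 2 q`. -/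
theorem two_pow_le (hP : Pm m μ) {k : ℕ} {j : Fin 5} (hj : j ≠ 0) (hf : Odd f) (hk : k ∣ 18 * μ j)
    (h : k + 1 = 2 ^ f ∨ 3 ^ f ≤ 2 * k + 1) : 2 ^ f ≤ 2 * 3 ^ (2 * m + 1) := by
  have b := Ari.bd' hP j
  have p : 0 < μ j := by have := hP.seven_le j; omega
  obtain ⟨s, rfl⟩ := hf
  rcases h with h | h
  · have h6 : (2 ^ 2) ^ s % 3 = 1 := by rw [Nat.pow_mod]; simp
    rw [pow_succ, pow_mul] at h ⊢
    have c : k.Coprime (2 * 3 ^ 2) := Nat.Coprime.mul_right (Nat.coprime_two_right.2 (by rw [Nat.odd_iff]; omega))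
      (Nat.Coprime.pow_right 2 ((Nat.prime_three.coprime_iff_not_dvd.2 (by omega)).symm))
    have := Nat.le_of_dvd p (c.dvd_of_dvd_mul_left hk)
    omega
  · have k1 := Nat.le_of_dvd (by positivity) hk
    have k2 : 2 * s + 1 < 2 * m + 1 + 4 := (Nat.pow_lt_pow_iff_right (a := 3) (by norm_num)).1 (by
      rw [pow_add 3 (2 * m + 1)]
      generalize 3 ^ (2 * m + 1) = Q at *
      generalize 3 ^ (2 * s + 1) = R at *
      omega)
    have k3 := Nat.pow_le_pow_right (n := 2) (by norm_num) (show 2 * s + 1 ≤ 2 * m + 1 + 2 by omega)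
    have k4 : ∀ n, 2 ≤ n → 2 * 2 ^ n ≤ 3 ^ n := fun n hn => by
      induction n, hn using Nat.le_induction with
      | base => norm_num
      | succ n _ ih => rw [pow_succ, pow_succ]; omega
    have := k4 (2 * m + 1) (by have := hP.hm; omega)
    rw [pow_add 2 (2 * m + 1)] at k3
    generalize 2 ^ (2 * m + 1) = Q at *
    generalize 2 ^ (2 * s + 1) = R at *
    omega

/-- `μ i` odd, so `μ i ∣ f₁ f₂`.  `m = 1`: `f ≤ 5`, `μ i` is a prime `≥ 7`.  `m = 2`: `f ≤ 7` (odd, `2 ^ f ≤ 486`),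
`49 < 61`.  `m ≥ 3`: `f ≤ 2 n`, `4 (2 n)² < 3 ^ n`. -/
theorem ari_two (hP : Pm m μ) (h1 : Odd f₁) (h2 : Odd f₂) (b1 : 2 ^ f₁ ≤ 2 * 3 ^ (2 * m + 1))
    (b2 : 2 ^ f₂ ≤ 2 * 3 ^ (2 * m + 1)) {i : Fin 5} (hi : i ≠ 0) : ¬ μ i ∣ 2 * (f₁ * f₂) := by
  intro hd
  have d := (Ari.cop2 hP i).dvd_of_dvd_mul_left hd
  have l := Nat.le_of_dvd (Nat.mul_pos h1.pos h2.pos) d
  have b := (Ari.bd hP hi).1
  rcases hP.hm.eq_or_lt with rfl | hm
  · obtain rfl := Ari.one hP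
    have k1 : f₁ < 6 := (Nat.pow_lt_pow_iff_right (a := 2) (by norm_num)).1 (by omega)
    have k2 : f₂ < 6 := (Nat.pow_lt_pow_iff_right (a := 2) (by norm_num)).1 (by omega)
    have k3 := h1.pos
    have k4 := h2.pos
    clear l b hd
    interval_cases f₁ <;> interval_cases f₂ <;> revert d hi i <;> decide
  · have k : ∀ n, 10 ≤ n → 8 * (n * n) ≤ 2 ^ n := fun n hn => by
      induction n, hn using Nat.le_induction with
      | base => norm_num
      | succ n _ ih => rw [pow_succ]; nlinarith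
    wlog w : f₂ ≤ f₁ generalizing f₁ f₂
    · exact this h2 h1 b2 b1 (mul_comm f₁ f₂ ▸ hd) (mul_comm f₁ f₂ ▸ d) (mul_comm f₁ f₂ ▸ l) (by omega)
    have l2 := l.trans (Nat.mul_le_mul_left f₁ w)
    have k1 : f₁ < 10 := not_le.1 fun h => by have := k _ h; omega
    have k2 : f₁ * f₁ ≤ 9 * 9 := Nat.mul_self_le_mul_self (by omega)
    have k3 : 2 * m + 1 < 6 := (Nat.pow_lt_pow_iff_right (a := 3) (by norm_num)).1 (by omega)
    obtain rfl : m = 2 := by omega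
    have k4 : f₁ < 9 := (Nat.pow_lt_pow_iff_right (a := 2) (by norm_num)).1 (by omega)
    have k5 : f₁ * f₁ ≤ 7 * 7 := Nat.mul_self_le_mul_self (by rw [Nat.odd_iff] at h1; omega)
    omega

theorem not_dvd_n (hP : Pm m μ) {i : Fin 5} (hi : i ≠ 0) : ¬ μ i ∣ 2 * m + 1 := by
  intro hd
  have l := Nat.le_of_dvd (by omega) hd
  have b := (Ari.bd hP hi).1
  have := Ari.p9 (n := 2 * m + 1) (by have := hP.hm; omega)
  omega

/-- `n = d n₁` with `d ≥ 3`, `n₁ ≥ 3`; `q < 4 μ i ≤ 4 k n`; if `k ≤ 2 * 3 ^ n₁` then `3 ^ n < 8 n 3 ^ n₁`, and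
`8 n ≤ 3 ^ (n - n₁)` as `3 (n - n₁) ≥ 2 n`, `n ≥ 9`. -/
theorem ari_size (hP : Pm m μ) {m₁ k : ℕ} (hm₁ : 1 ≤ m₁) (hd : 2 * m₁ + 1 ∣ 2 * m + 1) (hne : m₁ ≠ m)
    {i : Fin 5} (hi : i ≠ 0) (k0 : 0 < k) (hk : μ i ∣ k * (2 * m + 1)) : 2 * 3 ^ (2 * m₁ + 1) < k := by
  by_contra hc
  have l := Nat.le_of_dvd (by positivity) hk
  have b := (Ari.bd hP hi).1
  obtain ⟨d, hd⟩ := hd
  have d3 : 3 ≤ d := by
    by_contra h3
    have : d < 3 := by omega
    interval_cases d <;> omega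
  have n3 := Nat.mul_le_mul_left (2 * m₁ + 1) d3
  obtain ⟨e, he⟩ : ∃ e, 2 * m + 1 = 2 * m₁ + 1 + (e + 1) := ⟨2 * m - (2 * m₁ + 1), by omega⟩
  have p := Ari.p9 (n := e) (by omega)
  have q : 3 ^ (2 * m + 1) = 3 ^ (2 * m₁ + 1) * (3 ^ e * 3) := by rw [he, pow_add, pow_succ 3 e]
  have l2 := Nat.mul_le_mul_right (2 * m + 1) (not_lt.1 hc)
  have l3 : 3 ^ (2 * m₁ + 1) * (8 * (2 * m + 1)) ≤ 3 ^ (2 * m₁ + 1) * (3 ^ e * 3) :=
    Nat.mul_le_mul_left _ (by omega)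
  nlinarith

end CfsgLib.RSQ
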