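import Mathlib
import Cfsg.Agent.Lib.RSQ.Defs

/-!
RSQ package DIAG: an element of odd order prime to the order of the layer centralises an element of order
three.
-/

set_option autoImplicit false
set_option linter.unusedSectionVars false
set_option linter.style.haveILetI false

namespace CfsgLib.RSQ

open Cfsg Subgroup CfsgLib.BG CfsgLib.CIT.App CfsgLib.Comp CfsgLib.SpecSq
open scoped commutatorElement

variable {G : Type*} [Group G] [Finite G] {Γ : Type*} [Group Γ] [Finite Γ] {π : G →* Γ}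
  {μ : Fin 5 → ℕ} {m : ℕ} {S S₁ S₂ : Subgroup Γ} {r f r₁ f₁ r₂ f₂ : ℕ}

/-- the norm of `z` along the first `ℓ` conjugates under `y` -/
theorem diag_norm {H : Type*} [Group H] {C : Subgroup H} {z y : H} {l : ℕ}
    (hz : z ^ 3 = 1) (hC : z ∉ C)
    (hcomm : ∀ i j : ℕ, Commute (y ^ i * z * (y ^ i)⁻¹) (y ^ j * z * (y ^ j)⁻¹))
    (hin : ∀ i, 0 < i → i ≤ l → y ^ i * z * (y ^ i)⁻¹ ∈ C) (hl : Commute (y ^ (l + 1)) z) :
    ∃ w : H, orderOf w = 3 ∧ Commute w y := by
  haveI := Fact.mk Nat.prime_three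
  have hs : ∀ k, (z * y) ^ (k + 1) * (y ^ (k + 1))⁻¹ =
      (z * y) ^ k * (y ^ k)⁻¹ * (y ^ k * z * (y ^ k)⁻¹) := fun k => by
    rw [pow_succ, pow_succ' y]
    have : y * y ^ k = y ^ k * y := by rw [← pow_succ, pow_succ']
    rw [this]
    group
  have h1 : ∀ k j : ℕ, Commute ((z * y) ^ k * (y ^ k)⁻¹) (y ^ j * z * (y ^ j)⁻¹) := fun k j => by
    induction k with
    | zero => simp
    | succ k ih => rw [hs]; exact ih.mul_left (hcomm k j)
  have h2 : ∀ k : ℕ, ((z * y) ^ k * (y ^ k)⁻¹) ^ 3 = 1 := fun k => by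
    induction k with
    | zero => simp
    | succ k ih => rw [hs, (h1 k k).mul_pow, ih, conj_pow, hz]; simp
  have h3 : ∀ k, k ≤ l → z⁻¹ * ((z * y) ^ (k + 1) * (y ^ (k + 1))⁻¹) ∈ C := fun k hk => by
    induction k with
    | zero => simpa using C.one_mem
    | succ k ih =>
      rw [hs, ← mul_assoc]
      exact C.mul_mem (ih (by omega)) (hin _ (by omega) hk)
  refine ⟨(z * y) ^ (l + 1) * (y ^ (l + 1))⁻¹, orderOf_eq_prime (h2 _) fun e => hC ?_, ?_⟩
  · have := h3 l le_rfl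
    rw [e, mul_one] at this
    exact inv_mem_iff.1 this
  · have c1 : Commute ((z * y) ^ (l + 1) * (y ^ (l + 1))⁻¹) (z * y) :=
      ((Commute.refl _).pow_left _).mul_left
        (hl.mul_right ((Commute.refl y).pow_left _)).inv_left
    have c2 : Commute ((z * y) ^ (l + 1) * (y ^ (l + 1))⁻¹) z := by simpa using h1 (l + 1) 0
    simpa using c2.inv_right.mul_right c1

theorem diag_cyc {H : Type*} [Group H] [Finite H] {C : Subgroup H} (hC : IsCyclic C) {z x : H}
    (hz : z ∈ C) (hx : x ∈ C) (h3 : orderOf z = 3) (hx3 : x ^ 3 = 1) : x ∈ zpowers z := by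
  classical
  haveI := Fintype.ofFinite C
  by_contra hn
  have h1 := IsCyclic.card_pow_eq_one_le (α := C) (n := 3) (by norm_num)
  have h2 : insert (⟨x, hx⟩ : C) (zpowers (⟨z, hz⟩ : C) : Set C).toFinset ⊆
      Finset.univ.filter fun a : C => a ^ 3 = 1 := by
    intro a ha
    rw [Finset.mem_insert, Set.mem_toFinset] at ha
    rw [Finset.mem_filter]
    refine ⟨Finset.mem_univ _, ?_⟩
    rcases ha with rfl | ⟨k, rfl⟩
    · exact Subtype.ext hx3
    · have : (⟨z, hz⟩ : C) ^ 3 = 1 := Subtype.ext (by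
        change z ^ 3 = 1
        rw [← h3, pow_orderOf_eq_one])
      change ((⟨z, hz⟩ : C) ^ k) ^ 3 = 1
      rw [← zpow_natCast, ← zpow_mul, mul_comm, zpow_mul, zpow_natCast, this, one_zpow]
  have h4 := Finset.card_le_card h2
  rw [Finset.card_insert_of_notMem (by
    rw [Set.mem_toFinset]
    rintro ⟨k, hk⟩
    exact hn ⟨k, congrArg Subtype.val hk⟩), Set.toFinset_card, ← Nat.card_eq_fintype_card] at h4
  have h5 : Nat.card (zpowers (⟨z, hz⟩ : C) : Set C) = 3 := by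
    rw [← h3]
    exact (Nat.card_zpowers _).trans (orderOf_coe _).symm
  omega

/-- an element of odd order normalising a group of order three centralises it -/
theorem diag_odd {H : Type*} [Group H] [Finite H] {z u : H} (hz : orderOf z = 3)
    (hu : Odd (orderOf u)) (h : u * z * u⁻¹ ∈ zpowers z) : Commute u z := by
  classical
  have hz3 : z ^ 3 = 1 := hz ▸ pow_orderOf_eq_one z
  have hz1 : z ≠ 1 := fun e => by rw [e, orderOf_one] at hz; omega
  obtain ⟨k, hk, e⟩ := Finset.mem_image.1 (mem_zpowers_iff_mem_range_orderOf.1 h)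
  rw [hz, Finset.mem_range] at hk
  have c2 : Commute (u ^ 2) z := by
    have e2 : u ^ 2 * z * (u ^ 2)⁻¹ = z ^ (k * k) := by
      rw [pow_mul, e, conj_pow, e, sq]
      group
    rw [Commute, SemiconjBy, ← mul_inv_eq_iff_eq_mul, e2]
    interval_cases k
    · rw [pow_zero, eq_comm, conj_eq_one_iff] at e
      exact absurd e hz1
    · simp
    · rw [show 2 * 2 = 3 + 1 from rfl, pow_succ, hz3, one_mul]
  obtain ⟨n, hn⟩ := hu
  have : u = (u ^ 2) ^ (n + 1) := by
    rw [← pow_mul, show 2 * (n + 1) = 2 * n + 1 + 1 by ring, pow_succ, ← hn, pow_orderOf_eq_one,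
      one_mul]
  rw [this]
  exact c2.pow_left _

/-- `R` a `y`-invariant Sylow 3-subgroup of `layer Γ` (`coprime_Sylow_exists`); for a component `L`,
`R ⊓ L` is a Sylow 3-subgroup of `L` (`L` is normal in the layer, `Hall_setI_normal`), cyclic; take `z ∈ R ⊓ S`
of order 3.  Let `ℓ > 0` be minimal with `y ^ ℓ ∈ 𝒩(S)`.  `y ^ ℓ` normalises the cyclic group `R ⊓ S`, hence
its unique subgroup `zpowers z` of order 3, hence centralises `z` (odd order: `z ↦ z⁻¹` has order two).  The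
components `cj (y ^ i) S`, `i < ℓ`, are different, so they commute (`comp_map_conj`,
`comp_le_centralizer_of_ne`); `w = ∏_{i < ℓ} y ^ i z y ^ (-i)` has `w ^ 3 = 1`, commutes with `y`
(`y w y⁻¹ = z⁻¹ w (y ^ ℓ z y ^ (-ℓ)) = w`), and `w ≠ 1` since `w = z c` with `c ∈ 𝒞(S)`, `S ⊓ 𝒞(S) = ⊥`.
(Define `w k = ∏_{i<k}` by recursion `w (k+1) = z * (y * w k * y⁻¹)` or as `(z * y) ^ k * (y ^ k)⁻¹`:
`(z y) ^ ℓ = w y ^ ℓ`, and `z y` commutes with `(z y) ^ ℓ`.) -/
theorem diag (hc : ∀ L : Subgroup Γ, IsComponent L → L ⊓ 𝒞(L) = ⊥ ∧ CycS 3 L) (hS : IsComponent S)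
    (h3 : 3 ∣ Nat.card S) {y : Γ} (hy : Odd (orderOf y))
    (hco : (orderOf y).Coprime (Nat.card (layer Γ))) : ∃ w : Γ, orderOf w = 3 ∧ Commute w y := by
  classical
  have p3 := Nat.prime_three
  haveI := Fact.mk p3
  haveI : (layer Γ).Normal := layer_normal
  obtain ⟨R, hR, hyR⟩ := coprime_Sylow_exists p3 (A := zpowers y) (M := layer Γ)
    (le_top.trans (normalizer_eq_top _).ge) (by rw [Nat.card_zpowers]; exact hco.symm)
    (.inl (abelian_sol inferInstance))
  have hsyl : ∀ L : Subgroup Γ, IsComponent L → IsSylowOf 3 (R ⊓ L) L := fun L hL =>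
    Hall_setI_normal ⟨comp_le_layer hL, layer_le_normalizer_comp hL⟩ hR
  have hcyc : ∀ L : Subgroup Γ, IsComponent L → IsCyclic ↥(R ⊓ L) := fun L hL =>
    (hc L hL).2 _ inf_le_right (hsyl L hL).2.1
  have hd : 3 ∣ Nat.card ↥(R ⊓ S) := by
    have e := ((R ⊓ S).subgroupOf S).card_mul_index
    rw [Nat.card_congr (subgroupOfEquivOfLe inf_le_right).toEquiv] at e
    rw [← e] at h3
    exact ((Nat.Prime.dvd_mul p3).1 h3).resolve_right ((hsyl S hS).2.2 3 p3 rfl)
  obtain ⟨z0, hz0⟩ := exists_prime_orderOf_dvd_card' 3 hd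
  obtain ⟨z, hzR, hzS⟩ := z0
  have hz : orderOf z = 3 := by rw [← hz0]; exact (orderOf_coe (⟨z, hzR, hzS⟩ : ↥(R ⊓ S)))
  have hRi : ∀ i : ℕ, y ^ i * z * (y ^ i)⁻¹ ∈ R := fun i =>
    (mem_normalizer_iff.1 (hyR (npow_mem_zpowers y i)) z).1 hzR
  have hSi : ∀ i : ℕ, y ^ i * z * (y ^ i)⁻¹ ∈ cj (y ^ i) S := fun i => conj_mem_cj.2 hzS
  have hCi : ∀ i : ℕ, IsComponent (cj (y ^ i) S) := fun i => comp_map_conj hS _
  have hex : ∃ l : ℕ, cj (y ^ (l + 1)) S = S := by
    refine ⟨orderOf y - 1, ?_⟩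
    rw [Nat.sub_add_cancel (orderOf_pos y), pow_orderOf_eq_one, cj_one]
  refine diag_norm (C := 𝒞(S)) (l := Nat.find hex) (hz ▸ pow_orderOf_eq_one z) (fun h => ?_)
    (fun i j => ?_) (fun i hi hl => ?_) ?_
  · have : z ∈ S ⊓ 𝒞(S) := ⟨hzS, h⟩
    rw [(hc S hS).1, mem_bot] at this
    rw [this, orderOf_one] at hz
    omega
  · by_cases e : cj (y ^ i) S = cj (y ^ j) S
    · haveI := hcyc _ (hCi j)
      exact congrArg Subtype.val (mul_comm' (⟨_, hRi i, e ▸ hSi i⟩ : ↥(R ⊓ cj (y ^ j) S))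
        ⟨_, hRi j, hSi j⟩)
    · exact (comp_le_centralizer_of_ne (hCi i) (hCi j) e (hSi i) _ (hSi j)).symm
  · obtain ⟨k, rfl⟩ : ∃ k, i = k + 1 := ⟨i - 1, by omega⟩
    exact comp_le_centralizer_of_ne (hCi _) hS (Nat.find_min hex (by omega)) (hSi _)
  · refine diag_odd hz (Odd.of_dvd_nat hy (orderOf_pow_dvd _)) ?_
    refine diag_cyc (hcyc S hS) ⟨hzR, hzS⟩ ⟨hRi _, ?_⟩ hz ?_
    · have := hSi (Nat.find hex + 1)
      rwa [Nat.find_spec hex] at this
    · rw [conj_pow, ← hz, pow_orderOf_eq_one]; simp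

/-- The primes of the layer divide the order of a component (copy the proof of `hE` in `SpecSq.all60`). -/
theorem exists_comp_of_dvd {p : ℕ} (hp : p.Prime) (h : p ∣ Nat.card (layer Γ)) :
    ∃ L : Subgroup Γ, IsComponent L ∧ p ∣ Nat.card L := by
  by_contra hn
  push Not at hn
  have hE : IsPiSubgroup {p}ᶜ (layer Γ) := pigroupS (layer_le_iff.2 fun L hL =>
    pcore_max ⟨comp_le_layer hL, layer_le_normalizer_comp hL⟩ fun q hq hd => by
      intro (e : q = p)
      exact hn L hL (e ▸ hd)) (pcore_pgroup _ _)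
  exact hE p hp h rfl

end CfsgLib.RSQ
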