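import Mathlib
import Cfsg.Agent.Lib.RSQ.Defs

/-!
RSQ package FIX: fixed points of a lift of the element of a pair.
-/

set_option autoImplicit false
set_option Elab.async false
set_option linter.unusedSectionVars false
set_option linter.style.haveILetI false

namespace CfsgLib.RSQ

open Cfsg Subgroup CfsgLib.BG CfsgLib.CIT.App CfsgLib.Comp CfsgLib.SpecSq
open scoped commutatorElement

variable {G : Type*} [Group G] [Finite G] {Γ : Type*} [Group Γ] [Finite Γ] {π : G →* Γ}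
  {μ : Fin 5 → ℕ} {m : ℕ} {S S₁ S₂ : Subgroup Γ} {r f r₁ f₁ r₂ f₂ : ℕ}

theorem fix_lift (hr : r.Prime) {N : Subgroup G} (hK : ¬ r ∣ Nat.card ↥(N ⊓ π.ker)) {x : G} (hx : x ∈ N)
    (ho : orderOf (π x) = r) : ∃ y ∈ zpowers x, π y = π x ∧ orderOf y = r := by
  haveI := Fact.mk hr
  have h0 : π x ^ r = 1 := ho ▸ pow_orderOf_eq_one _
  obtain ⟨y, hy, e1, e, e2⟩ := lift_pow π (a := 1) hr x (by rw [pow_one, h0])
  have h1 : y ^ r ∈ N ⊓ π.ker :=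
    mem_inf.2 ⟨pow_mem (zpowers_le.2 hx hy) _, by rw [MonoidHom.mem_ker, map_pow, e1, h0]⟩
  have h2 : orderOf (y ^ r) ∣ r ^ e :=
    orderOf_dvd_of_pow_eq_one (by rw [← pow_mul, mul_comm, pow_mul, e2, one_pow])
  have h3 := Nat.eq_one_of_dvd_coprimes (((Nat.Prime.coprime_iff_not_dvd hr).2 hK).pow_left e) h2
    (order_dvdG h1)
  refine ⟨y, hy, e1, orderOf_eq_prime (orderOf_eq_one_iff.1 h3) fun h => hr.ne_one ?_⟩
  rw [← ho, ← e1, h, map_one, orderOf_one]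

theorem fix_conj (hr : r.Prime) {K : Subgroup G} (hK : ¬ r ∣ Nat.card K) {x z : G} (hx : x ∈ 𝒩(K))
    (h1 : orderOf x = r) (h2 : orderOf z = r) (h : z * x⁻¹ ∈ K) : ∃ k ∈ K, k * z * k⁻¹ ∈ zpowers x := by
  have hn : zpowers x ≤ 𝒩(K) := zpowers_le.2 hx
  have c1 : Nat.card (zpowers x) = r := (Nat.card_zpowers x).trans h1
  have c2 : Nat.card (zpowers z) = r := (Nat.card_zpowers z).trans h2
  have hS : IsSylowOf r (zpowers x) (zpowers x ⊔ K) :=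
    Sylow_intro le_sup_left (pgp_of_card_prime c1 hr) fun hd => hK (hd.trans (by
      have := card_sup_dvd (H := zpowers x) (K := K) (Or.inl hn)
      rw [← Lagrange (le_sup_left : zpowers x ≤ zpowers x ⊔ K)] at this
      exact Nat.dvd_of_mul_dvd_mul_left (cardG_pos _) this))
  have hz : z ∈ zpowers x ⊔ K := by
    rw [← inv_mul_cancel_right z x]
    exact mul_mem (mem_sup_right h) (mem_sup_left (mem_zpowers x))
  obtain ⟨u, hu, e⟩ := Sylow_Jsub hr hS (zpowers_le.2 hz) (pgp_of_card_prime c2 hr)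
  obtain ⟨b, hb, k, hk, rfl⟩ := (mem_sup_norm_r hn).1 hu
  refine ⟨k, hk, ?_⟩
  have := mul_mem (mul_mem (inv_mem hb) (cj_le_iff.1 e z (mem_zpowers z))) hb
  rwa [show b⁻¹ * (b * k * z * (b * k)⁻¹) * b = k * z * k⁻¹ by group] at this

/-- Core.  `lift_norm`, `lift_pow`: `Q ≤ N` a `t`-group over `Q'`, `x₁ ∈ N ⊓ 𝒩(Q)` an `r`-element over `x'`;
`x₁ ^ r ∈ N ⊓ ker` is an `r`-element, so `orderOf x₁ = r`.  If `P ⊓ 𝒞[x₁] = ⊥`, `sh` (with `X = zpowers x₁`;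
for `t = 2` the group `Q` is abelian by `abelem_two`) gives `⁅Q, X⁆ ≤ 𝒞(P)`; some `c = ⁅g, x₁⁆`, `g ∈ Q`, has
`1 ≠ π c ∈ S`; `Simp.cover_cent` gives that `N ⊓ 𝒞(P)` covers `S`; take the `r`-part of a lift of `x'` there. -/
theorem fix_core (hS : Simp S) (no4 : ¬ HasOrd G (2 ^ 2)) {t s : ℕ} (ht : t.Prime) (hr : r.Prime)
    (hs : s.Prime) (hrt : r ≠ t) (hst : s ≠ t) (hsr : s ≠ r) {Q' : Subgroup Γ} {x' : Γ} (hQS : Q' ≤ S)
    (hQ : IsPiSubgroup {t} Q') (hx : x' ∈ S) (hxQ : x' ∈ 𝒩(Q')) (ho : orderOf x' = r)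
    (hnc : x' ∉ 𝒞(Q')) {N P : Subgroup G} (hN : S ≤ N.map π) (hK : ¬ r ∣ Nat.card ↥(N ⊓ π.ker))
    (hP : IsPiSubgroup {s} P) (P1 : P ≠ ⊥) (hn : N ≤ 𝒩(P)) :
    ∃ x ∈ N, π x = x' ∧ orderOf x = r ∧ P ⊓ 𝒞[x] ≠ ⊥ := by
  obtain ⟨Q, h1, h2, rfl, x0, h4, h5, rfl⟩ := lift_norm π ht hQ (hQS.trans hN) (hN hx) hxQ
  obtain ⟨x, hx0, e, ho'⟩ := fix_lift hr hK h4 ho
  have hxN : x ∈ N := zpowers_le.2 h4 hx0
  by_cases hf : P ⊓ 𝒞[x] = ⊥
  swap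
  · exact ⟨x, hxN, e, ho', hf⟩
  have h8 := sh hs ht hr hrt hst hsr hP h2 ((Nat.card_zpowers x).trans ho') (h1.trans hn)
    (zpowers_le.2 (hn hxN)) (zpowers_le.2 (zpowers_le.2 h5 hx0)) (by rwa [cent_zpowers]) (by
      by_cases h : t = 2
      · subst h
        rw [abelian_iff_der1.1 (abelem_two no4 h2).1]
        exact Or.inr (Or.inl bot_le)
      · exact Or.inl h)
  rw [mem_cent_iff] at hnc
  push Not at hnc
  obtain ⟨_, ⟨g, hg, rfl⟩, hne⟩ := hnc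
  have h9 := hS.cover_cent hN hn (comm_mem (h1 hg) hxN) (h8 (commutator_mem_commutator hg (mem_zpowers _)))
    (by rw [map_commutatorElement, e]
        exact comm_mem (hQS (mem_map_of_mem π hg)) hx)
    (by rwa [map_commutatorElement, e, Ne, commutatorElement_eq_one_iff_mul_comm])
  obtain ⟨x1, k1, k2⟩ := h9 hx
  obtain ⟨y, hy, e', hy'⟩ := fix_lift hr hK k1.1 (k2 ▸ ho)
  refine ⟨y, zpowers_le.2 k1.1 hy, e'.trans k2, hy', ?_⟩
  rwa [inf_eq_left.2 (sub_cent1.2 (zpowers_le.2 k1.2 hy))]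

/-- One lift `x ∈ A` of order `r` works for all `H` and `s`.  Fix a lift `x ∈ A` of `x'` of order `r`.  Given
`H`, `s`: `A' = H ⊔ A`, `A' ⊓ ker = H ⊔ (A ⊓ ker)` (Dedekind) has order prime to `r`; `P` Sylow `s` of `H`,
`N = A' ⊓ 𝒩(P)` covers `S` (`Frattini_arg`); `fix_core` gives `x₃ ∈ N`.  In `Y = (A' ⊓ ker) ⊔ zpowers x` both
`zpowers x` and `zpowers x₃` are Sylow `r`-subgroups (order `r`, `|Y|` divides `r |A' ⊓ ker|`; `x₃ ∈ Y` since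
`x₃ x⁻¹ ∈ A' ⊓ ker`), so they are conjugate by some `y ∈ Y ≤ 𝒩(H)`, and `H ⊓ 𝒞[x]` contains the conjugate
of the nontrivial `s`-group `P ⊓ 𝒞[x₃]`. -/
theorem fix_all (hS : Simp S) (no4 : ¬ HasOrd G (2 ^ 2)) {t : ℕ} (ht : t.Prime) (hr : r.Prime)
    (hrt : r ≠ t) (hp : Pair S t r) {A : Subgroup G} (hA : S ≤ A.map π)
    (hK : ¬ r ∣ Nat.card ↥(A ⊓ π.ker)) :
    ∃ x ∈ A, π x ∈ S ∧ orderOf x = r ∧ ∀ H : Subgroup G, H ≤ π.ker → A ≤ 𝒩(H) → ¬ r ∣ Nat.card H →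
      ∀ s : ℕ, s.Prime → s ≠ t → s ∣ Nat.card H → s ∣ Nat.card ↥(H ⊓ 𝒞[x]) := by
  obtain ⟨Q', x', hQS, hQ, hx, hxQ, ho, hnc⟩ := hp
  obtain ⟨x0, h0, rfl⟩ := hA hx
  obtain ⟨x, hx0, e, ho'⟩ := fix_lift hr hK h0 ho
  have hxA : x ∈ A := zpowers_le.2 h0 hx0
  refine ⟨x, hxA, e ▸ hx, ho', fun H hH hAH hr' s hs hst hsH => ?_⟩
  have hsr : s ≠ r := fun h => hr' (h ▸ hsH)
  have hK' : ¬ r ∣ Nat.card ↥((H ⊔ A) ⊓ π.ker) := by
    rw [group_modl hH (Or.inr hAH)]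
    exact fun hd => (hr.dvd_mul.1 (hd.trans (card_sup_dvd (Or.inr (inf_le_left.trans hAH))))).elim hr' hK
  obtain ⟨P, hP⟩ := Sylow_exists hs H
  have hF := Frattini_arg hs (normalIn_sup_left hAH) hP
  obtain ⟨z, hz, e', hz', hne⟩ := fix_core (π := π) (N := (H ⊔ A) ⊓ 𝒩(P)) hS no4 ht hr hs hrt hst hsr hQS hQ hx
    hxQ ho hnc (hA.trans (map_le_of_sup π hH (le_sup_right.trans hF.ge)))
    (fun hd => hK' (hd.trans (cardSg (inf_le_inf_right _ inf_le_left)))) hP.2.1 (Sylow_ne_bot hs hP hsH)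
    inf_le_right
  have hxA' : x ∈ H ⊔ A := mem_sup_right hxA
  obtain ⟨k, hk, hkz⟩ := fix_conj hr hK' (x := x) (z := z)
    (normsGI (zpowers_le.2 hxA') le_normalizer_of_normal (mem_zpowers x)) ho' hz'
    (mem_inf.2 ⟨mul_mem (mem_inf.1 hz).1 (inv_mem hxA'), by
      rw [MonoidHom.mem_ker, map_mul, map_inv, e, e', mul_inv_cancel]⟩)
  have hc : 𝒞[x] = cj k 𝒞[z] := by
    rw [cj_cent1, ← cent_zpowers x]
    refine cent_prime_eq_cent1 (by rwa [Nat.card_zpowers, ho']) hkz fun h => hr.ne_one ?_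
    rw [← hz', ← orderOf_conj k z, h, orderOf_one]
  have hkH : k ∈ 𝒩(H) := (normalIn_sup_left hAH).norm hk.1
  have hle : cj k (P ⊓ 𝒞[z]) ≤ H ⊓ 𝒞[x] := by
    rw [cj_inf, hc]
    exact inf_le_inf_right _ (cj_le_of_mem_norm hkH hP.1)
  refine ((pgp_pdiv (pigroupS inf_le_left hP.2.1) hne).2).trans ?_
  rw [← card_cj k]
  exact cardSg hle

/-- `lift_cover` with `Q' = zpowers (π y)` (or Frattini in `ker ⊔ zpowers y`, where `zpowers y` is a Sylow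
`w`-subgroup): for `s ∈ S` a lift `g` of `s` can be chosen in `𝒩(zpowers y)`, and then
`⁅g, y⁆ ∈ ker ⊓ zpowers y = ⊥`. -/
theorem cent_lift (hπ : Function.Surjective π) {w : ℕ} (hw : w.Prime) {y : G} (hy : orderOf y = w)
    (hK : ¬ w ∣ Nat.card π.ker) (hc : π y ∈ 𝒞(S)) : S ≤ (𝒞[y]).map π := by
  intro s hs
  obtain ⟨g, rfl⟩ := hπ s
  have h1 : π g * π y = π y * π g := mem_cent_iff.1 hc _ hs
  have h2 : ∀ k ∈ π.ker, k * g * y * (k * g)⁻¹ * y⁻¹ ∈ π.ker := fun k hk => by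
    rw [MonoidHom.mem_ker] at hk ⊢
    simp only [map_mul, map_inv, hk, one_mul, h1, mul_inv_cancel_right, mul_inv_cancel]
  obtain ⟨k, hk, e⟩ := fix_conj hw hK (x := y) (z := g * y * g⁻¹)
    (le_normalizer_of_normal (mem_zpowers y)) hy ((orderOf_conj g y).trans hy)
    (by simpa using h2 1 (one_mem _))
  have h3 : zpowers y ⊓ π.ker = ⊥ := coprime_TIg (by
    rw [Nat.card_zpowers, hy]; exact (Nat.Prime.coprime_iff_not_dvd hw).2 hK)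
  have h4 : k * g * y * (k * g)⁻¹ * y⁻¹ ∈ zpowers y ⊓ π.ker := ⟨by
    have := mul_mem e (inv_mem (mem_zpowers y))
    rwa [show k * (g * y * g⁻¹) * k⁻¹ = k * g * y * (k * g)⁻¹ by group] at this, h2 k hk⟩
  rw [h3, mem_bot, mul_inv_eq_one, mul_inv_eq_iff_eq_mul] at h4
  exact ⟨k * g, mem_cent1.2 h4, by rw [map_mul, MonoidHom.mem_ker.1 hk, one_mul]⟩

end CfsgLib.RSQ
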