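import Mathlib
import Cfsg.Agent.Lib.RSQ.Defs
import Cfsg.Agent.Lib.HallNum.Bwd

/-!
RSQ package GEN: general lemmas for the models.
-/

set_option autoImplicit false
set_option linter.unusedSectionVars false
set_option linter.style.haveILetI false

namespace CfsgLib.RSQ

open Cfsg Subgroup CfsgLib.BG CfsgLib.CIT.App CfsgLib.Comp CfsgLib.SpecSq
open scoped commutatorElement

variable {G : Type*} [Group G] [Finite G] {Γ : Type*} [Group Γ] [Finite Γ] {π : G →* Γ}
  {μ : Fin 5 → ℕ} {m : ℕ} {S S₁ S₂ : Subgroup Γ} {r f r₁ f₁ r₂ f₂ : ℕ}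

/-- an element order `k` containing the full `w`-part of `|S|`: the Sylow `w`-subgroup of the cyclic group
`zpowers x` is a Sylow subgroup of `S`; every `w`-subgroup is conjugate into it (`Sylow_Jsub`) -/
theorem cycS_of_hasOrd {w k c : ℕ} (hw : w.Prime) (hk : HasOrd S k) (hc : Nat.card S ∣ k * c)
    (hn : ¬ w ∣ c) : CycS w S := by
  obtain ⟨x, hx, rfl⟩ := hasOrd_sub.1 hk
  obtain ⟨P, hP⟩ := Sylow_exists hw (zpowers x)
  have hxS : zpowers x ≤ S := zpowers_le.2 hx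
  have hS : IsSylowOf w P S := by
    refine Sylow_intro (hP.1.trans hxS) hP.2.1 ?_
    rw [← relIndex_mul_relIndex P (zpowers x) S hP.1 hxS]
    intro h
    rcases (Nat.Prime.dvd_mul hw).1 h with h | h
    · exact Sylow_index hw hP h
    · refine hn (h.trans ?_)
      have e : Nat.card S = orderOf x * (zpowers x).relIndex S := by
        rw [← Nat.card_zpowers, relIndex, ← Nat.card_congr (subgroupOfEquivOfLe hxS).toEquiv,
          card_mul_index]
      rw [e] at hc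
      exact Nat.dvd_of_mul_dvd_mul_left (orderOf_pos x) hc
  intro R hR hRp
  obtain ⟨g, -, h⟩ := Sylow_subJ hw hS hR hRp
  refine cyclicS (h.trans (cj_mono _ hP.1)) ?_
  rw [cj_zpowers]
  exact cyclic_iff_zpowers.2 ⟨_, rfl⟩

/-- subgroups of order `w` are conjugate if the Sylow `w`-subgroups are cyclic -/
theorem CycS.line {x y : Γ} (hx : x ∈ S) (hy : y ∈ S) (hp : (orderOf x).Prime)
    (hc : CycS (orderOf x) S) (e : orderOf y = orderOf x) : ∃ s ∈ S, cj s (zpowers y) = zpowers x := by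
  have pi : ∀ z : Γ, orderOf z = orderOf x → IsPiSubgroup {orderOf x} (zpowers z) := fun z ez p h1 h2 => by
    rw [Nat.card_zpowers, ez] at h2
    exact (Nat.prime_dvd_prime_iff_eq h1 hp).1 h2
  obtain ⟨P, hP, h1⟩ := Sylow_superset hp (zpowers_le.2 hx) (pi x rfl)
  obtain ⟨s, hs, h2⟩ := Sylow_Jsub hp hP (zpowers_le.2 hy) (pi y e)
  exact ⟨s, hs, eq_subG_cyclic (hc P hP.1 hP.2.1) h2 h1
    (by rw [card_cj, Nat.card_zpowers, Nat.card_zpowers, e])⟩

/-- a group of order not divisible by four is solvable (cyclic Sylow 2-subgroup, normal 2-complement,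
`FT.odd_order_solvable`) -/
theorem sol_of_not_four {H : Subgroup Γ} (h : ¬ 4 ∣ Nat.card H) : Group.IsSolvable H := by
  exact HallNum.solv_of_not_four h

section Transfer

variable {M : Type*} [Group M] [Finite M] (e : S ≃* M)
include e

theorem Pair.of_equiv {t : ℕ} (h : Pair (⊤ : Subgroup M) t r) : Pair S t r := by
  obtain ⟨Q, x, -, hQ, -, hn, ho, hc⟩ := h
  have hi : Function.Injective (S.subtype.comp e.symm.toMonoidHom) :=
    S.subtype_injective.comp e.symm.injective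
  refine ⟨Q.map (S.subtype.comp e.symm.toMonoidHom), (S.subtype.comp e.symm.toMonoidHom) x, ?_,
    map_pigroup _ hQ, (e.symm x).2, le_normalizer_map _ (mem_map_of_mem _ hn),
    by rw [orderOf_injective _ hi, ho], fun h => hc fun y hy => hi ?_⟩
  · rintro _ ⟨y, -, rfl⟩
    exact (e.symm y).2
  · rw [map_mul, map_mul]
    exact h _ (mem_map_of_mem _ hy)

theorem line_of_equiv (h : ∀ x y : M, (orderOf x).Prime → 5 ≤ orderOf x → orderOf y = orderOf x →
    ∃ s, cj s (zpowers y) = zpowers x) : ∀ x ∈ S, ∀ y ∈ S, (orderOf x).Prime → 5 ≤ orderOf x →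
      orderOf y = orderOf x → ∃ s ∈ S, cj s (zpowers y) = zpowers x := by
  intro x hx y hy hp h5 eo
  have o : ∀ z (hz : z ∈ S), orderOf (e ⟨z, hz⟩) = orderOf z := fun z hz => by
    rw [MulEquiv.orderOf_eq, orderOf_mk]
  obtain ⟨s, hs⟩ := h (e ⟨x, hx⟩) (e ⟨y, hy⟩) (by rwa [o]) (by rwa [o]) (by rw [o, o, eo])
  refine ⟨e.symm s, (e.symm s).2, ?_⟩
  rw [cj_zpowers] at hs ⊢
  have h1 := congrArg (Subgroup.map (S.subtype.comp e.symm.toMonoidHom)) hs
  simpa [MonoidHom.map_zpowers] using h1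

theorem cent_of_equiv (h : ∀ x : M, (orderOf x).Prime → 5 ≤ orderOf x → Group.IsSolvable ↥𝒞[x]) :
    ∀ x ∈ S, (orderOf x).Prime → 5 ≤ orderOf x → Group.IsSolvable ↥(S ⊓ 𝒞[x]) := by
  intro x hx hp h5
  have o : orderOf (e ⟨x, hx⟩) = orderOf x := by rw [MulEquiv.orderOf_eq, orderOf_mk]
  have h1 := h (e ⟨x, hx⟩) (by rwa [o]) (by rwa [o])
  have h2 := Core.isSolvable_map (S.subtype.comp e.symm.toMonoidHom) 𝒞[e ⟨x, hx⟩]
  refine Core.isSolvable_of_le (K := (𝒞[e ⟨x, hx⟩]).map (S.subtype.comp e.symm.toMonoidHom))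
    fun y hy => ?_
  refine ⟨e ⟨y, hy.1⟩, mem_centralizer_singleton_iff.2 ?_, by simp⟩
  rw [← map_mul, ← map_mul]
  exact congrArg e (Subtype.ext (mem_centralizer_singleton_iff.1 hy.2))

theorem CycS.of_equiv {w : ℕ} (h : CycS w (⊤ : Subgroup M)) : CycS w S := by
  intro R hR hRp
  have h1 := h ((R.subgroupOf S).map e.toMonoidHom) le_top (map_pigroup _ fun p h1 h2 => hRp p h1 (by
    rwa [Nat.card_congr (subgroupOfEquivOfLe hR).toEquiv] at h2))
  exact ((subgroupOfEquivOfLe hR).symm.trans (e.subgroupMap _)).isCyclic.2 h1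

/-- `pow_card_out_mem`, `MultC.card_out_congr` -/
theorem out_of_equiv {k : ℕ} (h : Nat.card (Out M) ∣ k) : ∀ g ∈ 𝒩(S), g ^ k ∈ S ⊔ 𝒞(S) := by
  intro g hg
  obtain ⟨c, rfl⟩ := h
  rw [← MultC.card_out_congr e, pow_mul]
  exact pow_mem (pow_card_out_mem S hg) c

end Transfer

/-- an element of order `r` normalising a nontrivial `t`-subgroup when `t r` is not an element order -/
theorem pair_of_no {t : ℕ} (ht : t.Prime) (hr : r.Prime) (htr : t ≠ r) (hno : ¬ HasOrd S (t * r))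
    {Q : Subgroup Γ} (hQS : Q ≤ S) (hQ : IsPiSubgroup {t} Q) (h1 : Q ≠ ⊥)
    (hd : r ∣ Nat.card ↥(S ⊓ 𝒩(Q))) : Pair S t r := by
  obtain ⟨⟨x, hx⟩, e1⟩ := hasOrd_of_prime_dvd hr hd
  rw [← orderOf_coe] at e1
  refine ⟨Q, x, hQS, hQ, hx.1, hx.2, e1, fun hc => hno (hasOrd_sub.2 ?_)⟩
  exact exists_mul_of_cent ht hr htr (pgp_pdiv hQ h1).2 (P := zpowers x)
    (by rw [Nat.card_zpowers, e1]) (zpowers_le.2 hc) hQS (zpowers_le.2 hx.1)

end CfsgLib.RSQ
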