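import Mathlib
import Cfsg.Agent.Lib.RSQ.Defs

/-!
RSQ package HYP: an elementary abelian group of rank three acting coprimely.
-/

set_option autoImplicit false
set_option linter.unusedSectionVars false
set_option linter.style.haveILetI false

namespace CfsgLib.RSQ

open Cfsg Subgroup CfsgLib.BG CfsgLib.CIT.App CfsgLib.Comp CfsgLib.SpecSq
open scoped commutatorElement

variable {G : Type*} [Group G] [Finite G] {Γ : Type*} [Group Γ] [Finite Γ] {π : G →* Γ}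
  {μ : Fin 5 → ℕ} {m : ℕ} {S S₁ S₂ : Subgroup Γ} {r f r₁ f₁ r₂ f₂ : ℕ}

/-- Take `E₂ ≤ E` of rank two; `gen` gives a line `X₁` with `P₁ = P ⊓ 𝒞(X₁) ≠ ⊥`; `E` (abelian) normalises
`P₁`; take `E₂' ≤ E` of rank two with `X₁ ⊓ E₂' = ⊥` (complement), `gen` gives a line `X₂ ≤ E₂'` with
`P₁ ⊓ 𝒞(X₂) ≠ ⊥`; `F = X₁ ⊔ X₂` (`p1Elem_sup` / `pnElem2_of_two_lines`). -/
theorem hyp2 (hr : r.Prime) {H E P : Subgroup G} (hE : PnElem r 3 H E) (hP : E ≤ 𝒩(P))
    (hc : (Nat.card P).Coprime r) (h1 : P ≠ ⊥) : ∃ F, PnElem r 2 E F ∧ P ⊓ 𝒞(F) ≠ ⊥ := by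
  obtain ⟨E₂, hE₂⟩ := hE.exists_sub hr (m := 2) (by omega)
  have cop : ∀ {K A : Subgroup G}, K ≤ P → A ≤ E → (Nat.card K).Coprime (Nat.card A) := by
    intro K A hK hA
    refine coprimeSS hK hA ?_
    rw [hE.card]; exact hc.pow_right _
  obtain ⟨X₁, hX₁, n1⟩ := gen hr hE₂ (hE₂.le.trans hP) (cop le_rfl hE₂.le) h1
  have hX₁E : X₁ ≤ E := hX₁.le.trans hE₂.le
  obtain ⟨C, hC⟩ := abelem_splits hr hE.abelem hX₁E
  have hCE : C ≤ E := hC.le_right
  have hCc : Nat.card C = r ^ 2 := by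
    have := hC.card
    rw [hX₁.card, hE.card] at this
    have h2 : r ^ 3 = r ^ 1 * r ^ 2 := by ring
    rw [h2] at this
    exact Nat.eq_of_mul_eq_mul_left (pow_pos hr.pos 1) this
  have hC2 : PnElem r 2 E C := ⟨hCE, abelemS hCE hE.abelem, hCc⟩
  have hn : E ≤ 𝒩(P ⊓ 𝒞(X₁)) :=
    normsI hP (norms_cent (cents_norm (centsS hX₁E hE.cents)))
  obtain ⟨X₂, hX₂, n2⟩ := gen hr hC2 (hCE.trans hn) (cop inf_le_left hCE) n1
  have hne : X₁ ≠ X₂ := by
    rintro rfl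
    exact hX₁.ne_bot1 hr (le_bot_iff.1 (hC.TI ▸ le_inf le_rfl hX₂.le))
  refine ⟨X₁ ⊔ X₂, p1Elem_sup hr (hX₁.of_le hX₁E) (hX₂.mono hCE)
    (centSS hX₁E (hX₂.le.trans hCE) hE.cents) hne, ?_⟩
  rwa [centY, ← inf_assoc]

/-- `hyp2` for `P`, then `gen` for `F` acting on `Q`; then `hasOrd_three`. -/
theorem hyp_ord {a b : ℕ} (hr : r.Prime) (ha : a.Prime) (hb : b.Prime) (hra : r ≠ a) (hrb : r ≠ b)
    (hab : a ≠ b) {H E P Q : Subgroup G} (hE : PnElem r 3 H E) (hP : IsPiSubgroup {a} P)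
    (hQ : IsPiSubgroup {b} Q) (P1 : P ≠ ⊥) (Q1 : Q ≠ ⊥) (nP : E ≤ 𝒩(P)) (nQ : E ≤ 𝒩(Q))
    (hc : P ≤ 𝒞(Q)) : HasOrd G (r * a * b) := by
  have cr : ∀ {s : ℕ} {K : Subgroup G}, IsPiSubgroup {s} K → r ≠ s → (Nat.card K).Coprime r :=
    fun h hne => (p'group_iff_coprime hr).1 (pgp_p'group h hne.symm)
  obtain ⟨F, hF, n1⟩ := hyp2 hr hE nP (cr hP hra) P1
  obtain ⟨X, hX, n2⟩ := gen hr hF (hF.le.trans nQ)
    (by rw [hF.card]; exact (cr hQ hrb).pow_right _) Q1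
  refine hasOrd_three (A := X) (B := P ⊓ 𝒞(F)) (C := Q ⊓ 𝒞(X)) ?_ ?_ ?_ hr ha hb hra hrb hab
    (hX.prime_dvd_self one_ne_zero) (pgp_pdiv (pigroupS inf_le_left hP) n1).2
    (pgp_pdiv (pigroupS inf_le_left hQ) n2).2
  · exact cents_symm (inf_le_right.trans (centS hX.le))
  · exact cents_symm inf_le_right
  · exact centSS inf_le_left inf_le_left hc

/-- An element `c` of prime order normalising a solvable `{a, b}`-group `M` without fixed points: `M` is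
nilpotent (`prime_Frobenius_sol_kernel_nil`), so `opOf a M` and `opOf b M` are its Sylow subgroups and
commute; they are normalised by whatever normalises `M`. -/
theorem fpf_ord {a b : ℕ} (hr : r.Prime) (ha : a.Prime) (hb : b.Prime) (hra : r ≠ a) (hrb : r ≠ b)
    (hab : a ≠ b) {H E M : Subgroup G} (hE : PnElem r 3 H E) (hM : IsPiSubgroup {a, b} M)
    (hs : Group.IsSolvable M) (da : a ∣ Nat.card M) (db : b ∣ Nat.card M) (hn : E ≤ 𝒩(M)) {c : G}
    (hc : (orderOf c).Prime) (hca : orderOf c ≠ a) (hcb : orderOf c ≠ b) (hcM : c ∈ 𝒩(M))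
    (hfix : M ⊓ 𝒞[c] = ⊥) : HasOrd G (r * a * b) := by
  have hN : Group.IsNilpotent M := prime_regular_sol_nil (R := zpowers c) (zpowers_le.2 hcM) hs
    (by rwa [Nat.card_zpowers]) (by rwa [cent_zpowers])
  have _ := hM
  have _ := hca
  have _ := hcb
  exact hyp_ord hr ha hb hra hrb hab hE (pcore_pgroup {a} M) (pcore_pgroup {b} M)
    (pHall_ne_bot (nilpotent_pcore_Hall {a} hN) ha rfl da)
    (pHall_ne_bot (nilpotent_pcore_Hall {b} hN) hb rfl db) (norms_pcore _ hn) (norms_pcore _ hn)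
    (pcore_cent_pcore_of_disjoint (fun p _ h1 h2 => hab (h1.symm.trans h2)) M)

theorem r3_aux {a b c : ℕ} (hr : r.Prime) (ha : a.Prime) (hb : b.Prime) (hc : c.Prime) (hra : r ≠ a)
    (hrb : r ≠ b) (hrc : r ≠ c) (hab : a ≠ b) (hac : a ≠ c) (hbc : b ≠ c)
    (n1 : ¬ HasOrd G (r * a * b)) (n2 : ¬ HasOrd G (r * a * c)) (n3 : ¬ HasOrd G (r * b * c))
    {H E L : Subgroup G} (hE : PnElem r 3 H E) (hL : ¬ r ∣ Nat.card L)
    (hs : Group.IsSolvable L) (hn : E ≤ 𝒩(L)) (dc : c ∣ Nat.card L) {N : Subgroup G} (hN : N ⊲ L)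
    (hNp : IsPiSubgroup {a, b} N) (da : a ∣ Nat.card N) (db : b ∣ Nat.card N) : False := by
  have hNM : N ≤ piCoreOf {a, b} L := pcore_max hN hNp
  set M := piCoreOf {a, b} L with hM
  have hML : M ≤ L := pcore_sub _ _
  have hMp : IsPiSubgroup {a, b} M := pcore_pgroup _ _
  have cop : ∀ {K A : Subgroup G}, K ≤ L → A ≤ E → (Nat.card K).Coprime (Nat.card A) := by
    intro K A hK hA
    refine coprimeSS hK hA ?_
    rw [hE.card]; exact ((hr.coprime_iff_not_dvd.2 hL).symm).pow_right _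
  obtain ⟨R, hR, hER⟩ := coprime_Sylow_exists hc hn (cop le_rfl le_rfl) (Or.inr hs)
  obtain ⟨F, hF, hF1⟩ := hyp2 hr hE hER
    (coprimeSg hR.1 (hr.coprime_iff_not_dvd.2 hL).symm) (pHall_ne_bot hR hc rfl dc)
  obtain ⟨z, hz, hzo⟩ := Cauchy hc (pgp_pdiv (pigroupS inf_le_left (pHall_pgroup hR)) hF1).2
  have hzM : z ∈ 𝒩(M) := pcore_norm _ _ (hR.1 hz.1)
  by_cases hfix : M ⊓ 𝒞[z] = ⊥
  · exact n1 (fpf_ord hr ha hb hra hrb hab hE hMp (solvableS hML hs) (da.trans (cardSg hNM))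
      (db.trans (cardSg hNM)) (norms_pcore _ hn) (c := z) (hzo ▸ hc) (hzo ▸ hac.symm)
      (hzo ▸ hbc.symm) hzM hfix)
  · have hFz : F ≤ 𝒞[z] := sub_cent1.2 hz.2
    obtain ⟨X, hX, hX1⟩ := gen hr hF (normsI (hF.le.trans (norms_pcore _ hn)) (norms_cent1 hFz))
      (cop (inf_le_left.trans hML) hF.le) hfix
    obtain ⟨s, hs', hd⟩ := exists_prime_dvd_card hX1
    have hsm : s ∈ ({a, b} : Set ℕ) :=
      pigroupS (inf_le_left.trans inf_le_left) hMp s hs' hd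
    have key : r ≠ s → s ≠ c → HasOrd G (r * s * c) := fun h1 h2 =>
      hasOrd_three (A := X) (B := M ⊓ 𝒞[z] ⊓ 𝒞(X)) (C := zpowers z) (cents_symm inf_le_right)
        (by rw [cent_zpowers]; exact hX.le.trans hFz)
        (by rw [cent_zpowers]; exact inf_le_left.trans inf_le_right) hr hs' hc h1 hrc h2
        (hX.prime_dvd_self one_ne_zero) hd (by rw [Nat.card_zpowers, hzo])
    rcases hsm with rfl | rfl
    · exact n2 (key hra hac)
    · exact n3 (key hrb hbc)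

/-- a solvable group whose order has two different primes has a normal `{s, t}`-subgroup with order
divisible by `s` and `t` -/
theorem exists_two {L : Subgroup G} (hs : Group.IsSolvable L) {a b : ℕ} (ha : a.Prime) (hb : b.Prime)
    (hab : a ≠ b) (da : a ∣ Nat.card L) (db : b ∣ Nat.card L) :
    ∃ (s t : ℕ) (N : Subgroup G), s.Prime ∧ t.Prime ∧ s ≠ t ∧ N ⊲ L ∧ IsPiSubgroup {s, t} N ∧
      s ∣ Nat.card N ∧ t ∣ Nat.card N := by
  obtain ⟨s, hs', h1⟩ := sol_exists_opOf_ne_bot hs (ne_bot_of_prime_dvd ha da)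
  have hO : opOf s L ⊲ L := pcore_normal _ _
  have hq : L ⧸⧸ opOf s L ≠ ⊥ := by
    intro h
    have hle := (quo_eq_bot_iff hO.2).1 h
    have hp : IsPiSubgroup {s} L := pigroupS hle (pcore_pgroup _ _)
    exact hab ((pgp_prime_eq hp ha da).trans (pgp_prime_eq hp hb db).symm)
  obtain ⟨t, ht, h2⟩ := sol_exists_opOf_ne_bot (H := L ⧸⧸ opOf s L) (mim_isSolvable _ hs) hq
  have hst : s ≠ t := by
    rintro rfl
    exact h2 (trivg_pcore_quo {s} L)
  refine ⟨s, t, coquo (opOf s L) (opOf t (L ⧸⧸ opOf s L)), hs', ht, hst,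
    coquo_normalIn_of_normalIn_quo hO (pcore_normal _ _),
    coquo_pigroup (pi_pgp (pcore_pgroup _ _) (Or.inl rfl)) (pi_pgp (pcore_pgroup _ _) (Or.inr rfl)),
    ?_, ?_⟩
  · rw [card_coquo]; exact (pgp_pdiv (pcore_pgroup _ _) h1).2.mul_left _
  · rw [card_coquo]; exact (pgp_pdiv (pcore_pgroup _ _) h2).2.mul_right _

/-- Auxiliary form of `r3`: assume the largest normal `{a, b}`-subgroup `M` of `L` has order divisible by
`a` and `b`.  Take an `E`-invariant Sylow `c`-subgroup `R` of `L` (`coprime_Sylow_exists`), `hyp2` gives `F`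
of rank two centralising an element `z ∈ R` of order `c`.  `F` normalises `M ⊓ 𝒞[z]`; if this is not `⊥`,
`gen` gives a line `X ≤ F` with a fixed point of order `a` or `b` in it: order `r a c` or `r b c`.  Otherwise
`fpf_ord`.
Main form: `L ≠ ⊥` is solvable, so some `opOf s L ≠ ⊥`, say `s = a`; `L ⧸⧸ opOf a L` is a nontrivial
solvable group with trivial `O_a`, so its `O_b` or `O_c` is nontrivial, say `O_b`; its preimage is a normal
`{a, b}`-subgroup of `L` with order divisible by `a b`.  (All six orders of `a b c` are symmetric.) -/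
theorem r3 {a b c : ℕ} (hr : r.Prime) (ha : a.Prime) (hb : b.Prime) (hc : c.Prime) (hra : r ≠ a)
    (hrb : r ≠ b) (hrc : r ≠ c) (hab : a ≠ b) (hac : a ≠ c) (hbc : b ≠ c)
    (n1 : ¬ HasOrd G (r * a * b)) (n2 : ¬ HasOrd G (r * a * c)) (n3 : ¬ HasOrd G (r * b * c))
    {H E L : Subgroup G} (hE : PnElem r 3 H E) (hL : IsPiSubgroup {a, b, c} L)
    (hs : Group.IsSolvable L) (hn : E ≤ 𝒩(L)) (da : a ∣ Nat.card L) (db : b ∣ Nat.card L)
    (dc : c ∣ Nat.card L) : False := by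
  have hLr : ¬ r ∣ Nat.card L := pigroup_not_dvd hL hr (by
    rintro (h | h | h)
    exacts [hra h, hrb h, hrc h])
  have sw : ∀ x y : ℕ, ¬ HasOrd G (r * x * y) → ¬ HasOrd G (r * y * x) := fun x y h => by
    rwa [mul_right_comm]
  obtain ⟨s, t, N, hs', ht, hst, hN, hNp, ds, dt⟩ := exists_two hs ha hb hab da db
  have h1 : s ∈ ({a, b, c} : Set ℕ) := hL s hs' (ds.trans (cardSg hN.1))
  have h2 : t ∈ ({a, b, c} : Set ℕ) := hL t ht (dt.trans (cardSg hN.1))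
  rcases h1 with rfl | rfl | rfl <;> rcases h2 with rfl | rfl | rfl
  · exact hst rfl
  · exact r3_aux hr ha hb hc hra hrb hrc hab hac hbc n1 n2 n3 hE hLr hs hn dc hN hNp ds dt
  · exact r3_aux hr ha hc hb hra hrc hrb hac hab hbc.symm n2 n1 (sw _ _ n3) hE hLr hs hn db hN hNp ds dt
  · exact r3_aux hr hb ha hc hrb hra hrc hab.symm hbc hac (sw _ _ n1) n3 n2 hE hLr hs hn dc hN hNp ds dt
  · exact hst rfl
  · exact r3_aux hr hb hc ha hrb hrc hra hbc hab.symm hac.symm n3 (sw _ _ n1) (sw _ _ n2) hE hLr hs hn da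
      hN hNp ds dt
  · exact r3_aux hr hc ha hb hrc hra hrb hac.symm hbc.symm hab (sw _ _ n2) (sw _ _ n3) n1 hE hLr hs hn db
      hN hNp ds dt
  · exact r3_aux hr hc hb ha hrc hrb hra hbc.symm hac.symm hab.symm (sw _ _ n3) (sw _ _ n2) (sw _ _ n1) hE
      hLr hs hn da hN hNp ds dt
  · exact hst rfl

end CfsgLib.RSQ
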