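import Mathlib
import Cfsg.Agent.Lib.RSQ.Defs
import Cfsg.Agent.Lib.RP.Ker3

/-!
RSQ package JORD: two commuting Jordan blocks of size at least five give an element of order 27.
-/

set_option autoImplicit false
set_option linter.unusedSectionVars false
set_option linter.style.haveILetI false

namespace CfsgLib.RSQ

open Cfsg Subgroup CfsgLib.BG CfsgLib.CIT.App CfsgLib.Comp CfsgLib.SpecSq
open scoped commutatorElement

variable {G : Type*} [Group G] [Finite G] {Γ : Type*} [Group Γ] [Finite Γ] {π : G →* Γ}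
  {μ : Fin 5 → ℕ} {m : ℕ} {S S₁ S₂ : Subgroup Γ} {r f r₁ f₁ r₂ f₂ : ℕ}

/-- In a ring of characteristic three: commuting `X, Y` with `X ^ (a+1) = 0 = Y ^ (b+1)`, `X ^ a Y ^ b ≠ 0`,
`a, b ≥ 4`.  Then `X ^ (a-4) Y ^ (b-4) (X + Y + X Y) ^ 8 = 70 X ^ a Y ^ b = X ^ a Y ^ b`: with `P = X^(a-4) Y^(b-4)`
one has `P X ^ 5 = 0 = P Y ^ 5`; work in the commutative subring (`Commute`, or `Algebra.adjoin`, or map from
`MvPolynomial`/`Polynomial`), expand `(X + Y + X Y) ^ 8 = 70 X⁴ Y⁴ + X⁵ (…) + Y⁵ (…)`. -/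
theorem ring8 {R : Type*} [Ring R] (h3 : (3 : R) = 0) {X Y : R} (hc : Commute X Y) {a b : ℕ}
    (ha : 4 ≤ a) (hb : 4 ≤ b) (hX : X ^ (a + 1) = 0) (hY : Y ^ (b + 1) = 0) (h : X ^ a * Y ^ b ≠ 0) :
    ((1 + X) * (1 + Y) - 1) ^ 8 ≠ 0 := by
  obtain ⟨a, rfl⟩ := Nat.exists_eq_add_of_le' ha
  obtain ⟨b, rfl⟩ := Nat.exists_eq_add_of_le' hb
  have h1 := (RP.lin_core' h3 hc a b).1 hX hY
  intro h0
  rw [add_comm 1 X, add_comm 1 Y] at h0
  generalize (X + 1) * (Y + 1) = T at h0 h1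
  have e : ∑ j ∈ Finset.range 9, (Polynomial.X : Polynomial ℤ) ^ j = (Polynomial.X - 1) ^ 8 + 3 * (3 * Polynomial.X ^ 7 -
      9 * Polynomial.X ^ 6 + 19 * Polynomial.X ^ 5 - 23 * Polynomial.X ^ 4 + 19 * Polynomial.X ^ 3 - 9 * Polynomial.X ^ 2 +
      3 * Polynomial.X) := by
    simp only [Finset.sum_range_succ, Finset.sum_range_zero]
    ring
  have e' := congrArg (Polynomial.aeval T) e
  rw [map_add, map_mul, map_ofNat, h3, zero_mul, add_zero, map_pow, map_sub, map_one, Polynomial.aeval_X, h0, map_sum] at e'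
  simp only [map_pow, Polynomial.aeval_X] at e'
  rw [e', mul_zero] at h1
  exact h h1.symm

/-- Let `ρ : G →* End (Additive V)` (a `ZMod 3`-module, or just `AddMonoid.End`) be conjugation,
`X = ρ x - 1`, `Y = ρ y - 1`; `X ^ 9 = ρ (x ^ 9) - 1 = 0`, `X ^ 6 = (ρ (x ^ 3) - 1) ^ 2 ≠ 0` by `qx` (if
`(z - 1)² = 0` then `⁅V, zpowers z⁆ ≤ V ⊓ 𝒞[z]`).  Let `a` be maximal with `X ^ a ≠ 0`, `b` for `Y`.
`X ^ a Y ^ b ≠ 0`: `V₀ = {v | ∀ g ∈ A, X ^ a (ρ g v) = 0}` is invariant under `A` and under `B` (`ρ B` commutes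
with `ρ A` by `hc`), hence under `G`, and `V₀ ≠ V`, so `V₀ = 0` (`hmin`); if `X ^ a Y ^ b = 0` then
`Y ^ b V ≤ V₀` (`Y` commutes with `ρ A`), so `Y ^ b = 0`.  By `ring8`, `N = (ρ u - 1) ^ 8 ≠ 0` for `u = x y`, and
`N = 1 + ρ u + … + (ρ u) ^ 8` in characteristic three.  If `u ^ 9 ≠ 1` then `u` has order 27 (`u ^ 9 ∈ V`);
otherwise `(v u) ^ 9 = N v * u ^ 9 ≠ 1` for some `v ∈ V`, and `v u` has order 27. -/
theorem jord {V A B : Subgroup G} (hV : IsElementaryAbelian 3 V) (hn : ⊤ ≤ 𝒩(V))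
    (hmin : ∀ N : Subgroup G, N ≤ V → ⊤ ≤ 𝒩(N) → N = ⊥ ∨ N = V) (hAB : A ⊔ B = ⊤)
    (hc : ⁅A, B⁆ ≤ 𝒞(V)) {x y : G} (hx : x ∈ A) (hy : y ∈ B) (x9 : x ^ 9 ∈ 𝒞(V)) (y9 : y ^ 9 ∈ 𝒞(V))
    (qx : ⁅⁅V, zpowers (x ^ 3)⁆, zpowers (x ^ 3)⁆ ≠ ⊥) (qy : ⁅⁅V, zpowers (y ^ 3)⁆, zpowers (y ^ 3)⁆ ≠ ⊥)
    (h9 : (x * y) ^ 9 ∈ V) : HasOrd G (3 ^ 3) := by
  obtain ⟨ρ, hρ⟩ : ∃ ρ : G →* Module.End (ZMod 3) (PLocal.ElemMod hV), ∀ g x, (ρ g x).toG = g * x.toG * g⁻¹ :=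
    ⟨(PLocal.ElemMod.rep hV (H := ⊤) hn).comp topEquiv.symm.toMonoidHom, fun _ _ => rfl⟩
  have k1 : ∀ g ∈ 𝒞(V), ρ g = 1 := fun g hg => LinearMap.ext fun x => PLocal.ElemMod.toG_injective (by
    rw [hρ, ← hg _ x.toG_mem, mul_inv_cancel_right]; rfl)
  have k3 : ∀ c ∈ B, ∀ s ∈ A, Commute (ρ c) (ρ s) := fun c hc' s hs => by
    have := k1 _ (hc (commutator_mem_commutator hs hc'))
    rw [Commute, SemiconjBy, ← map_mul, ← map_mul, show s * c = ⁅s, c⁆ * (c * s) by rw [commutatorElement_def]; group,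
      map_mul ρ ⁅s, c⁆, this, one_mul]
  have dec : ∀ g, ∃ s ∈ A, ∃ c, (∀ s' ∈ A, Commute (ρ c) (ρ s')) ∧ ρ g = ρ s * ρ c := fun g => by
    have h1 : ρ.toHomUnits g ∈ A.map ρ.toHomUnits ⊔ 𝒞(A.map ρ.toHomUnits) := by
      refine (show (A ⊔ B).map ρ.toHomUnits ≤ _ from ?_) (mem_map_of_mem _ (hAB ▸ mem_top g))
      rw [Subgroup.map_sup]
      refine sup_le_sup_left ?_ _
      rintro _ ⟨c, hc', rfl⟩ _ ⟨s, hs, rfl⟩
      exact Units.ext (k3 c hc' s hs).symm.eq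
    obtain ⟨_, ⟨s, hs, rfl⟩, c, hc', e⟩ := (Core.mem_sup_of_le_normalizer_left (centralizer_le_normalizer _)).1 h1
    have e2 : ρ.toHomUnits (s⁻¹ * g) = c := by rw [map_mul, map_inv, ← e, inv_mul_cancel_left]
    refine ⟨s, hs, s⁻¹ * g, fun s' hs' => ?_, by rw [← map_mul, mul_inv_cancel_left]⟩
    have := congrArg Units.val (hc' _ (mem_map_of_mem ρ.toHomUnits hs'))
    rw [← e2] at this
    exact this.symm
  have key := RP.lin27 ρ (fun W hW => by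
      rcases hmin (PLocal.ElemMod.toSubgroup W) (PLocal.ElemMod.toSubgroup_le W) (by
        haveI : (PLocal.ElemMod.toSubgroup W).Normal := ⟨by
          rintro _ ⟨x, hx, rfl⟩ g
          exact ⟨_, hW g x hx, hρ g x⟩⟩
        exact le_normalizer_of_normal) with e | e
      · exact .inl (eq_bot_iff.2 fun x hx => (Submodule.mem_bot _).2 (PLocal.ElemMod.toG_eq_one.1
          (mem_bot.1 (e ▸ PLocal.ElemMod.toG_mem_toSubgroup.2 hx))))
      · exact .inr (eq_top_iff.2 fun x _ => PLocal.ElemMod.toG_mem_toSubgroup.1 (e.ge x.toG_mem)))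
    A dec (u := x) (v := y) hx (k3 y hy) (by rw [← map_pow, k1 _ x9]) (by rw [← map_pow, k1 _ y9])
    (fun e => qx (RP.ker3_quad hρ (by rwa [map_pow]))) (fun e => qy (RP.ker3_quad hρ (by rwa [map_pow])))
  rw [← map_mul] at key
  obtain ⟨w, hw⟩ : ∃ w, (∑ j ∈ Finset.range 9, ρ (x * y) ^ j) w ≠ 0 := by
    by_contra h2
    push Not at h2
    exact key (LinearMap.ext h2)
  have k6 : ∀ N, (w.toG * (x * y)) ^ N = ((∑ j ∈ Finset.range N, ρ (x * y) ^ j) w).toG * (x * y) ^ N := by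
    intro N
    induction N with
    | zero => simp [PLocal.ElemMod.toG_zero]
    | succ N ih =>
      rw [pow_succ, ih, Finset.sum_range_succ, LinearMap.add_apply, PLocal.ElemMod.toG_add, ← map_pow, hρ, pow_succ]
      group
  have k7 : ∀ z : G, z ^ 9 ∈ V → z ^ 9 ≠ 1 → HasOrd G (3 ^ 3) := fun z h1 h2 =>
    haveI := Fact.mk Nat.prime_three
    ⟨z, orderOf_eq_prime_pow (p := 3) (n := 2) h2 (by rw [pow_succ, pow_mul]; exact hV.2 _ h1)⟩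
  by_cases e : (x * y) ^ 9 = 1
  · have := k6 9
    rw [e, mul_one] at this
    exact k7 _ (this ▸ PLocal.ElemMod.toG_mem _) (this ▸ fun e' => hw (PLocal.ElemMod.toG_eq_one.1 e'))
  · exact k7 _ h9 e

end CfsgLib.RSQ
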