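import Mathlib
import Cfsg.Agent.Lib.RSQ.Defs

/-!
RSQ package RK2: a covering subgroup acting on an odd `r`-group of rank at most two.
-/

set_option autoImplicit false
set_option linter.unusedSectionVars false
set_option linter.style.haveILetI false

namespace CfsgLib.RSQ

open Cfsg Subgroup CfsgLib.BG CfsgLib.CIT.App CfsgLib.Comp CfsgLib.SpecSq
open scoped commutatorElement

variable {G : Type*} [Group G] [Finite G] {Γ : Type*} [Group Γ] [Finite Γ] {π : G →* Γ}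
  {μ : Fin 5 → ℕ} {m : ℕ} {S S₁ S₂ : Subgroup Γ} {r f r₁ f₁ r₂ f₂ : ℕ}

theorem rk2_line {W : Type*} [CommGroup W] [Finite W] (hr : r.Prime) {L : Subgroup W}
    (hL : Nat.card L = r) {β : W →* W} (b2 : ∀ v, β (β v) = v) (hb : ∀ v ∈ L, β v ∈ L) :
    (∀ v ∈ L, β v = v) ∨ ∀ v ∈ L, β v = v⁻¹ := by
  haveI := Fact.mk hr
  haveI : Fact (Nat.card L).Prime := ⟨hL ▸ hr⟩
  rcases ((β.eqLocus (MonoidHom.id W)).subgroupOf L).eq_bot_or_eq_top_of_prime_card with e | e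
  · refine .inr fun v hv => eq_inv_of_mul_eq_one_right ?_
    have : (⟨v * β v, L.mul_mem hv (hb v hv)⟩ : L) ∈ (β.eqLocus (MonoidHom.id W)).subgroupOf L := by
      show β (v * β v) = v * β v
      rw [map_mul, b2, mul_comm]
    rw [e, mem_bot] at this
    exact congrArg Subtype.val this
  · exact .inl fun v hv => subgroupOf_eq_top.1 e hv

theorem rk2_four {W : Type*} [CommGroup W] [Finite W] (hr : r.Prime) (r2 : r ≠ 2)
    (he : ∀ v : W, v ^ r = 1) (hc : Nat.card W ≤ r ^ 2) {α β : W →* W} (a2 : ∀ v, α (α v) = v)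
    (b2 : ∀ v, β (β v) = v) (ab : ∀ v, α (β v) = β (α v)) :
    ((∀ v, α v = v) ∨ ∀ v, α v = v⁻¹) ∨ ((∀ v, β v = v) ∨ ∀ v, β v = v⁻¹) ∨
      ((∀ v, α (β v) = v) ∨ ∀ v, α (β v) = v⁻¹) := by
  haveI := Fact.mk hr
  obtain ⟨k, hk⟩ := hr.odd_of_ne_two r2
  have sq : ∀ v : W, v = v ^ (k + 1) * v ^ (k + 1) := fun v => by
    rw [← pow_add, show k + 1 + (k + 1) = r + 1 by omega, pow_succ, he, one_mul]
  set C := α.eqLocus (MonoidHom.id W)
  set I := α.eqLocus invMonoidHom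
  have mC : ∀ v, v ∈ C ↔ α v = v := fun _ => Iff.rfl
  have mI : ∀ v, v ∈ I ↔ α v = v⁻¹ := fun _ => Iff.rfl
  have dec : ∀ v, ∃ c ∈ C, ∃ i ∈ I, v = c * i := fun v =>
    ⟨v ^ (k + 1) * α (v ^ (k + 1)), by rw [mC, map_mul, a2, mul_comm],
      v ^ (k + 1) * (α (v ^ (k + 1)))⁻¹, by rw [mI, map_mul, map_inv, a2, mul_inv_rev, inv_inv],
      by rw [mul_mul_mul_comm, mul_inv_cancel, mul_one, ← sq]⟩
  by_cases hC : C = ⊥
  · refine .inl (.inr fun v => ?_)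
    obtain ⟨c, h1, i, h2, rfl⟩ := dec v
    rw [hC, mem_bot] at h1
    rwa [h1, one_mul]
  by_cases hI : I = ⊥
  · refine .inl (.inl fun v => ?_)
    obtain ⟨c, h1, i, h2, rfl⟩ := dec v
    rw [hI, mem_bot] at h2
    rwa [h2, mul_one]
  have dv : ∀ L : Subgroup W, L ≠ ⊥ → r ∣ Nat.card L := fun L h => by
    obtain ⟨⟨x, hx⟩, x1⟩ := ne_bot_iff_exists_ne_one.1 h
    rw [← orderOf_eq_prime (he x) fun e => x1 (Subtype.ext e)]
    exact order_dvdG hx
  have dj : Disjoint C I := disjoint_def.2 fun {x} h1 h2 => by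
    rw [sq x, ← mul_pow, mul_eq_one_iff_eq_inv.2 (((mC x).1 h1).symm.trans h2), one_pow]
  have le : Nat.card C * Nat.card I ≤ r ^ 2 :=
    (Nat.card_prod C I ▸ Nat.card_le_card_of_injective _ (mul_injective_of_disjoint dj)).trans hc
  have c1 := Nat.le_of_dvd Nat.card_pos (dv C hC)
  have c2 := Nat.le_of_dvd Nat.card_pos (dv I hI)
  have p := hr.pos
  have e1 : Nat.card C = r := by nlinarith
  have e2 : Nat.card I = r := by nlinarith
  rcases rk2_line hr e1 b2 (fun v hv => by rw [mC, ab, (mC v).1 hv]) with h1 | h1 <;>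
    rcases rk2_line hr e2 b2 (fun v hv => by rw [mI, ab, (mI v).1 hv, map_inv]) with h2 | h2
  · refine .inr (.inl (.inl fun v => ?_))
    obtain ⟨c, hc, i, hi, rfl⟩ := dec v
    rw [map_mul, h1 c hc, h2 i hi]
  · refine .inr (.inr (.inl fun v => ?_))
    obtain ⟨c, hc, i, hi, rfl⟩ := dec v
    rw [map_mul, h1 c hc, h2 i hi, map_mul, map_inv, (mC c).1 hc, (mI i).1 hi, inv_inv]
  · refine .inr (.inr (.inr fun v => ?_))
    obtain ⟨c, hc, i, hi, rfl⟩ := dec v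
    rw [map_mul, h1 c hc, h2 i hi, map_mul, map_inv, (mC c).1 hc, (mI i).1 hi, mul_inv]
  · refine .inr (.inl (.inr fun v => ?_))
    obtain ⟨c, hc, i, hi, rfl⟩ := dec v
    rw [map_mul, h1 c hc, h2 i hi, mul_inv]

/-- A four-group (elementary abelian of order four) `T` normalising an elementary abelian `r`-group `V` of
order at most `r²` (`r` odd): some `t ≠ 1` of `T` centralises or inverts `V`.
Proof: if `V ⊓ 𝒞[t] = ⊥` then `t` inverts `V`.  Otherwise, if no `t` centralises `V`, `|V| = r²` and the three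
`Lₜ = V ⊓ 𝒞[t]` are `T`-invariant lines; on an invariant line every involution acts trivially or by
inversion.  If `L₁ = L₂` then `t₁, t₂` both invert the invariant line `⁅V, t₁⁆`, so `t₃ = t₁ t₂` centralises
`V = L₁ × ⁅V, t₁⁆`.  If `L₁ ≠ L₂` then `t₂` inverts `L₁`, `t₁` inverts `L₂`, so `t₃` inverts `V = L₁ × L₂`.
(Or: diagonalise over `ZMod r`; two characters `χ₁ χ₂` of `T` agree on some `t ≠ 1`.) -/
theorem four_act (hr : r.Prime) (r2 : r ≠ 2) {H T V : Subgroup G} (hT : PnElem 2 2 H T)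
    (hV : IsElementaryAbelian r V) (hc : Nat.card V ≤ r ^ 2) (hn : T ≤ 𝒩(V)) :
    ∃ t ∈ T, t ≠ 1 ∧ (t ∈ 𝒞(V) ∨ ∀ v ∈ V, t * v * t⁻¹ = v⁻¹) := by
  haveI := Fintype.ofFinite T
  obtain ⟨x, y, z, xy, xz, yz⟩ := (Fintype.two_lt_card_iff (α := T)).1 (by
    rw [← Nat.card_eq_fintype_card, hT.2.2]; norm_num)
  have s : ∀ t ∈ T, t * t = 1 := fun t ht => (pow_two t).symm.trans (hT.2.1.2 t ht)
  obtain ⟨a, ha, b, hb, a1, b1, ab1⟩ : ∃ a ∈ T, ∃ b ∈ T, a ≠ 1 ∧ b ≠ 1 ∧ a * b ≠ 1 :=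
    ⟨_, (x⁻¹ * y).2, _, (x⁻¹ * z).2, fun e => xy (inv_mul_eq_one.1 (Subtype.ext e)),
      fun e => xz (inv_mul_eq_one.1 (Subtype.ext e)), fun e => yz (mul_left_cancel (a := x⁻¹)
        (Subtype.ext (mul_right_cancel (e.trans (s _ (x⁻¹ * z).2).symm))))⟩
  letI : CommGroup V := { (inferInstance : Group V) with mul_comm := hV.1.is_comm.comm }
  let φ : ∀ t ∈ T, V →* V := fun t ht => (V.normalizerMonoidHom ⟨t, hn ht⟩).toMonoidHom
  have hφ : ∀ t ht (v : V), (φ t ht v : G) = t * v * t⁻¹ := fun _ _ _ => rfl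
  have m : ∀ t ht u hu v, φ t ht (φ u hu v) = φ (t * u) (mul_mem ht hu) v := fun t ht u hu v =>
    Subtype.ext (by simp only [hφ]; group)
  have o : ∀ t ht v, φ t ht (φ t ht v) = v := fun t ht v =>
    Subtype.ext (by simp only [m, hφ, s t ht]; group)
  have fin : ∀ t ht, ((∀ v, φ t ht v = v) ∨ ∀ v, φ t ht v = v⁻¹) →
      t ∈ 𝒞(V) ∨ ∀ v ∈ V, t * v * t⁻¹ = v⁻¹ := fun t ht h =>
    h.imp (fun h => mem_cent_iff.2 fun v hv =>
      (mul_inv_eq_iff_eq_mul.1 (congrArg Subtype.val (h ⟨v, hv⟩))).symm)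
      fun h v hv => congrArg Subtype.val (h ⟨v, hv⟩)
  rcases rk2_four hr r2 (fun v : V => Subtype.ext (hV.2 v v.2)) hc (o a ha) (o b hb) (fun v =>
    Subtype.ext (by simp only [m, hφ, cents_iff.1 (abelian_iff.1 hT.2.1.1) a ha b hb])) with h | h | h
  · exact ⟨a, ha, a1, fin a ha h⟩
  · exact ⟨b, hb, b1, fin b hb h⟩
  · exact ⟨a * b, mul_mem ha hb, ab1, fin _ (mul_mem ha hb) (by simpa only [m] using h)⟩

/-- A four-subgroup of `S` lifts to a four-subgroup `T ≤ A` with `π.ker ⊓ T = ⊥` (`lift_cover`, `abelem_two`: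
lift two generators). -/
theorem lift_four (h4 : 4 ∣ Nat.card S) (no4 : ¬ HasOrd G (2 ^ 2)) {A : Subgroup G}
    (hA : S ≤ A.map π) : ∃ T, PnElem 2 2 A T ∧ π.ker ⊓ T = ⊥ ∧ T.map π ≤ S := by
  haveI := Fact.mk Nat.prime_two
  obtain ⟨K, hK⟩ := Sylow.exists_subgroup_card_pow_prime (G := S) 2 (n := 2) h4
  have c : Nat.card (K.map S.subtype) = 2 ^ 2 := by rw [card_map_of_injective S.subtype_injective, hK]
  obtain ⟨Q, QA, hQ, e, -⟩ := lift_cover Nat.prime_two (pgp_of_card_pow c Nat.prime_two)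
    ((map_subtype_le K).trans hA)
  have hE := abelem_two no4 hQ
  obtain ⟨T, e1, e2, -⟩ := abelem_splits Nat.prime_two hE (inf_le_right : π.ker ⊓ Q ≤ Q)
  have TQ : T ≤ Q := e1 ▸ le_sup_right
  have e3 : π.ker ⊓ T = ⊥ := by rw [← e2, inf_assoc, inf_eq_right.2 TQ]
  have e4 : T.map π = K.map S.subtype := by
    rw [← e, ← e1, Subgroup.map_sup, (Subgroup.map_eq_bot_iff _).2 inf_le_left, bot_sup_eq]
  refine ⟨T, ⟨TQ.trans QA, abelemS TQ hE, ?_⟩, e3, e4 ▸ map_subtype_le K⟩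
  rw [← c, ← e4, ← relIndex_ker, ← LagrangeI π.ker T, e3, card_bot, one_mul]

/-- WLOG `D ≠ ⊥`.  `H` from `critical_odd`: characteristic in `D`, exponent `r`, so `|H| ≤ r³`
(`rank2_exponent_p_p3group`, `rank D ≤ 2`), and `V = H ⧸⧸ frattiniOf H` has order `≤ r²` (if `|H| = r³` then
`H` is not elementary abelian, so its Frattini subgroup is not `⊥`).  Work in `N = 𝒩(frattiniOf H)` modulo
`Φ`: `four_act` gives `t ∈ T#` centralising or inverting `V`; then `⁅g, t⁆` centralises `V` for all `g ∈ A`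
(`comm_mem_cent_of_inv`); `π t ∈ S`, `π t ≠ 1`, so `π t ∉ 𝒞(S)` (`ic`), choose `g ∈ A` with `π g ∈ S`,
`π ⁅g, t⁆ ≠ 1`.  `C = {a ∈ A | a centralises V}` is normalised by `A`, so `Simp.cover` gives `S ≤ C.map π`.
A 2-element `u ∈ C` with `1 ≠ π u ∈ S` (`lift_pow`) centralises `H` (`cents_of_quo_Phi`), hence `D`
(`critical_odd`); finish with `Simp.cover_cent`. -/
theorem rk2 (hS : Smp S) (h4 : 4 ∣ Nat.card S) (no4 : ¬ HasOrd G (2 ^ 2)) (hr : r.Prime) (r2 : r ≠ 2)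
    {A D : Subgroup G} (hA : S ≤ A.map π) (hD : IsPiSubgroup {r} D) (hn : A ≤ 𝒩(D))
    (hrk : ∀ E, ¬ PnElem r 3 D E) : S ≤ (A ⊓ 𝒞(D)).map π := by
  by_cases hne : D = ⊥
  · subst hne
    exact hA.trans (map_mono (le_inf le_rfl fun a _ => mem_cent_iff.2 fun h hh => by
      rw [mem_bot.1 hh, one_mul, mul_one]))
  obtain ⟨k, hk⟩ := pgp_card hr hD
  obtain ⟨H, hH, -, -, he, hcr⟩ := critical_odd hr hD (hk ▸ (hr.odd_of_ne_two r2).pow) hne
  have hp := pigroupS hH.1 hD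
  have AH := hH.norms hn
  have AN := norms_Phi AH
  have hN := (Phi_char H).normal
  have c3 := rank2_exponent_p_p3group hr (R := H) (by
    rw [rank_pgroup hr hp, ← Nat.lt_succ_iff, p_rank_ltP hr]
    exact fun E hE => hrk E ⟨hE.1.trans hH.1, hE.2⟩) he
  have c2 : Nat.card (H ⧸⧸ frattiniOf H) ≤ r ^ 2 := by
    have e := card_quo_mul_of_normal hN
    by_cases h0 : frattiniOf H = ⊥
    · obtain ⟨l, hl⟩ := pgp_card hr hp
      have h1 : l ≤ 3 := (Nat.pow_le_pow_iff_right hr.one_lt).1 (hl ▸ c3)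
      have h2 : l ≠ 3 := fun e => hrk H ⟨hH.1, (trivg_Phi hr hp).1 h0, e ▸ hl⟩
      exact (Nat.le_of_dvd Nat.card_pos (Dvd.intro _ e)).trans
        (hl ▸ Nat.pow_le_pow_right hr.pos (by omega))
    · have h1 := Nat.le_of_dvd Nat.card_pos (pgp_pdiv (pigroupS hN.1 hp) h0).2
      refine Nat.le_of_mul_le_mul_right ?_ hr.pos
      rw [← pow_succ]
      exact (Nat.mul_le_mul_left _ h1).trans (e ▸ c3)
  obtain ⟨T, hT, e1, e2⟩ := lift_four h4 no4 hA
  have TN := hT.1.trans AN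
  obtain ⟨t', ht', t1, hc⟩ := four_act hr r2 (H := ⊤) (T := T ⧸⧸ frattiniOf H)
    ⟨le_top, mim_abelem _ hT.2.1, by
      rw [card_quo_of_disjoint TN (coprime_TIg (pgp_coprime_of_ne
        (pgp_of_card_pow hT.2.2 Nat.prime_two) (pigroupS hN.1 hp) r2.symm)), hT.2.2]⟩
    (Phi_quotient_abelem hr hp) c2 (mim_norm _ (hT.1.trans AH))
  obtain ⟨t, ht, rfl⟩ := (mem_mim_of_le _ TN).1 ht'
  have p1 : π t ≠ 1 := fun e => t1 (by
    rw [show t = 1 from mem_bot.1 (e1 ▸ (⟨e, ht⟩ : t ∈ π.ker ⊓ T))]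
    exact cos_eq_one_of_mem (one_mem _))
  have pS : π t ∈ S := e2 (mem_map_of_mem π ht)
  obtain ⟨s, hs, ns⟩ : ∃ s ∈ S, s * π t ≠ π t * s := by
    by_contra! h
    exact p1 (mem_bot.1 (hS.ic ▸ (⟨pS, mem_cent_iff.2 h⟩ : π t ∈ S ⊓ 𝒞(S))))
  obtain ⟨g, hg, rfl⟩ := hA hs
  have gV : cos (frattiniOf H) g ∈ 𝒩(H ⧸⧸ frattiniOf H) := mim_norm _ AH (pf_mem_mim _ hg)
  have gA : ⁅g, t⁆ ∈ A := comm_mem hg (hT.1 ht)
  have hC := hS.simp.cover hA (C := A ⊓ coquo (frattiniOf H) 𝒞(H ⧸⧸ frattiniOf H))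
    (normsGI le_rfl (fun a ha => mpre_norm _ (norms_cent (mim_norm _ AH))
      ((mem_mpre _).2 ⟨AN ha, pf_mem_mim _ ha⟩))) (c := ⁅g, t⁆)
    ⟨gA, (mem_mpre _).2 ⟨AN gA, by
      rw [pf_commutatorElement _ (AN hg) (TN ht)]
      rcases hc with hc | hc
      · exact mul_mem ((mem_normalizer_iff.1 (norms_cent le_rfl gV) _).1 hc) (inv_mem hc)
      · exact comm_mem_cent_of_inv gV hc⟩⟩
    (by rw [map_commutatorElement]; exact comm_mem hs pS)
    (by rw [map_commutatorElement]; exact fun e => ns (commutatorElement_eq_one_iff_mul_comm.1 e))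
  obtain ⟨x, hx, e3⟩ := hC pS
  obtain ⟨y, hy, e4, e, e5⟩ := lift_pow π Nat.prime_two (a := 1) x (by
    rw [e3, ← map_pow, pow_one, hT.2.1.2 t ht, map_one])
  have yC := zpowers_le.2 (zpowers_le.2 hx hy)
  have y2 : IsPiSubgroup {2} (zpowers y) := fun q hq hd =>
    (Nat.prime_dvd_prime_iff_eq hq Nat.prime_two).1 (hq.dvd_of_dvd_pow
      ((Nat.card_zpowers y ▸ hd).trans (orderOf_dvd_of_pow_eq_one e5)))
  have yA := yC.trans inf_le_left
  refine hS.simp.cover_cent hA hn (yA (mem_zpowers y)) (hcr _ (yA.trans hn) (pgp_p'group y2 r2.symm)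
    (cents_of_quo_Phi hr hp (yA.trans AH) (pgp_coprime_of_ne hp y2 r2) ?_) (mem_zpowers y))
    (by rw [e4, e3]; exact pS) (by rw [e4, e3]; exact p1)
  exact (mim_mono _ (yC.trans inf_le_right)).trans (quo_coquo _ _).le

end CfsgLib.RSQ
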