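import Mathlib
import Cfsg.Agent.Lib.RSQ.Rk2

/-!
RSQ package SIM: either the covering subgroup has `r`-rank at least three, or a smaller covering subgroup
meets the kernel in an `r'`-group.
-/

set_option autoImplicit false
set_option linter.unusedSectionVars false
set_option linter.style.haveILetI false

namespace CfsgLib.RSQ

open Cfsg Subgroup CfsgLib.BG CfsgLib.CIT.App CfsgLib.Comp CfsgLib.SpecSq
open scoped commutatorElement

variable {G : Type*} [Group G] [Finite G] {Γ : Type*} [Group Γ] [Finite Γ] {π : G →* Γ}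
  {μ : Fin 5 → ℕ} {m : ℕ} {S S₁ S₂ : Subgroup Γ} {r f r₁ f₁ r₂ f₂ : ℕ}

theorem der_inf_center (hr : r.Prime) {A R : Subgroup G} (hR : IsSylowOf r R A)
    (hab : IsMulCommutative R) : R ⊓ ⁅A, A⁆ ⊓ 𝒞(A) = ⊥ := by
  refine eq_bot_iff.2 fun z hz => ?_
  have zA : z ∈ A := hR.1 hz.1.1
  have h1 := Transfer.inf_commutator_inf_center_le_of_hall (H := R.subgroupOf A)
    (by rw [Nat.card_congr (subgroupOfEquivOfLe hR.1).toEquiv]; exact pHall_coprime hR)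
    (x := ⟨z, zA⟩) ⟨⟨hz.1.1, by
      obtain ⟨y, hy, e⟩ := (map_subtype_commutator' A).ge hz.1.2
      rwa [show (⟨z, zA⟩ : A) = y from Subtype.ext e.symm]⟩,
      mem_center_iff.2 fun g => Subtype.ext (hz.2 g g.2)⟩
  have h2 := mem_map_of_mem A.subtype h1
  rwa [map_commutator, subgroupOf_map_subtype, inf_eq_left.2 hR.1, abelian_iff_der1.1 hab] at h2

theorem sim_cyc (hS : Smp S) (h4 : 4 ∣ Nat.card S) (no4 : ¬ HasOrd G (2 ^ 2)) (hr : r.Prime)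
    (r2 : r ≠ 2) (hc : CycS r S) {A : Subgroup G} (hA : S ≤ A.map π) (hrk : ∀ E, ¬ PnElem r 3 A E) :
    ∃ B, B ≤ A ∧ S ≤ B.map π ∧ ¬ r ∣ Nat.card ↥(B ⊓ π.ker) := by
  have h0 : S ≤ (A ⊓ S.comap π).map π := by rw [map_inf_comap]; exact le_inf hA le_rfl
  obtain ⟨D, hD⟩ := Sylow_exists hr (A ⊓ S.comap π ⊓ π.ker)
  have h1 : S ≤ (A ⊓ S.comap π ⊓ 𝒩(D)).map π := h0.trans (map_le_of_sup π inf_le_right
    (Frattini_arg hr ⟨inf_le_left, normsI (normG _) (le_top.trans (normalizer_eq_top _).ge)⟩ hD).ge)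
  have h2 := rk2 hS h4 no4 hr r2 h1 hD.2.1 inf_le_right
    fun E hE => hrk E (hE.mono (hD.1.trans (inf_le_left.trans inf_le_left)))
  set A₂ := A ⊓ S.comap π ⊓ 𝒩(D) ⊓ 𝒞(D) with hA₂
  have h3 : ∀ x ∈ A₂, π x = 1 → IsPiSubgroup {r} (zpowers x) → x ∈ 𝒞(A₂) := fun x hx h5 h6 =>
    cents_symm (inf_le_right : A₂ ≤ 𝒞(D)) (norm_sub_pHall hD h6 (zpowers_le.2 ⟨hx.1.1, h5⟩)
      (zpowers_le.2 hx.1.2) (mem_zpowers x))
  have dA : ⁅A₂, A₂⁆ ≤ A₂ := commutator_le.2 fun _ ha _ hb => comm_mem ha hb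
  refine ⟨⁅A₂, A₂⁆, dA.trans (inf_le_left.trans (inf_le_left.trans inf_le_left)),
    cover_der hS.perf h2, fun hd => ?_⟩
  obtain ⟨x, hx, ox⟩ := Cauchy hr hd
  have px : IsPiSubgroup {r} (zpowers x) := pgp_of_card_prime ((Nat.card_zpowers x).trans ox) hr
  obtain ⟨R, hR, xR⟩ := Sylow_superset hr (zpowers_le.2 (dA hx.1)) px
  have := hc (R.map π) (map_le_iff_le_comap.2 (hR.1.trans
    (inf_le_left.trans (inf_le_left.trans inf_le_right)))) (map_pigroup π hR.2.1)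
  have hab : IsMulCommutative R := (π.subgroupMap R).isMulCommutative_of_isCyclic_of_ker_le_center
    fun y hy => mem_center_iff.2 fun g => Subtype.ext (h3 y (hR.1 y.2) (congrArg Subtype.val hy)
      (pigroupS (zpowers_le.2 y.2) hR.2.1) g (hR.1 g.2))
  have h5 : x = 1 := mem_bot.1 ((der_inf_center hr hR hab).le
    ⟨⟨xR (mem_zpowers x), hx.1⟩, h3 x (dA hx.1) hx.2 px⟩)
  rw [h5, orderOf_one] at ox
  exact hr.one_lt.ne ox

theorem sim_three {w : ℕ} (hw : w.Prime) (h5 : 5 ≤ w) (hp : Pair S 3 w) {A : Subgroup G}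
    (hA : S ≤ A.map π) : ∃ E, PnElem 3 3 A E := by
  obtain ⟨Q', x', h1, h2, h3, h4, h6, h7⟩ := hp
  obtain ⟨Q, QA, pQ, eQ, x, -, xQ, ex⟩ := lift_norm π Nat.prime_three h2 (h1.trans hA) (hA h3) h4
  obtain ⟨y, hy, ey, e, he⟩ := lift_pow π hw (a := 1) x (by rw [ex, pow_one, ← h6, pow_orderOf_eq_one])
  by_contra hn
  have hrk : rank Q ≤ 2 := by
    rw [rank_pgroup Nat.prime_three pQ]
    by_contra h8
    obtain ⟨E, hE⟩ := (p_rank_geP Nat.prime_three).1 (show 3 ≤ BG.pRank 3 Q by omega)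
    exact hn ⟨E, hE.mono QA⟩
  have py : IsPiSubgroup {w} (zpowers y) := fun p hp hd => by
    rw [Nat.card_zpowers] at hd
    exact (Nat.prime_dvd_prime_iff_eq hp hw).1
      (hp.dvd_of_dvd_pow (hd.trans (orderOf_dvd_of_pow_eq_one he)))
  obtain ⟨k, hk⟩ := pgp_relIndex hw py 𝒞(Q)
  have k0 : k ≠ 0 := fun e0 => h7 (by
    rw [e0, pow_zero, relIndex_eq_one] at hk
    rw [← eQ, ← ex, ← ey]
    rintro _ ⟨g, hg, rfl⟩
    rw [← map_mul, ← map_mul, hk (mem_zpowers y) g hg])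
  obtain ⟨j, hj⟩ := pgp_card Nat.prime_three pQ
  have := (pi_Aut_rank2_pgroup Nat.prime_three hw pQ (hj ▸ Odd.pow (by decide)) hrk
    (zpowers_le.2 (zpowers_le.2 xQ hy)) (hk ▸ dvd_pow_self w k0) (by omega)).2.1
  omega

theorem Cmp.simul (hS : Cmp S r f) (no4 : ¬ HasOrd G (2 ^ 2)) {A : Subgroup G} (hA : S ≤ A.map π) :
    (∃ E, PnElem r 3 A E) ∨ ∃ B, B ≤ A ∧ S ≤ B.map π ∧ ¬ r ∣ Nat.card ↥(B ⊓ π.ker) := by
  rcases hS.sim with h | ⟨rfl, w, hw, h5, hp⟩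
  · by_cases hrk : ∃ E, PnElem r 3 A E
    · exact .inl hrk
    · exact .inr (sim_cyc hS.toSmp (Dvd.dvd.trans (by norm_num) hS.d12) no4 hS.hr hS.r2 h hA
        (not_exists.1 hrk))
  · exact .inl (sim_three hw h5 hp hA)

end CfsgLib.RSQ
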