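import Mathlib
import Cfsg.Agent.Lib.RSQ.Base
import Cfsg.Agent.Lib.RSQ.Hyp
import Cfsg.Agent.Lib.RSQ.Sim
import Cfsg.Agent.Lib.RSQ.Fix

/-!
RSQ package K23: the kernel meets few classes.
-/

set_option autoImplicit false
set_option linter.unusedSectionVars false
set_option linter.style.haveILetI false

namespace CfsgLib.RSQ

open Cfsg Subgroup CfsgLib.BG CfsgLib.CIT.App CfsgLib.Comp CfsgLib.SpecSq
open scoped commutatorElement

variable {G : Type*} [Group G] [Finite G] {Γ : Type*} [Group Γ] [Finite Γ] {π : G →* Γ}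
  {μ : Fin 5 → ℕ} {m : ℕ} {S S₁ S₂ : Subgroup Γ} {r f r₁ f₁ r₂ f₂ : ℕ}

/-- F1.  `A₀ = 𝒞[y]` covers `S` (`cent_lift`); `P` Sylow `s` of `ker ⊓ 𝒞[y]` (normal in `A₀`), `P ≠ ⊥`;
`A = A₀ ⊓ 𝒩(P)` covers `S` (`Frattini_arg`, `map_le_of_sup`).  `Cmp.simul`: if `E = r³ ≤ A`, `gen` (rank two
subgroup) gives a line with fixed points on `P`; otherwise `fix_all` (`t = 2`, `H = P`) gives `x ∈ A` of order
`r` with fixed points on `P`.  Three commuting elements of orders `r, s, w`: `Ub.tri_elt`. -/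
theorem Sit.f1 (h : Sit π m μ) (hS : Cmp S r f) {i j k : Fin 5} (hij : i ≠ j) (hik : i ≠ k)
    (hjk : j ≠ k) {w s : ℕ} (cr : Cl μ i r) (cw : Cl μ j w) (cs : Cl μ k s) {y : G}
    (hy : orderOf y = w) (hK : ¬ w ∣ Nat.card π.ker) (hc : π y ∈ 𝒞(S)) :
    ¬ s ∣ Nat.card ↥(π.ker ⊓ 𝒞[y]) := by
  intro hd
  have hP := h.par
  have hN : ∀ A : Subgroup G, A ≤ 𝒩(π.ker) := fun A => le_top.trans (normalIn_top.2 inferInstance).2
  obtain ⟨P, hPs⟩ := Sylow_exists cs.1 (π.ker ⊓ 𝒞[y])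
  have P1 := Sylow_ne_bot cs.1 hPs hd
  have fr := Frattini_arg cs.1 (⟨inf_le_right, normsIG (hN _) le_rfl⟩ : π.ker ⊓ 𝒞[y] ⊲ 𝒞[y]) hPs
  have c1 : S ≤ (𝒞[y] ⊓ 𝒩(P)).map π :=
    (cent_lift h.surj cw.1 hy hK hc).trans (map_le_of_sup π inf_le_left fr.ge)
  have rs := Cl.ne hP hik cr cs
  have fin : ∀ x ∈ 𝒞[y], orderOf x = r → s ∣ Nat.card ↥(P ⊓ 𝒞[x]) → False := fun x hx ho hs => by
    obtain ⟨z, hz, zo⟩ := Cauchy cs.1 hs
    exact h.up.tri_elt hP hij hik hjk (x := x) (y := y) (z := z) (ho ▸ cr) (hy ▸ cw) (zo ▸ cs) (mem_cent1.1 hx)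
      (mem_cent1.1 hz.2).symm (mem_cent1.1 (hPs.1 hz.1).2).symm
  rcases hS.simul (h.up.no4 hP) c1 with ⟨E, hE⟩ | ⟨B, hB, c2, hr⟩
  · obtain ⟨E2, hE2⟩ := hE.exists_sub cr.1 (m := 2) (by norm_num)
    obtain ⟨X, hX, h1⟩ := gen cr.1 hE2 (hE2.le.trans (hE.le.trans inf_le_right))
      (pgp_coprime_of_ne hPs.2.1 (hE2.pgroup cr.1) rs.symm) P1
    obtain ⟨x, -, ho, rfl⟩ := hX.exists_gen cr.1
    rw [cent_zpowers] at h1
    exact fin x (hE.le (hE2.le (hX.le (mem_zpowers x)))).1 ho (pgp_pdiv (pigroupS inf_le_left hPs.2.1) h1).2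
  · obtain ⟨x, hx, -, ho, hf⟩ := fix_all hS.simp (h.up.no4 hP) Nat.prime_two hS.hr hS.r2 hS.pair c2 hr
    exact fin x (hB hx).1 ho (hf P (hPs.1.trans inf_le_left) (hB.trans inf_le_right)
      (fun d => rs (hPs.2.1 r cr.1 d)) s cs.1 (cs.ne_two hP) (pgp_pdiv hPs.2.1 P1).2)

/-- K3.  `H` Hall `{a, b, c}` of `ker`, `A = 𝒩(H)` covers `S` (`cover_of_Hall`).  `Cmp.simul`: `r3`, or
`fix_all` gives `x` of order `r` with `a, b, c ∣ |H ⊓ 𝒞[x]|`; `three_primes_mem`, then `Ub.tri_cent`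
(`C = zpowers x`). -/
theorem Sit.k3 (h : Sit π m μ) (hS : Cmp S r f) {i j k l : Fin 5} (hd : [i, j, k, l].Nodup)
    {a b c : ℕ} (cr : Cl μ i r) (ca : Cl μ j a) (cb : Cl μ k b) (cc : Cl μ l c)
    (da : a ∣ Nat.card π.ker) (db : b ∣ Nat.card π.ker) (dc : c ∣ Nat.card π.ker) : False := by
  have hP := h.par
  obtain ⟨⟨hij, hik, hil⟩, ⟨hjk, hjl⟩, hkl⟩ : (i ≠ j ∧ i ≠ k ∧ i ≠ l) ∧ (j ≠ k ∧ j ≠ l) ∧ k ≠ l := by
    simpa using hd
  obtain ⟨H, hH⟩ := Hall_exists {a, b, c} h.sol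
  have ra := Cl.ne hP hij cr ca
  have rb := Cl.ne hP hik cr cb
  have rc := Cl.ne hP hil cr cc
  have ab := Cl.ne hP hjk ca cb
  have ac := Cl.ne hP hjl ca cc
  have bc := Cl.ne hP hkl cb cc
  have ha := (prime_dvd_pHall hH ca.1 (by simp)).2 da
  have hb := (prime_dvd_pHall hH cb.1 (by simp)).2 db
  have hc := (prime_dvd_pHall hH cc.1 (by simp)).2 dc
  rcases hS.simul (h.up.no4 hP) (cover_of_Hall h.surj h.sol hH S) with ⟨E, hE⟩ | ⟨B, hB, c2, hr⟩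
  · exact r3 cr.1 ca.1 cb.1 cc.1 ra rb rc ab ac bc (h.up.tri hP hij hik hjk cr ca cb)
      (h.up.tri hP hij hil hjl cr ca cc) (h.up.tri hP hik hil hkl cr cb cc) hE hH.2.1 (solvableS hH.1 h.sol)
      hE.le ha hb hc
  · obtain ⟨x, -, -, ho, hf⟩ := fix_all hS.simp (h.up.no4 hP) Nat.prime_two hS.hr hS.r2 hS.pair c2 hr
    have hf' := hf H hH.1 hB fun d => by simpa [ra, rb, rc] using hH.2.1 r cr.1 d
    have hx : r ∣ Nat.card (zpowers x) := by rw [Nat.card_zpowers, ho]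
    rcases three_primes_mem (solvableS (inf_le_left.trans hH.1) h.sol) ca.1 cb.1 cc.1 ab ac bc
      (hf' a ca.1 (ca.ne_two hP) ha) (hf' b cb.1 (cb.ne_two hP) hb) (hf' c cc.1 (cc.ne_two hP) hc) with
      ⟨g, hg, e⟩ | ⟨g, hg, e⟩ | ⟨g, hg, e⟩
    · exact h.up.tri_cent hP hjk hij.symm hik.symm ca cb cr (e ▸ dvd_mul_right _ _) (e ▸ dvd_mul_left _ _) hx
        (cent_zpowers x ▸ hg.2)
    · exact h.up.tri_cent hP hjl hij.symm hil.symm ca cc cr (e ▸ dvd_mul_right _ _) (e ▸ dvd_mul_left _ _) hx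
        (cent_zpowers x ▸ hg.2)
    · exact h.up.tri_cent hP hkl hik.symm hil.symm cb cc cr (e ▸ dvd_mul_right _ _) (e ▸ dvd_mul_left _ _) hx
        (cent_zpowers x ▸ hg.2)

/-- K23.  If `w ∣ |ker|` use `k3`.  Otherwise `H` Hall `{a, b}` of `ker`, `A = 𝒩(H)` covers `S` and `𝒞(S)`
(`cover_of_Hall`); lift an element of order `w` of `𝒞(S)` to `y ∈ A` of order `w` (`lift_pow`).  By `f1`
(twice) `H ⊓ 𝒞[y] = ⊥`.  `Cmp.simul` for `A`: `fpf_ord`; or `H` is nilpotent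
(`prime_Frobenius_sol_kernel_nil`), `fix_all` gives `x` of order `r` with `a, b ∣ |H ⊓ 𝒞[x]|`, a nilpotent
group, so it has an element of order `a b` (commuting Sylow subgroups); `Ub.tri_cent`. -/
theorem Sit.k23 (h : Sit π m μ) (hS : Cmp S r f) {i j k l : Fin 5} (hd : [i, j, k, l].Nodup)
    {w a b : ℕ} (cr : Cl μ i r) (cw : Cl μ j w) (ca : Cl μ k a) (cb : Cl μ l b)
    (dw : w ∣ Nat.card ↥𝒞(S)) (da : a ∣ Nat.card π.ker) (db : b ∣ Nat.card π.ker) : False := by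
  by_cases hK : w ∣ Nat.card π.ker
  · exact h.k3 hS hd cr cw ca cb hK da db
  have hP := h.par
  obtain ⟨⟨hij, hik, hil⟩, ⟨hjk, hjl⟩, hkl⟩ : (i ≠ j ∧ i ≠ k ∧ i ≠ l) ∧ (j ≠ k ∧ j ≠ l) ∧ k ≠ l := by
    simpa using hd
  obtain ⟨H, hH⟩ := Hall_exists {a, b} h.sol
  have ra := Cl.ne hP hik cr ca
  have rb := Cl.ne hP hil cr cb
  have ab := Cl.ne hP hkl ca cb
  have ha := (prime_dvd_pHall hH ca.1 (by simp)).2 da
  have hb := (prime_dvd_pHall hH cb.1 (by simp)).2 db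
  have hs := solvableS hH.1 h.sol
  obtain ⟨c, hc, co⟩ := Cauchy cw.1 dw
  obtain ⟨g, hg, rfl⟩ := cover_of_Hall h.surj h.sol hH 𝒞(S) hc
  have e1 : π g ^ w = 1 := co ▸ pow_orderOf_eq_one _
  obtain ⟨y, hy, e2, e, e3⟩ := lift_pow π cw.1 (a := 1) g (by rwa [pow_one])
  have hyN : y ∈ 𝒩(H) := zpowers_le.2 hg hy
  have yo : orderOf y = w := by
    have := Fact.mk cw.1
    refine orderOf_eq_prime (orderOf_eq_one_iff.1 (Nat.eq_one_of_dvd_coprimes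
      ((cw.1.coprime_iff_not_dvd.2 hK).pow_left e) ((orderOf_pow_dvd w).trans (orderOf_dvd_of_pow_eq_one e3))
      (order_dvdG ?_))) fun k => ?_
    · rw [MonoidHom.mem_ker, map_pow, e2, e1]
    · rw [← e2, k, map_one, orderOf_one] at co
      exact cw.1.one_lt.ne co
  have fx : H ⊓ 𝒞[y] = ⊥ := by
    by_contra h1
    obtain ⟨p, X, hp, hX⟩ := exists_pnElem1' h1
    have d := hX.dvd1.trans (cardSg (inf_le_inf_right 𝒞[y] hH.1))
    rcases hH.2.1 p hp (hX.dvd1.trans (cardSg inf_le_left)) with rfl | rfl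
    · exact h.f1 hS hij hik hjk cr cw ca yo hK (e2 ▸ hc) d
    · exact h.f1 hS hij hil hjl cr cw cb yo hK (e2 ▸ hc) d
  rcases hS.simul (h.up.no4 hP) (cover_of_Hall h.surj h.sol hH S) with ⟨E, hE⟩ | ⟨B, hB, c2, hr⟩
  · exact h.up.tri hP hik hil hkl cr ca cb (fpf_ord cr.1 ca.1 cb.1 ra rb ab hE hH.2.1 hs ha hb hE.le
      (yo ▸ cw.1) (yo ▸ Cl.ne hP hjk cw ca) (yo ▸ Cl.ne hP hjl cw cb) hyN fx)
  · obtain ⟨x, -, -, ho, hf⟩ := fix_all hS.simp (h.up.no4 hP) Nat.prime_two hS.hr hS.r2 hS.pair c2 hr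
    have hf' := hf H hH.1 hB fun d => by simpa [ra, rb] using hH.2.1 r cr.1 d
    have hn := prime_regular_sol_nil (zpowers_le.2 hyN) hs (by rw [Nat.card_zpowers, yo]; exact cw.1)
      (by rwa [cent_zpowers])
    obtain ⟨u, hu, uo⟩ := Cauchy ca.1 (hf' a ca.1 (ca.ne_two hP) ha)
    obtain ⟨v, hv, vo⟩ := Cauchy cb.1 (hf' b cb.1 (cb.ne_two hP) hb)
    have cm := sub_nilpotent_cent2 hn (zpowers_le.2 hu.1) (zpowers_le.2 hv.1) (by
      rw [Nat.card_zpowers, Nat.card_zpowers, uo, vo]; exact (Nat.coprime_primes ca.1 cb.1).2 ab)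
    exact h.up.tri_elt hP hik hil hkl (x := x) (y := u) (z := v) (ho ▸ cr) (uo ▸ ca) (vo ▸ cb)
      (mem_cent1.1 hu.2).symm (mem_cent1.1 hv.2).symm (mem_cent1.1 (cent_zpowers v ▸ cm (mem_zpowers u)))

end CfsgLib.RSQ
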