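import Mathlib
import Cfsg.Agent.Lib.RSQ.Base
import Cfsg.Agent.Lib.RSQ.Fix
import Cfsg.Agent.Lib.RSQ.Jord
import Cfsg.Agent.S0626

/-!
RSQ package KER3: an elementary abelian minimal normal kernel of characteristic three.
-/

set_option autoImplicit false
set_option linter.unusedSectionVars false
set_option linter.style.haveILetI false

namespace CfsgLib.RSQ

open Cfsg Subgroup CfsgLib.BG CfsgLib.CIT.App CfsgLib.Comp CfsgLib.SpecSq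
open scoped commutatorElement

variable {G : Type*} [Group G] [Finite G] {Γ : Type*} [Group Γ] [Finite Γ] {π : G →* Γ}
  {μ : Fin 5 → ℕ} {m : ℕ} {S S₁ S₂ : Subgroup Γ} {r f r₁ f₁ r₂ f₂ : ℕ}

/-- A subgroup `M` normalised by `Γ = S₁ S₂` containing neither `S₁` nor `S₂` is trivial: `M ⊓ Sᵢ = ⊥`
(`simp`), so `⁅M, Sᵢ⁆ = ⊥`, and `𝒞(S₁) ⊓ 𝒞(S₂) = ⊥` (write an element as `a b`, then `a ∈ S₁ ⊓ 𝒞(S₁)`). -/
theorem eq_bot_of_normal (h1 : Smp S₁) (h2 : Smp S₂) (hc : S₁ ≤ 𝒞(S₂)) (ht : S₁ ⊔ S₂ = ⊤)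
    {M : Subgroup Γ} (hn : ⊤ ≤ 𝒩(M)) (n1 : ¬ S₁ ≤ M) (n2 : ¬ S₂ ≤ M) : M = ⊥ := by
  have key : ∀ {S : Subgroup Γ}, Smp S → ⊤ ≤ 𝒩(S) → ¬ S ≤ M → M ≤ 𝒞(S) := fun {S} hS hN hn' x hx => by
    have e : S ⊓ M = ⊥ := by
      by_contra hne
      exact hn' ((hS.simp _ inf_le_left (normsGI le_rfl (le_top.trans hn)) hne).trans inf_le_right)
    refine mem_cent_iff.2 fun s hs => commutatorElement_eq_one_iff_mul_comm.1 (mem_bot.1 (e.le (mem_inf.2 ⟨?_, ?_⟩)))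
    · have := mul_mem hs ((mem_normalizer_iff.1 (hN (mem_top x)) _).1 (inv_mem hs))
      simpa only [commutatorElement_def, mul_assoc] using this
    · exact mul_mem ((mem_normalizer_iff.1 (hn (mem_top s)) _).1 hx) (inv_mem hx)
  have hc' := cents_symm hc
  have c1 := key h1 (ht.ge.trans (sup_le le_normalizer (cents_norm hc'))) n1
  have c2 := key h2 (ht.ge.trans (sup_le (cents_norm hc) le_normalizer)) n2
  refine eq_bot_iff.2 fun x hx => ?_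
  obtain ⟨a, ha, b, hb, rfl⟩ := (mem_sup_norm_l (cents_norm hc')).1 (ht.ge (mem_top x))
  have e : a = 1 := mem_bot.1 (h1.ic.le ⟨ha, by simpa using mul_mem (c1 hx) (inv_mem (hc' hb))⟩)
  rw [e, one_mul] at hx ⊢
  exact h2.ic.le ⟨hb, c2 hx⟩

/-- `V = π.ker`.  If `S₂ ≤ (𝒞(V)).map π` then `S₂.comap π ≤ 𝒞(V)` (`V ≤ 𝒞(V)`).  `fix_all` (pair `p7` of `S₁`,
`A = ⊤`, `H = V`, `s = 3`) gives `x` of order 7, `π x ∈ S₁`, with a fixed point `v ∈ V` of order 3;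
`cent_lift`: `𝒞[x]` covers `S₂`; lift an element of order `w` (`pA`, class 1 by `Ub.clA`) of `S₂` to `y ∈ 𝒞[x]` of
order `w` (`lift_pow`, `w ∤ |V|`); `y` centralises `v`; the class of 7 is `∉ {0, 1}`; `Ub.tri_elt`. -/
theorem Sit.not_cover {m₁ m₂ : ℕ} (h : Sit π m μ) (h1 : ReA S₁ m₁) (h2 : ReA S₂ m₂) (hc : S₁ ≤ 𝒞(S₂))
    (hV : IsElementaryAbelian 3 π.ker) (h0 : π.ker ≠ ⊥) : ¬ S₂ ≤ (𝒞(π.ker)).map π := by
  intro hcov
  have : Fact (Nat.Prime 3) := ⟨Nat.prime_three⟩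
  obtain ⟨n, hn⟩ := (PLocal.elemAb_isPGroup hV).exists_card_eq
  have p7 : Nat.Prime 7 := by norm_num
  have n7 : ¬ 7 ∣ Nat.card π.ker := fun e => by
    rw [hn] at e
    exact absurd ((Nat.prime_dvd_prime_iff_eq p7 Nat.prime_three).1 (p7.dvd_of_dvd_pow e)) (by norm_num)
  have d3 : 3 ∣ Nat.card π.ker := by
    rw [hn]
    refine dvd_pow_self 3 fun e => h0 ?_
    rw [e, pow_zero] at hn
    exact card_eq_one.1 hn
  obtain ⟨x, -, hx, ox, hf⟩ := fix_all (π := π) h1.simp (h.up.no4 h.par) Nat.prime_two p7 (by norm_num) h1.p7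
    (A := ⊤) (by rw [map_top_of_surjective π h.surj]; exact le_top) (by rwa [top_inf_eq])
  obtain ⟨v, hv⟩ := exists_prime_orderOf_dvd_card' 3
    (hf π.ker le_rfl le_normalizer_of_normal n7 3 Nat.prime_three (by norm_num) d3)
  rw [← orderOf_coe] at hv
  obtain ⟨w, hw, h5, hd, Q, s, -, -, hs, -, os, -⟩ := h2.pA
  obtain ⟨y₀, hy₀, e₀⟩ := cent_lift h.surj p7 ox n7 (hc hx) hs
  obtain ⟨y, hy, oy⟩ := exists_of_cover (π := π) (C := 𝒞[x] ⊓ S₂.comap π) (s := s)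
    ⟨y₀, ⟨hy₀, by change π y₀ ∈ S₂; rwa [e₀]⟩, e₀⟩ (k := w) (os ▸ dvd_rfl)
  obtain ⟨c, hcV, ec⟩ := hcov hy.2
  have yV : y ∈ 𝒞(π.ker) := by
    have : c⁻¹ * y ∈ π.ker := by rw [MonoidHom.mem_ker, map_mul, map_inv, ec, inv_mul_cancel]
    simpa using mul_mem hcV (PLocal.elemAb_le_centralizer hV this)
  have cw : Cl μ 1 (orderOf y) := oy ▸ h.up.clA h.par hw h5 (oy ▸ orderOf_dvd_natCard y) ⟨m₂, rfl⟩ hd
  obtain ⟨i, hi⟩ := h.up.cls p7 (by norm_num) (ox ▸ orderOf_dvd_natCard x)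
  refine h.up.tri_elt h.par (i := i) (j := 1) (k := 0) (fun e => h.par.not_clA (l := 3) (by norm_num) (e ▸ hi))
    (hi.ne_zero h.par (by norm_num)) (by decide) (ox ▸ hi) cw (hv ▸ h.par.cl_three)
    (mem_cent1.1 hy.1).symm (mem_cent1.1 v.2.2).symm (yV _ v.2.1).symm

/-- `p`-stability.  By `not_cover` (twice) and `eq_bot_of_normal`, `𝒞(V) = V`.  `G` has abelian Sylow
2-subgroups (`abelem_two`), so `Cfsg.Agent.S0626.result` (first clause) applies: if `z` acts quadratically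
then its image lies in `pCore 3 (G ⧸ 𝒞(V))`, whose preimage maps under `π` to a normal 3-subgroup `M` of `Γ`;
`M = ⊥` by `eq_bot_of_normal` (`12 ∣ |Sᵢ|`); so `π z = 1`. -/
theorem Sit.quad {m₁ m₂ : ℕ} (h : Sit π m μ) (h1 : ReA S₁ m₁) (h2 : ReA S₂ m₂) (hc : S₁ ≤ 𝒞(S₂))
    (ht : S₁ ⊔ S₂ = ⊤) (hV : IsElementaryAbelian 3 π.ker) (h0 : π.ker ≠ ⊥) {z : G} (hz : π z ≠ 1) :
    ⁅⁅π.ker, zpowers z⁆, zpowers z⁆ ≠ ⊥ := by
  intro hq
  have : Fact (Nat.Prime 3) := ⟨Nat.prime_three⟩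
  have nrm : ∀ {D : Subgroup G}, D.Normal → ⊤ ≤ 𝒩(D.map π) := fun {D} hD => by
    rw [← map_top_of_surjective π h.surj]
    exact map_norm π le_normalizer_of_normal
  have e1 := eq_bot_of_normal h1.toSmp h2.toSmp hc ht (nrm (D := 𝒞(π.ker)) inferInstance)
    (h.not_cover h2 h1 (cents_symm hc) hV h0) (h.not_cover h1 h2 hc hV h0)
  have e2 := (Cfsg.Agent.S0626.result (G := G) (p := 3) (by norm_num) fun T =>
    (abelem_two (h.up.no4 h.par) (Q := T) fun p hp hd => by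
      obtain ⟨n, hn⟩ := T.isPGroup'.exists_card_eq
      rw [hn] at hd
      exact (Nat.prime_dvd_prime_iff_eq hp Nat.prime_two).1 (hp.dvd_of_dvd_pow hd)).1).1 π.ker hV z hq
  set D := (pCore 3 (G ⧸ 𝒞(π.ker))).comap (QuotientGroup.mk' 𝒞(π.ker)) with hD
  have nD : D.Normal := Normal.comap inferInstance _
  have pM : IsPGroup 3 (D.map π) := by
    rintro ⟨_, d, hd, rfl⟩
    obtain ⟨k, hk⟩ := CfsgLib.Core.isPGroup_pCore 3 _ ⟨_, hd⟩
    refine ⟨k, Subtype.ext ?_⟩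
    have h3 : d ^ 3 ^ k ∈ 𝒞(π.ker) := by
      rw [← QuotientGroup.eq_one_iff, QuotientGroup.mk_pow]
      exact congrArg Subtype.val hk
    change π d ^ 3 ^ k = 1
    rw [← map_pow]
    exact mem_bot.1 (e1.le (mem_map_of_mem π h3))
  have nle : ∀ {S : Subgroup Γ}, 12 ∣ Nat.card S → ¬ S ≤ D.map π := fun {S} h12 hS => by
    obtain ⟨n, hn⟩ := (pM.to_le hS).exists_card_eq
    rw [hn] at h12
    exact absurd (Nat.prime_two.dvd_of_dvd_pow ((by norm_num : 2 ∣ 12).trans h12)) (by norm_num)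
  exact hz (mem_bot.1 ((eq_bot_of_normal h1.toSmp h2.toSmp hc ht (nrm nD) (nle h1.d12) (nle h2.d12)).le
    (mem_map_of_mem π e2)))

/-- `jord` with `A = S₁.comap π`, `B = S₂.comap π`, `x, y` lifts of elements of order 9 (`spec`); `no27`. -/
theorem Sit.ker3 {m₁ m₂ : ℕ} (h : Sit π m μ) (h1 : ReA S₁ m₁) (h2 : ReA S₂ m₂) (hc : S₁ ≤ 𝒞(S₂))
    (ht : S₁ ⊔ S₂ = ⊤) (hV : IsElementaryAbelian 3 π.ker) (h0 : π.ker ≠ ⊥)
    (hmin : ∀ N : Subgroup G, N ≤ π.ker → ⊤ ≤ 𝒩(N) → N = ⊥ ∨ N = π.ker) : False := by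
  obtain ⟨x', ox⟩ := (h1.spec 9).2 (Or.inr (Or.inl dvd_rfl))
  obtain ⟨y', oy⟩ := (h2.spec 9).2 (Or.inr (Or.inl dvd_rfl))
  rw [← orderOf_coe] at ox oy
  obtain ⟨x, ex⟩ := h.surj x'
  obtain ⟨y, ey⟩ := h.surj y'
  have VC : π.ker ≤ 𝒞(π.ker) := PLocal.elemAb_le_centralizer hV
  have k9 : ∀ {g : G}, orderOf (π g) = 9 → π g ^ 9 = 1 ∧ π (g ^ 3) ≠ 1 := fun {g} e =>
    ⟨e ▸ pow_orderOf_eq_one _, by rw [map_pow]; exact pow_ne_one_of_lt_orderOf (by norm_num) (by omega)⟩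
  have hx : π x ∈ S₁ := ex ▸ x'.2
  have hy : π y ∈ S₂ := ey ▸ y'.2
  obtain ⟨x1, x2⟩ := k9 (ex ▸ ox)
  obtain ⟨y1, y2⟩ := k9 (ey ▸ oy)
  refine h.up.no27 h.par (jord (A := S₁.comap π) (B := S₂.comap π) hV le_normalizer_of_normal hmin
    (by rw [comap_sup_eq π _ _ h.surj, ht, comap_top]) (commutator_le.2 fun a ha b hb => VC ?_) hx hy
    (VC (by rwa [MonoidHom.mem_ker, map_pow])) (VC (by rwa [MonoidHom.mem_ker, map_pow]))
    (h.quad h1 h2 hc ht hV h0 x2) (h.quad h1 h2 hc ht hV h0 y2) ?_)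
  · rw [MonoidHom.mem_ker, map_commutatorElement, commutatorElement_eq_one_iff_mul_comm]
    exact (hc ha _ hb).symm
  · rw [MonoidHom.mem_ker, map_pow, map_mul, Commute.mul_pow (hc hx _ hy).symm, x1, y1, one_mul]

end CfsgLib.RSQ
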