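import Mathlib
import Cfsg.Agent.Lib.RSQ.Ker3

/-!
RSQ package KER: the kernel is trivial.
-/

set_option autoImplicit false
set_option linter.unusedSectionVars false
set_option linter.style.haveILetI false

namespace CfsgLib.RSQ

open Cfsg Subgroup CfsgLib.BG CfsgLib.CIT.App CfsgLib.Comp CfsgLib.SpecSq
open scoped commutatorElement

variable {G : Type*} [Group G] [Finite G] {Γ : Type*} [Group Γ] [Finite Γ] {π : G →* Γ}
  {μ : Fin 5 → ℕ} {m : ℕ} {S S₁ S₂ : Subgroup Γ} {r f r₁ f₁ r₂ f₂ : ℕ}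

/-- `T` Sylow 2 of the kernel, `T ≠ ⊥`; `A = 𝒩(T)` covers everything (`cover_of_Hall`); `Simp.hh` with
`p = 2`, `t = 3`, `a = 0` (pair `p2`) for `S₁` and for `S₂`: `C = A ⊓ 𝒞(T)` covers both, so `x y ∈ C.map π` for
`x ∈ S₁` of prime order `c` of class 3, `y ∈ S₂` of prime order `e` of class 4 (`spec`, `m3`, `m4`);
`exists_of_cover` gives an element of order `c e` of `C`, times an involution of `T`: against `n1`. -/
theorem Sit.odd_ker (h : Sit π m μ) (h1 : ReA S₁ m) (h2 : ReA S₂ m) (hc : S₁ ≤ 𝒞(S₂)) :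
    ¬ 2 ∣ Nat.card π.ker := by
  intro hd
  obtain ⟨T, hT⟩ := Sylow_exists Nat.prime_two π.ker
  have key : ∀ {S : Subgroup Γ}, ReA S m → S ≤ (𝒩(T) ⊓ 𝒞(T)).map π := fun hS => by
    obtain ⟨Q, x, q1, q2, q3, q4, q5, q6⟩ := hS.p2
    refine hS.simp.hh (a := 0) Nat.prime_two Nat.prime_three (by norm_num)
      (cover_of_Hall h.surj h.sol hT _) hT.2.1 le_rfl q2 q1 q3 q4
      (by simpa [q5] using pow_orderOf_eq_one x) (by simpa using q6) (h.up.no4 h.par) fun b k hb hk e => ?_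
    have e1 : 2 ^ b ≤ 2 ^ 1 := Nat.pow_le_pow_right (by norm_num) hb
    have e2 : 3 ^ 1 ≤ 3 ^ k := Nat.pow_le_pow_right (by norm_num) hk
    omega
  obtain ⟨c, c3⟩ := h.par.exists_cl 3
  obtain ⟨e, e4⟩ := h.par.exists_cl 4
  have hle : 3 ^ (m + 1) ≤ 3 ^ (2 * m + 1) := Nat.pow_le_pow_right (by norm_num) (by omega)
  have m3 : μ 3 = 3 ^ (2 * m + 1) - 3 ^ (m + 1) + 1 := by have := h.par.m3; omega
  obtain ⟨x, hx⟩ := (h1.spec c).2 (.inr (.inr (.inr (.inr (.inl (m3 ▸ c3.2))))))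
  obtain ⟨y, hy⟩ := (h2.spec e).2 (.inr (.inr (.inr (.inr (.inr (h.par.m4 ▸ e4.2))))))
  obtain ⟨g, hg, og⟩ := exists_mul_of_cent e4.1 c3.1 (Cl.ne h.par (by decide) e4 c3)
    (hy ▸ orderOf_dvd_natCard y) (hx ▸ orderOf_dvd_natCard x) hc (key h2) (key h1)
  have := hasOrd_mul_cent (L := 𝒩(T) ⊓ 𝒞(T)) (C := T) (cents_symm inf_le_right)
    (exists_of_cover hg (og ▸ dvd_rfl)) Nat.prime_two
    (pgp_pdiv hT.2.1 (Sylow_ne_bot Nat.prime_two hT hd)).2
    (Nat.Coprime.mul_left ((Nat.coprime_primes e4.1 Nat.prime_two).2 (e4.ne_two h.par))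
      ((Nat.coprime_primes c3.1 Nat.prime_two).2 (c3.ne_two h.par)))
  exact h.up.n1 c e c3 e4 (by rwa [show 2 * c * e = e * c * 2 by ring])

/-- The kernel `K` is a 3-group (`Ub.cls`, `hK`, `odd_ker`, `Cl.eq_three`).  If `K ≠ ⊥` take `N` maximal among
the normal subgroups of `G` properly contained in `K`; `π' = QuotientGroup.lift N π _ : G ⧸ N →* Γ` is
surjective with kernel `K.map (mk' N)`, a minimal normal subgroup of `G ⧸ N` and a nontrivial 3-group, hence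
elementary abelian (its Frattini subgroup / `Ω₁(Z)` is normal); `Sit π' m μ` by `Ub.of_surj`; `ker3`. -/
theorem Sit.ker_eq_bot (h : Sit π m μ) (h1 : ReA S₁ m) (h2 : ReA S₂ m) (hc : S₁ ≤ 𝒞(S₂))
    (ht : S₁ ⊔ S₂ = ⊤) (hK : ∀ i : Fin 5, i ≠ 0 → ¬ Mt μ i π.ker) : π.ker = ⊥ := by
  have h3 : IsPiSubgroup {3} π.ker := fun p hp hd => by
    have p2 : p ≠ 2 := fun e => h.odd_ker h1 h2 hc (e ▸ hd)
    obtain ⟨i, hi⟩ := h.up.cls hp p2 (hd.trans (card_subgroup_dvd_card _))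
    by_cases i0 : i = 0
    · exact Cl.eq_three h.par (i0 ▸ hi)
    · exact (hK i i0 ⟨p, hi, hd⟩).elim
  by_contra h0
  obtain ⟨N, ⟨hN, hlt⟩, hmax⟩ := Set.Finite.exists_maximal
    (Set.toFinite {N : Subgroup G | N.Normal ∧ N < π.ker}) ⟨⊥, inferInstance, bot_lt_iff_ne_bot.2 h0⟩
  let π' : G ⧸ N →* Γ := QuotientGroup.lift N π hlt.le
  have hk : π'.ker = π.ker.map (QuotientGroup.mk' N) := QuotientGroup.ker_lift N π hlt.le
  have hs : Function.Surjective (QuotientGroup.mk' N) := QuotientGroup.mk'_surjective N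
  have sol : Group.IsSolvable π'.ker := by
    rw [hk]
    have := h.sol
    exact Group.isSolvable_of_surjective (MonoidHom.subgroupMap_surjective _ _)
  have h0' : π'.ker ≠ ⊥ := by
    rw [hk, Ne, Subgroup.map_eq_bot_iff, QuotientGroup.ker_mk']
    exact hlt.not_ge
  have hmin : ∀ M : Subgroup (G ⧸ N), M ≤ π'.ker → ⊤ ≤ 𝒩(M) → M = ⊥ ∨ M = π'.ker := fun M hM hn => by
    have : M.Normal := normalizer_eq_top_iff.1 (top_le_iff.1 hn)
    have k1 : N ≤ M.comap (QuotientGroup.mk' N) :=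
      (QuotientGroup.ker_mk' N).ge.trans (M.ker_le_comap _)
    have k2 : M.comap (QuotientGroup.mk' N) ≤ π.ker := fun x hx => hM hx
    rw [← map_comap_eq_self_of_surjective hs M]
    rcases k2.lt_or_eq with k3 | k3
    · left
      rw [Subgroup.map_eq_bot_iff, QuotientGroup.ker_mk']
      exact hmax ⟨inferInstance, k3⟩ k1
    · right
      rw [k3, hk]
  obtain ⟨p, hp, hV⟩ := minnormal_solvable_abelem (M := π'.ker) (A := ⊤)
    ⟨h0', (normalizer_eq_top _).ge, fun M hM m0 hn => (hmin M hM hn).resolve_left m0⟩ sol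
  obtain rfl : p = 3 := h3 p hp
    ((pgp_pdiv (abelem_pgroup hp hV) h0').2.trans (hk ▸ card_map_dvd _ _))
  exact Sit.ker3 (π := π') ⟨h.par, h.up.of_surj _ hs,
    QuotientGroup.lift_surjective_of_surjective N π h.surj _, sol⟩ h1 h2 hc ht hV h0' hmin

end CfsgLib.RSQ
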