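import Mathlib
import Cfsg.Agent.Lib.RSQ.Gen

/-!
RSQ package L2E: the groups `L₂(2 ^ f)`.  Tools: `psl2_even_card`, `psl2_even_hasOrd`, `hasOrd_congr`,
`Syl8.card_out_psl`, `ReeRec.exists_cyclic` (see `SpecSq.jp_of`, `SpecSq.comp_cases` in `Lib/SpecSq/JB.lean`).
-/

set_option autoImplicit false
set_option linter.unusedSectionVars false
set_option linter.style.haveILetI false

namespace CfsgLib.RSQ

open Cfsg Subgroup CfsgLib.BG CfsgLib.CIT.App CfsgLib.Comp CfsgLib.SpecSq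
open scoped commutatorElement MatrixGroups

variable {G : Type*} [Group G] [Finite G] {Γ : Type*} [Group Γ] [Finite Γ] {π : G →* Γ}
  {μ : Fin 5 → ℕ} {m : ℕ} {S S₁ S₂ : Subgroup Γ} {r f r₁ f₁ r₂ f₂ : ℕ}

/-- `f` is odd (else `5 ∣ 2 ^ f - 1` or `5 ∣ 2 ^ f + 1` is an element order), so `f ≥ 3`, `3 ∣ 2 ^ f + 1`,
`3 ∤ 2 ^ f - 1`.  `r` any prime divisor of `2 ^ f - 1` (so `r ≥ 5`).  `pair`: `ReeRec.exists_cyclic` gives a
cyclic subgroup of order `2 ^ f - 1` normalising a Sylow 2-subgroup; `pair_of_no` (`2 r` is no order).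
`CycS w S` for every odd prime `w` by `cycS_of_hasOrd` (`k = 2 ^ f - 1` or `2 ^ f + 1`, these are coprime);
`line` from `CycS.line`; `cent`: `2 w` is no order, so the centraliser has odd order (`sol_of_not_four`);
`out`: `|Out| = f`; `big`: `k = 2 ^ f - 1`.  `EvP` with `k = 2 ^ f - 1`: otherwise `w ∣ 2 ^ f + 1` and
`3 w ∣ 2 ^ f + 1`. -/
theorem cmp_even (hS : Smp S) (h4 : ¬ HasOrd S (2 ^ 2)) (h5 : ¬ HasOrd S 5) {F : Type*} [Field F]
    [Fintype F] (hf : 2 ≤ f) (hF : Fintype.card F = 2 ^ f) (e : S ≃* PSL(2, F)) :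
    ∃ r, Cmp S r f ∧ EvP S r := by
  have f0 : f ≠ 0 := by omega
  have ho := fun k => (hasOrd_congr e (k := k)).trans (psl2_even_hasOrd f0 hF k)
  have hc : Nat.card S = 2 ^ f * ((2 ^ f - 1) * (2 ^ f + 1)) :=
    (Nat.card_congr e.toEquiv).trans (psl2_even_card f0 hF)
  have fo : Odd f := by
    by_contra hn
    obtain ⟨k, rfl⟩ := Nat.not_odd_iff_even.1 hn
    have h1 : ∀ k : ℕ, 2 ^ (k + k) % 5 = 1 ∨ 2 ^ (k + k) % 5 = 4 := fun k => by
      induction k with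
      | zero => simp
      | succ k ih => rw [show k + 1 + (k + 1) = k + k + 2 by ring, pow_add]; omega
    have := h1 k
    exact h5 ((ho 5).2 (.inr (by omega)))
  have h3 : 2 ^ f % 3 = 2 := by
    obtain ⟨k, rfl⟩ := fo
    have h1 : ∀ k : ℕ, 2 ^ (2 * k + 1) % 3 = 2 := fun k => by
      induction k with
      | zero => simp
      | succ k ih => rw [show 2 * (k + 1) + 1 = 2 * k + 1 + 2 by ring, pow_add]; omega
    exact h1 k
  have h4' : 4 ∣ 2 ^ f := pow_dvd_pow 2 hf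
  have hge : 4 ≤ 2 ^ f := Nat.le_of_dvd (Nat.two_pow_pos f) h4'
  have hw2 : ∀ w : ℕ, w.Prime → w ≠ 2 → ¬ w ∣ 2 ^ f := fun w hw w2 h =>
    w2 ((Nat.prime_dvd_prime_iff_eq hw Nat.prime_two).1 (hw.dvd_of_dvd_pow h))
  have hab : ∀ w : ℕ, w.Prime → w ≠ 2 → w ∣ 2 ^ f - 1 → ¬ w ∣ 2 ^ f + 1 := fun w hw w2 h1 h2 => by
    have := Nat.dvd_sub h2 h1
    rw [show 2 ^ f + 1 - (2 ^ f - 1) = 2 by omega] at this
    exact w2 ((Nat.prime_dvd_prime_iff_eq hw Nat.prime_two).1 this)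
  have ka : HasOrd S (2 ^ f - 1) := (ho _).2 (.inr (.inl dvd_rfl))
  have kb : HasOrd S (2 ^ f + 1) := (ho _).2 (.inr (.inr dvd_rfl))
  have cyc : ∀ w : ℕ, w.Prime → w ≠ 2 → CycS w S := fun w hw w2 => by
    by_cases h1 : w ∣ 2 ^ f - 1
    · refine cycS_of_hasOrd (c := 2 ^ f * (2 ^ f + 1)) hw ka (by rw [hc]; exact ⟨1, by ring⟩) fun h => ?_
      exact (hw.dvd_mul.1 h).elim (hw2 w hw w2) (hab w hw w2 h1)
    · refine cycS_of_hasOrd (c := 2 ^ f * (2 ^ f - 1)) hw kb (by rw [hc]; exact ⟨1, by ring⟩) fun h => ?_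
      exact (hw.dvd_mul.1 h).elim (hw2 w hw w2) h1
  have no2 : ∀ w : ℕ, 2 ≤ w → ¬ HasOrd S (2 * w) := fun w hw h => by
    rcases (ho _).1 h with h | h | h
    · have := Nat.le_of_dvd two_pos h
      omega
    · have := (dvd_mul_right 2 w).trans h
      omega
    · have := (dvd_mul_right 2 w).trans h
      omega
  obtain ⟨r, hr, hd⟩ := Nat.exists_prime_and_dvd (show 2 ^ f - 1 ≠ 1 by omega)
  have r2 : r ≠ 2 := by rintro rfl; omega
  have r3 : r ≠ 3 := by rintro rfl; omega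
  have r5 : 5 ≤ r := by
    have := hr.two_le
    have : r ≠ 4 := by rintro rfl; exact absurd hr (by norm_num)
    omega
  have rS : r ∣ Nat.card S := hc ▸ (hd.mul_right _).mul_left _
  haveI := Fact.mk Nat.prime_two
  obtain ⟨T⟩ : Nonempty (Sylow 2 S) := inferInstance
  have hT : Nat.card T = 2 ^ f := by
    have h1 : ¬ 2 ∣ (2 ^ f - 1) * (2 ^ f + 1) := fun h =>
      (Nat.prime_two.dvd_mul.1 h).elim (by omega) (by omega)
    rw [T.card_eq_multiplicity, hc, Nat.factorization_mul (by omega) (fun h => h1 (by rw [h]; exact dvd_zero 2)),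
      Nat.prime_two.factorization_pow, Finsupp.add_apply, Finsupp.single_eq_same,
      Nat.factorization_eq_zero_of_not_dvd h1, add_zero]
  obtain ⟨C, c1, -, c2⟩ := ReeRec.exists_cyclic_even (by omega) hF e T
  have hQ := isSylowOf_map Nat.prime_two T
  have pr : Pair S 2 r := by
    refine pair_of_no Nat.prime_two hr r2.symm (no2 r hr.two_le) hQ.1 hQ.2.1
      (Sylow_ne_bot Nat.prime_two hQ (hc ▸ (dvd_pow_self 2 f0).mul_right _)) ?_
    have h1 : C.map S.subtype ≤ S ⊓ 𝒩((T : Subgroup S).map S.subtype) :=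
      le_inf (map_subtype_le C) ((map_mono c1).trans (le_normalizer_map _))
    refine dvd_trans ?_ (card_dvd_of_le h1)
    rw [card_map_of_injective S.subtype_injective, c2, hT]
    exact hd
  refine ⟨r, ⟨hS, ?_, ⟨r, hr, r5, rS⟩, hr, r2, pr, .inl (cyc r hr r2), fo, out_of_equiv e ?_,
    ⟨_, ka, .inl (by omega)⟩, fun x hx y hy hp p5 hxy => (cyc _ hp (by omega)).line hx hy hp hxy,
    fun x hx hp p5 => sol_of_not_four fun h => ?_, .inl (cyc 3 Nat.prime_three (by norm_num))⟩,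
    r5, _, ka, hd, fun w hw w5 hwS => ?_⟩
  · rw [hc]
    exact mul_dvd_mul h4' ((show 3 ∣ 2 ^ f + 1 by omega).mul_left _)
  · rw [Syl8.card_out_psl Nat.prime_two hF hge]
    exact mul_dvd_mul_right (Nat.gcd_dvd_left _ _) f
  · obtain ⟨y, hy, y2⟩ := BG.Cauchy Nat.prime_two ((by norm_num : 2 ∣ 4).trans h)
    have hxy : Commute y x := mem_cent1.1 hy.2
    refine no2 _ hp.two_le (hasOrd_sub.2 ⟨y * x, mul_mem hy.1 hx, ?_⟩)
    rw [hxy.orderOf_mul_eq_mul_orderOf_of_coprime (by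
      rw [y2]; exact (Nat.coprime_primes Nat.prime_two hp).2 (by omega)), y2]
  · rw [hc] at hwS
    rcases hw.dvd_mul.1 hwS with h | h
    · exact absurd h (hw2 w hw (by omega))
    · refine (hw.dvd_mul.1 h).imp_right fun h => (ho _).2 (.inr (.inr ?_))
      exact ((Nat.coprime_primes Nat.prime_three hw).2 (by omega)).mul_dvd_of_dvd_of_dvd (by omega) h

end CfsgLib.RSQ
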