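import Mathlib
import Cfsg.Agent.Lib.RSQ.Gen
import Cfsg.Agent.S0802
import Cfsg.Agent.S0807
import Cfsg.Agent.S0808
import Cfsg.Agent.S0276

/-!
RSQ package L2L: local facts on `L₂(u)`, `u ≡ ±3 (mod 8)`.
-/

set_option autoImplicit false
set_option linter.unusedSectionVars false
set_option linter.style.haveILetI false

namespace CfsgLib.RSQ

open Cfsg Subgroup CfsgLib.BG CfsgLib.CIT.App CfsgLib.Comp CfsgLib.SpecSq
open scoped commutatorElement MatrixGroups

variable {G : Type*} [Group G] [Finite G] {Γ : Type*} [Group Γ] [Finite Γ] {π : G →* Γ}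
  {μ : Fin 5 → ℕ} {m : ℕ} {S S₁ S₂ : Subgroup Γ} {r f r₁ f₁ r₂ f₂ : ℕ}

variable {F : Type*} [Field F] [Fintype F]

/-- the upper unitriangular matrices in `PSL` -/
def l2lU (F : Type*) [Field F] : Multiplicative F →* PSL(2, F) :=
  (QuotientGroup.mk' _).comp (MonoidHom.mk' (fun t => ⟨!![1, t.toAdd; 0, 1], by simp⟩) fun s t =>
    Subtype.ext (show !![1, (s * t).toAdd; 0, 1] = !![1, s.toAdd; 0, 1] * !![1, t.toAdd; 0, 1] by
      simp [add_comm]))

/-- the diagonal matrices in `PSL` -/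
def l2lD (F : Type*) [Field F] : Fˣ →* PSL(2, F) :=
  (QuotientGroup.mk' _).comp (MonoidHom.mk' (fun a => ⟨!![(a : F), 0; 0, (a : F)⁻¹], by simp⟩) fun s t =>
    Subtype.ext (show !![((s * t : Fˣ) : F), 0; 0, ((s * t : Fˣ) : F)⁻¹] =
      !![(s : F), 0; 0, (s : F)⁻¹] * !![(t : F), 0; 0, (t : F)⁻¹] by simp [mul_comm]))

theorem l2l_inj : Function.Injective (l2lU F) := (injective_iff_map_eq_one _).2 fun t h => by
  obtain ⟨r, -, e⟩ := Matrix.SpecialLinearGroup.mem_center_iff.1 ((QuotientGroup.eq_one_iff _).1 h)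
  have : Matrix.scalar (Fin 2) r 0 1 = t.toAdd := congrFun (congrFun e 0) 1
  exact toAdd_eq_zero.1 (this.symm.trans (by simp))

theorem l2l_conj (a : Fˣ) (t : F) : l2lD F a * l2lU F (.ofAdd t) * (l2lD F a)⁻¹ = l2lU F (.ofAdd (a * a * t)) := by
  rw [mul_inv_eq_iff_eq_mul, l2lU, l2lD, MonoidHom.comp_apply, MonoidHom.comp_apply, MonoidHom.comp_apply,
    ← map_mul, ← map_mul]
  exact congrArg _ (Subtype.ext (show !![(a : F), 0; 0, (a : F)⁻¹] * !![1, t; 0, 1] =
    !![1, a * a * t; 0, 1] * !![(a : F), 0; 0, (a : F)⁻¹] by simp [mul_right_comm _ t]))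

theorem l2l_card : Nat.card (l2lU F).range = Fintype.card F := by
  rw [← Nat.card_congr (MonoidHom.ofInjective l2l_inj).toEquiv, Nat.card_eq_fintype_card,
    Fintype.card_multiplicative]

theorem l2l_ord {p : ℕ} (hp : p.Prime) [CharP F p] {t : F} (ht : t ≠ 0) : orderOf (l2lU F (.ofAdd t)) = p := by
  have := Fact.mk hp
  refine orderOf_eq_prime ?_ fun e => ht (ofAdd_eq_one.1 ((map_eq_one_iff _ l2l_inj).1 e))
  rw [← map_pow, ← ofAdd_nsmul, nsmul_eq_mul, CharP.cast_eq_zero, zero_mul, ofAdd_zero, map_one]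

theorem l2l_line {p : ℕ} (hp : p.Prime) (hF : Fintype.card F = p ^ f)
    (h8 : Fintype.card F % 8 = 3 ∨ Fintype.card F % 8 = 5) {x : PSL(2, F)} (hx : orderOf x = p) :
    ∃ s, cj s (zpowers (l2lU F (.ofAdd 1))) = zpowers x := by
  classical
  have := Fact.mk hp
  have : CharP F p := charP_of_card_eq_prime_pow hF
  have hq : 1 < Fintype.card F := Fintype.one_lt_card
  have f0 : f ≠ 0 := by rintro rfl; simp [hF] at hq
  have hi : ¬ p ∣ (l2lU F).range.index := fun hd => by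
    have e := Classical.psl2_card_mul (F := F)
    rw [← (l2lU F).range.card_mul_index, l2l_card, mul_left_comm] at e
    have h1 : p ∣ Fintype.card F ^ 2 - 1 := Nat.eq_of_mul_eq_mul_left (by omega) e ▸ hd.mul_left _
    have h2 : p ∣ Fintype.card F ^ 2 := dvd_pow (hF ▸ dvd_pow_self p f0) two_ne_zero
    exact hp.one_lt.ne' (Nat.dvd_one.1 ((Nat.dvd_sub_iff_right (Nat.one_le_pow _ _ (by omega)) h2).1 h1))
  let P := (IsPGroup.of_card (l2l_card.trans hF)).toSylow hi
  obtain ⟨Q, hQ⟩ := (IsPGroup.of_card (n := 1) ((Nat.card_zpowers x).trans (hx.trans (pow_one p).symm))).exists_le_sylow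
  obtain ⟨g, rfl⟩ := MulAction.exists_smul_eq PSL(2, F) P Q
  obtain ⟨_, ⟨t, rfl⟩, e⟩ := mem_cj'.1 (show x ∈ cj g (l2lU F).range from hQ (mem_zpowers x))
  have t0 : t.toAdd ≠ 0 := fun h => hp.one_lt.ne (by
    rw [← hx, e, toAdd_eq_zero.1 h, map_one, mul_one, mul_inv_cancel, orderOf_one])
  have n2 : ¬ IsSquare (2 : F) := by rw [FiniteField.isSquare_two_iff]; omega
  have h2 : (2 : F) ≠ 0 := fun h => n2 (h ▸ IsSquare.zero)
  have z2 : zpowers (l2lU F (.ofAdd 2)) = zpowers (l2lU F (.ofAdd 1)) := eq_of_le_of_card_ge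
    (zpowers_le.2 (by
      rw [← one_add_one_eq_two (R := F), ofAdd_add, map_mul]; exact mul_mem (mem_zpowers _) (mem_zpowers _)))
    (by rw [Nat.card_zpowers, Nat.card_zpowers, l2l_ord hp h2, l2l_ord hp one_ne_zero])
  by_cases hs : IsSquare t.toAdd
  · obtain ⟨a, ha⟩ := hs
    refine ⟨g * l2lD F (Units.mk0 a (left_ne_zero_of_mul (ha ▸ t0))), ?_⟩
    rw [cj_mul, cj_zpowers, l2l_conj, cj_zpowers, e, Units.val_mk0, mul_one, ← ha, ofAdd_toAdd]
  · obtain ⟨a, ha⟩ : IsSquare (t.toAdd * 2) := (quadraticChar_one_iff_isSquare (mul_ne_zero t0 h2)).1 (by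
      rw [map_mul, quadraticChar_neg_one_iff_not_isSquare.2 hs, quadraticChar_neg_one_iff_not_isSquare.2 n2]
      norm_num)
    have a0 : a ≠ 0 := left_ne_zero_of_mul (ha ▸ mul_ne_zero t0 h2)
    refine ⟨g * l2lD F (Units.mk0 (a / 2) (div_ne_zero a0 h2)), ?_⟩
    rw [← z2, cj_mul, cj_zpowers, l2l_conj, cj_zpowers, e, Units.val_mk0,
      show a / 2 * (a / 2) * 2 = t.toAdd by field_simp; linear_combination -ha, ofAdd_toAdd]

theorem l2l_a4 : Pair (⊤ : Subgroup (alternatingGroup (Fin 4))) 2 3 := by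
  let Q : Subgroup (alternatingGroup (Fin 4)) :=
    { carrier := {g | g * g = 1}
      one_mem' := mul_one 1
      mul_mem' := fun {a b} => (by decide : ∀ a b : alternatingGroup (Fin 4), a * a = 1 → b * b = 1 →
        a * b * (a * b) = 1) a b
      inv_mem' := fun {a} (h : a * a = 1) => show a⁻¹ * a⁻¹ = 1 by rw [← mul_inv_rev, h, inv_one] }
  refine ⟨Q, Dickson.a4b, le_top, (pigroup_singleton Nat.prime_two).2 fun g => ⟨1, Subtype.ext ?_⟩, mem_top _,
    mem_norm_of_cj_le (cj_le_iff.2 fun g (hg : g * g = 1) => show _ * _ = 1 by rw [conj_mul, hg]; simp),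
    orderOf_eq_prime Dickson.a4_rels.2.1 (by decide), fun h => ?_⟩
  · exact (sq _).trans g.2
  · exact absurd (h Dickson.a4a ((sq _).symm.trans Dickson.a4_rels.1)) (by decide)

/-- a subgroup `A₄` (`Cfsg.Agent.S0802.result`): its four-group and an element of order three -/
theorem psl_pair (h8 : Fintype.card F % 8 = 3 ∨ Fintype.card F % 8 = 5) :
    Pair (⊤ : Subgroup PSL(2, F)) 2 3 := by
  obtain ⟨p, hc, n, hp, hn⟩ := FiniteField.card' F
  have := Fact.mk hp
  obtain ⟨H, ⟨e⟩⟩ := (Cfsg.Agent.S0802.result p n hn).2 fun h => by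
    have : 2 ∣ Fintype.card F := by rw [hn, h.1]; exact dvd_pow_self 2 n.ne_zero
    omega
  obtain ⟨Q, x, -, h2, -, h3⟩ := Pair.of_equiv e l2l_a4
  exact ⟨Q, x, le_top, h2, mem_top _, h3⟩

/-- If `4 ∣ |𝒞[x]|` then `𝒞[x]` contains a subgroup `V` of order 4, a Sylow 2-subgroup, a four-group
(`S0276`); all four-groups are conjugate (`S0808`) and there are `|G| / 12` of them (`S0807`), so
`|𝒩(V)| = 12` and `orderOf x ∣ 12`, impossible.  `sol_of_not_four`. -/
theorem psl_cent (h8 : Fintype.card F % 8 = 3 ∨ Fintype.card F % 8 = 5) (x : PSL(2, F))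
    (hp : (orderOf x).Prime) (h5 : 5 ≤ orderOf x) : Group.IsSolvable ↥𝒞[x] := by
  refine sol_of_not_four fun hd => ?_
  have ho : Odd (Fintype.card F) := Nat.odd_iff.2 (by omega)
  obtain ⟨K, hK⟩ := Sylow.exists_subgroup_card_pow_prime 2 (n := 2) hd
  have hV : Nat.card (K.map (𝒞[x]).subtype) = 2 ^ 2 := by rw [card_map_of_injective (subtype_injective _), hK]
  obtain ⟨P, hP⟩ := (IsPGroup.of_card hV).exists_le_sylow
  have k := Cfsg.Agent.S0276.result rfl h8 P
  have e : (P : Subgroup PSL(2, F)) = K.map (𝒞[x]).subtype :=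
    (eq_of_le_of_card_ge hP (by rw [hV, k.card_four]; rfl)).symm
  have h1 := Cfsg.Agent.S0807.result rfl ho (F := F)
  rw [Nat.card_congr (Equiv.subtypeEquivRight fun W : Subgroup PSL(2, F) => (⟨(Cfsg.Agent.S0808.result rfl ho).1 h8 _ W k, fun ⟨g, hg⟩ =>
      hg ▸ (Dickson.isKleinFour_map_iff (MulAut.conj g).injective).2 k⟩ :
      IsKleinFour W ↔ ∃ g, W = (P : Subgroup PSL(2, F)).map (MulAut.conj g).toMonoidHom)),
    Dickson.card_conjugates, ← (𝒩((P : Subgroup PSL(2, F)))).card_mul_index] at h1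
  have h2 := Nat.eq_of_mul_eq_mul_right (Nat.pos_of_ne_zero index_ne_zero_of_finite) h1
  have h3 : x ∈ 𝒩((P : Subgroup PSL(2, F))) := centralizer_le_normalizer _ fun g hg =>
    mem_centralizer_singleton_iff.1 (map_subtype_le K (e ▸ hg))
  have h4 : orderOf x ∣ 2 ^ 2 * 3 := by have := order_dvdG h3; rwa [← h2] at this
  rcases hp.dvd_mul.1 h4 with h | h
  · have := Nat.le_of_dvd two_pos (hp.dvd_of_dvd_pow h); omega
  · have := Nat.le_of_dvd three_pos h; omega

/-- Subgroups of order `p = char F`.  The image `U` of the upper unitriangular group `{u(t)}` is a Sylow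
`p`-subgroup (order `|F|`), so `x, y` are conjugate into `U`; `diag(a, a⁻¹)` conjugates `u(t)` to `u(a² t)`; `2` is
not a square (`FiniteField.isSquare_two_iff`), so every `t ≠ 0` is `a²` or `2 a²`, and `u(2) = u(1)²` generates
the same subgroup as `u(1)`. -/
theorem psl_line {p : ℕ} (hp : p.Prime) (hF : Fintype.card F = p ^ f)
    (h8 : Fintype.card F % 8 = 3 ∨ Fintype.card F % 8 = 5) {x y : PSL(2, F)} (hx : orderOf x = p)
    (hy : orderOf y = p) : ∃ s, cj s (zpowers y) = zpowers x := by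
  obtain ⟨s, hs⟩ := l2l_line hp hF h8 hx
  obtain ⟨s', hs'⟩ := l2l_line hp hF h8 hy
  exact ⟨s * s'⁻¹, by rw [cj_mul, ← hs', cj_inv_cj, hs]⟩

/-- The Borel subgroup: `U` as above and `diag(a, a⁻¹)` with `a ∈ Fˣ` of odd prime order `w ∣ |F| - 1`
(it has order `w` in `PSL` and maps `u(1)` to `u(a²) ≠ u(1)`). -/
theorem psl_bor {p w : ℕ} (hp : p.Prime) (hF : Fintype.card F = p ^ f) (hw : w.Prime) (h2 : w ≠ 2)
    (hd : w ∣ Fintype.card F - 1) : Pair (⊤ : Subgroup PSL(2, F)) p w := by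
  classical
  have := Fact.mk hw
  obtain ⟨a, ha⟩ := exists_prime_orderOf_dvd_card' (G := Fˣ) w (by
    rwa [Nat.card_units, Nat.card_eq_fintype_card])
  have n : l2lD F a ∉ 𝒞((l2lU F).range) := fun h => by
    have e := l2l_conj a 1
    rw [← h _ ⟨_, rfl⟩, mul_inv_cancel_right, mul_one] at e
    have e2 : a ^ 2 = 1 := Units.ext (by
      rw [sq, Units.val_mul]; exact (Multiplicative.ofAdd.injective (l2l_inj e)).symm)
    exact h2 ((Nat.prime_dvd_prime_iff_eq hw Nat.prime_two).1 (ha ▸ orderOf_dvd_of_pow_eq_one e2))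
  refine ⟨(l2lU F).range, l2lD F a, le_top, (pigroup_singleton hp).2 (IsPGroup.of_card (l2l_card.trans hF)),
    mem_top _, mem_norm_of_cj_le (cj_le_iff.2 ?_), orderOf_eq_prime ?_ fun e => n (e ▸ one_mem _), n⟩
  · rintro _ ⟨t, rfl⟩
    exact ⟨_, (l2l_conj a t.toAdd).symm⟩
  · rw [← map_pow, ← ha, pow_orderOf_eq_one, map_one]

end CfsgLib.RSQ
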