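import Mathlib
import Cfsg.Agent.Lib.RSQ.L2l

/-!
RSQ package L2O: the groups `L₂(u)`, `u = p ^ f ≡ ±3 (mod 8)`.  Tools: `psl2_odd_card`, `psl2_odd_hasOrd`,
`hasOrd_congr`, `Syl8.card_out_psl` (see `SpecSq.comp_cases` in `Lib/SpecSq/JB.lean`).
-/

set_option autoImplicit false
set_option linter.unusedSectionVars false
set_option linter.style.haveILetI false

namespace CfsgLib.RSQ

open Cfsg Subgroup CfsgLib.BG CfsgLib.CIT.App CfsgLib.Comp CfsgLib.SpecSq
open scoped commutatorElement MatrixGroups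

variable {G : Type*} [Group G] [Finite G] {Γ : Type*} [Group Γ] [Finite Γ] {π : G →* Γ}
  {μ : Fin 5 → ℕ} {m : ℕ} {S S₁ S₂ : Subgroup Γ} {r f r₁ f₁ r₂ f₂ : ℕ}

theorem l2o_card {F : Type*} [Field F] [Fintype F] {k : ℕ} (hk : Fintype.card F = 2 * k + 1)
    (e : S ≃* PSL(2, F)) : Nat.card S = 2 * ((2 * k + 1) * (k * (k + 1))) := by
  have hc := psl2_odd_card (F := F) ⟨k, hk⟩
  rw [← Nat.card_congr e.toEquiv, hk, Nat.add_sub_cancel] at hc
  refine Nat.eq_of_mul_eq_mul_left two_pos (hc.trans ?_)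
  ring

theorem l2o_ord {F : Type*} [Field F] [Fintype F] {p k : ℕ} (hp : p.Prime) (hF : Fintype.card F = p ^ f)
    (hk : Fintype.card F = 2 * k + 1) (e : S ≃* PSL(2, F)) (d : ℕ) :
    HasOrd S d ↔ d ∣ p ∨ d ∣ k ∨ d ∣ k + 1 := by
  rw [hasOrd_congr e, psl2_odd_hasOrd hp hF ⟨k, hk⟩, hk, show (2 * k + 1 - 1) / 2 = k by omega,
    show (2 * k + 1 + 1) / 2 = k + 1 by omega]

theorem l2o_cyc {F : Type*} [Field F] [Fintype F] {p k : ℕ} (hp : p.Prime) (hF : Fintype.card F = p ^ f)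
    (hk : Fintype.card F = 2 * k + 1) (e : S ≃* PSL(2, F)) {w : ℕ} (hw : w.Prime) (h2 : w ≠ 2) (hwp : w ≠ p) :
    CycS w S := by
  have hc := l2o_card hk e
  have n2 : ¬ w ∣ 2 := fun h => h2 ((Nat.prime_dvd_prime_iff_eq hw Nat.prime_two).1 h)
  have nu : ¬ w ∣ 2 * k + 1 := fun h => hwp ((Nat.prime_dvd_prime_iff_eq hw hp).1
    (hw.dvd_of_dvd_pow (n := f) (by rw [← hF, hk]; exact h)))
  by_cases h : w ∣ k
  · refine cycS_of_hasOrd (c := 2 * ((2 * k + 1) * (k + 1))) hw ((l2o_ord hp hF hk e k).2 (.inr (.inl dvd_rfl)))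
      (Dvd.intro_left 1 (by rw [hc]; ring)) fun hd => ?_
    rcases (hw.dvd_mul).1 hd with hd | hd
    · exact n2 hd
    rcases (hw.dvd_mul).1 hd with hd | hd
    · exact nu hd
    · exact hw.one_lt.ne' (Nat.dvd_one.1 ((Nat.dvd_add_right h).1 hd))
  · refine cycS_of_hasOrd (c := 2 * ((2 * k + 1) * k)) hw
      ((l2o_ord hp hF hk e (k + 1)).2 (.inr (.inr dvd_rfl))) (Dvd.intro_left 1 (by rw [hc]; ring)) fun hd => ?_
    rcases (hw.dvd_mul).1 hd with hd | hd
    · exact n2 hd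
    rcases (hw.dvd_mul).1 hd with hd | hd
    · exact nu hd
    · exact h hd

/-- `f` is odd (squares of odd numbers are `1 mod 8`).  `2 |S| = u (u-1) (u+1)`; orders: divisors of
`p, (u-1)/2, (u+1)/2`.  For an odd prime `w ≠ p`: `CycS w S` (`cycS_of_hasOrd`; `w` divides at most one of
`u ± 1`).  `p ≠ 3`: `CycS 3 S` gives `sim`, `cyc3`; `p ≥ 5` gives `big5`; `OdP` with `k = p`, `l` the one of
`(u ± 1)/2` not divisible by 3.  `p = 3`: `f ≥ 3`; `v` a prime divisor of `(u-1)/2` (odd, `> 1`, prime to 3),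
`w` a prime divisor of `(u+1)/4` (odd, `> 1`, prime to 3); `sim` by `psl_bor`; `OdP` with `(u-1)/2, (u+1)/2`.
`big`: `k = (u-1)/2`, `3 ^ f ≤ p ^ f = 2 k + 1`.  `out`: `|Out| = 2 f`.  `line`: `psl_line` for `w = p`,
`CycS.line` otherwise.  `d12`: `24 ∣ u (u² - 1)`. -/
theorem cmp_odd (hS : Smp S) {F : Type*} [Field F] [Fintype F] {p : ℕ} (hp : p.Prime)
    (hF : Fintype.card F = p ^ f) (h5 : 5 ≤ Fintype.card F)
    (h8 : Fintype.card F % 8 = 3 ∨ Fintype.card F % 8 = 5) (e : S ≃* PSL(2, F)) :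
    Cmp S 3 f ∧ OdP S := by
  obtain ⟨k, hk⟩ : ∃ k, Fintype.card F = 2 * k + 1 := ⟨Fintype.card F / 2, by omega⟩
  have hc := l2o_card hk e
  have ho := l2o_ord hp hF hk e
  have hu : p ^ f = 2 * k + 1 := hF.symm.trans hk
  have fodd : Odd f := by
    refine Nat.not_even_iff_odd.1 ?_
    rintro ⟨j, rfl⟩
    rw [hF, pow_add] at h8
    rw [pow_add] at hu
    have h1 : Odd (p ^ j) := (Nat.odd_mul.1 ⟨k, hu⟩).1
    generalize p ^ j = x at h8 h1
    have h2 : x % 8 = 1 ∨ x % 8 = 3 ∨ x % 8 = 5 ∨ x % 8 = 7 := by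
      have := Nat.odd_iff.1 h1
      omega
    rcases h2 with h | h | h | h <;> simp [Nat.mul_mod, h] at h8
  have f0 : f ≠ 0 := fodd.pos.ne'
  have pu : p ∣ 2 * k + 1 := hu ▸ dvd_pow_self p f0
  have p2 : p ≠ 2 := by
    rintro rfl
    omega
  have dv : ∀ w : ℕ, w.Prime → 5 ≤ w → w ∣ Nat.card S → w = p ∨ w ∣ k ∨ w ∣ k + 1 := fun w hw h5 hd => by
    rw [hc] at hd
    rcases (hw.dvd_mul).1 hd with hd | hd
    · have := Nat.le_of_dvd two_pos hd
      omega
    rcases (hw.dvd_mul).1 hd with hd | hd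
    · exact .inl ((Nat.prime_dvd_prime_iff_eq hw hp).1 (hw.dvd_of_dvd_pow (n := f) (hu ▸ hd)))
    · exact .inr ((hw.dvd_mul).1 hd)
  have d12 : 12 ∣ Nat.card S := by
    rw [hc]
    change 2 * 6 ∣ _
    refine mul_dvd_mul_left 2 ((ZMod.natCast_eq_zero_iff _ 6).1 ?_)
    push_cast
    generalize (k : ZMod 6) = x
    revert x
    decide
  have hk1 := (ho k).2 (.inr (.inl dvd_rfl))
  have hk2 := (ho (k + 1)).2 (.inr (.inr dvd_rfl))
  have mk : (∃ w : ℕ, w.Prime ∧ 5 ≤ w ∧ w ∣ Nat.card S) →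
      (CycS 3 S ∨ (3 = 3 ∧ ∃ w : ℕ, w.Prime ∧ 5 ≤ w ∧ Pair S 3 w)) →
      (CycS 3 S ∨ ∃ v w k l : ℕ, v.Prime ∧ w.Prime ∧ 5 ≤ v ∧ 5 ≤ w ∧ v ∣ Nat.card S ∧
        w ∣ Nat.card S ∧ Odd k ∧ v ∣ 3 ^ k - 1 ∧ w ∣ 3 ^ l + 1) → Cmp S 3 f := fun a b c =>
    { toSmp := hS
      d12 := d12
      big5 := a
      hr := Nat.prime_three
      r2 := by decide
      pair := Pair.of_equiv e (psl_pair h8)
      sim := b
      fodd := fodd
      out := out_of_equiv e (by
        rw [Syl8.card_out_psl hp hF (by omega)]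
        exact mul_dvd_mul_right (Nat.gcd_dvd_left _ _) f)
      big := ⟨k, hk1, .inr (hu ▸ Nat.pow_le_pow_left (by have := hp.two_le; omega) f)⟩
      line := line_of_equiv e fun x y hx h5' hxy => by
        by_cases h : orderOf x = p
        · exact psl_line hp hF h8 h (hxy.trans h)
        · exact (CycS.line (mem_top x) (mem_top y) hx (l2o_cyc hp hF hk topEquiv hx (by omega) h) hxy).imp
            fun s hs => hs.2
      cent := cent_of_equiv e (psl_cent h8)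
      cyc3 := c }
  by_cases p3 : p = 3
  · subst p3
    have u8 : 3 ^ f % 8 = 3 := by
      obtain ⟨j, rfl⟩ := fodd
      rw [pow_succ, pow_mul]
      simp [Nat.mul_mod, Nat.pow_mod]
    obtain ⟨t, rfl⟩ : ∃ t, k = 4 * t + 1 := ⟨k / 4, by omega⟩
    have hv := Nat.minFac_prime (n := 4 * t + 1) (by omega)
    have hw := Nat.minFac_prime (n := 2 * t + 1) (by omega)
    have dv' := Nat.minFac_dvd (4 * t + 1)
    have dw := Nat.minFac_dvd (2 * t + 1)
    generalize (4 * t + 1).minFac = v at hv dv'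
    generalize (2 * t + 1).minFac = w at hw dw
    have v2 : v ≠ 2 := by rintro rfl; omega
    have v5 : 5 ≤ v := hv.five_le_of_ne_two_of_ne_three v2 (by rintro rfl; omega)
    have w5 : 5 ≤ w := hw.five_le_of_ne_two_of_ne_three (by rintro rfl; omega) (by rintro rfl; omega)
    have vS : v ∣ Nat.card S := hc ▸ ((dv'.mul_right _).mul_left _).mul_left _
    have wk : w ∣ 4 * t + 1 + 1 := dw.trans (Dvd.intro_left 2 (by ring))
    have wS : w ∣ Nat.card S := hc ▸ ((wk.mul_left _).mul_left _).mul_left _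
    have v1 : v ∣ 3 ^ f - 1 := by
      rw [hu, Nat.add_sub_cancel]
      exact dv'.mul_left 2
    refine ⟨mk ⟨v, hv, v5, vS⟩ (.inr ⟨rfl, v, hv, v5, Pair.of_equiv e (psl_bor hp hF hv v2 (hF ▸ v1))⟩)
      (.inr ⟨v, w, f, f, hv, hw, v5, w5, vS, wS, fodd, v1, ?_⟩), _, _, hk1, hk2, fun w hw h5 hd => ?_⟩
    · rw [hu]
      exact dw.trans (Dvd.intro_left 4 (by ring))
    · rcases dv w hw h5 hd with h | h | h
      · omega
      · exact .inl h
      · exact .inr (.inl h)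
  · have c3 := l2o_cyc hp hF hk e Nat.prime_three (by decide) (Ne.symm p3)
    have n3 : ¬ 3 ∣ 2 * k + 1 := fun h => p3 ((Nat.prime_dvd_prime_iff_eq Nat.prime_three hp).1
      (Nat.prime_three.dvd_of_dvd_pow (n := f) (hu ▸ h))).symm
    have hpS := (ho p).2 (.inl dvd_rfl)
    have cop : ∀ w : ℕ, w.Prime → 5 ≤ w → Nat.Coprime 3 w := fun w hw h5 =>
      (Nat.coprime_primes Nat.prime_three hw).2 (by omega)
    refine ⟨mk ⟨p, hp, hp.five_le_of_ne_two_of_ne_three p2 p3, hc ▸ (pu.mul_right _).mul_left _⟩ (.inl c3) (.inl c3),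
      ?_⟩
    by_cases h3 : 3 ∣ k
    · refine ⟨p, k + 1, hpS, hk2, fun w hw h5 hd => ?_⟩
      rcases dv w hw h5 hd with h | h | h
      · exact .inl h.dvd
      · exact .inr (.inr ((ho _).2 (.inr (.inl ((cop w hw h5).mul_dvd_of_dvd_of_dvd h3 h)))))
      · exact .inr (.inl h)
    · have h3' : 3 ∣ k + 1 := by
        clear * - n3 h3
        have : k % 3 = 0 ∨ k % 3 = 1 ∨ k % 3 = 2 := by omega
        rcases this with h | h | h <;> omega
      refine ⟨p, k, hpS, hk1, fun w hw h5 hd => ?_⟩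
      rcases dv w hw h5 hd with h | h | h
      · exact .inl h.dvd
      · exact .inr (.inl h)
      · exact .inr (.inr ((ho _).2 (.inr (.inr ((cop w hw h5).mul_dvd_of_dvd_of_dvd h3' h)))))

end CfsgLib.RSQ
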