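import Mathlib
import Cfsg.Agent.Lib.RSQ.K23
import Cfsg.Agent.Lib.RSQ.Diag

/-!
RSQ package MANY: at least three components.
-/

set_option autoImplicit false
set_option linter.unusedSectionVars false
set_option linter.style.haveILetI false

namespace CfsgLib.RSQ

open Cfsg Subgroup CfsgLib.BG CfsgLib.CIT.App CfsgLib.Comp CfsgLib.SpecSq
open scoped commutatorElement

variable {G : Type*} [Group G] [Finite G] {Γ : Type*} [Group Γ] [Finite Γ] {π : G →* Γ}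
  {μ : Fin 5 → ℕ} {m : ℕ} {S S₁ S₂ : Subgroup Γ} {r f r₁ f₁ r₂ f₂ : ℕ}

/-- All primes `≥ 5` of all components lie in one class `X ≠ 0`.  First: primes `a ∣ |A|`, `b ∣ |B|`, `≥ 5`,
of DIFFERENT components have the same class, since a third component `C ∉ {A, B}` (one of `S₁ S₂ S₃`) has
order divisible by 3 (`hasOrd_three`, `Ub.tri`).  For two primes of the same component compare both with a
prime `≥ 5` (`big5`) of another component. -/
theorem many_cls (hP : Pm m μ) (hU : Ub μ Γ) (hc : ∀ L : Subgroup Γ, IsComponent L → ∃ r f, Cmp L r f)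
    {S₃ : Subgroup Γ} (h1 : IsComponent S₁) (h2 : IsComponent S₂) (h3 : IsComponent S₃) (h12 : S₁ ≠ S₂)
    (h13 : S₁ ≠ S₃) (h23 : S₂ ≠ S₃) : ∃ X : Fin 5, X ≠ 0 ∧ ∀ L : Subgroup Γ, IsComponent L →
      ∀ w : ℕ, w.Prime → 5 ≤ w → w ∣ Nat.card L → Cl μ X w := by
  have dif : ∀ A B : Subgroup Γ, IsComponent A → IsComponent B → A ≠ B → ∀ {a b : ℕ} {i j : Fin 5}, 5 ≤ a →
      5 ≤ b → a ∣ Nat.card A → b ∣ Nat.card B → Cl μ i a → Cl μ j b → i = j := by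
    intro A B hA hB hAB a b i j a5 b5 da db ca cb
    by_contra hij
    obtain ⟨C, hC, hCA, hCB⟩ : ∃ C : Subgroup Γ, IsComponent C ∧ A ≠ C ∧ B ≠ C := by
      by_cases a1 : A = S₁
      · by_cases b2 : B = S₂
        · exact ⟨S₃, h3, a1 ▸ h13, b2 ▸ h23⟩
        · exact ⟨S₂, h2, a1 ▸ h12, b2⟩
      · by_cases b1 : B = S₁
        · by_cases a2 : A = S₂
          · exact ⟨S₃, h3, a2 ▸ h23, b1 ▸ h13⟩
          · exact ⟨S₂, h2, a2, b1 ▸ h12⟩
        · exact ⟨S₁, h1, a1, b1⟩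
    obtain ⟨r, f, c⟩ := hc C hC
    exact hU.tri hP hij (ca.ne_zero hP a5) (cb.ne_zero hP b5) ca cb hP.cl_three
      (hasOrd_three (comp_le_centralizer_of_ne hA hB hAB) (comp_le_centralizer_of_ne hA hC hCA)
        (comp_le_centralizer_of_ne hB hC hCB) ca.1 cb.1 Nat.prime_three (Cl.ne hP hij ca cb) (by omega) (by omega)
        da db ((by decide : 3 ∣ 12).trans c.d12))
  have cls : ∀ (L : Subgroup Γ) {w : ℕ}, w.Prime → 5 ≤ w → w ∣ Nat.card L → ∃ i, Cl μ i w :=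
    fun L w hw w5 dw => hU.cls hw (by omega) (dw.trans (card_subgroup_dvd_card L))
  obtain ⟨_, _, c1⟩ := hc _ h1
  obtain ⟨_, _, c2⟩ := hc _ h2
  obtain ⟨w₁, p1, k1, d1⟩ := c1.big5
  obtain ⟨w₂, p2, k2, d2⟩ := c2.big5
  obtain ⟨X, hX⟩ := cls _ p1 k1 d1
  obtain ⟨j, hj⟩ := cls _ p2 k2 d2
  refine ⟨X, hX.ne_zero hP k1, fun L hL w hw w5 dw => ?_⟩
  obtain ⟨i, hi⟩ := cls L hw w5 dw
  by_cases e : L = S₁
  · subst e
    rwa [dif _ _ h1 h2 h12 k1 k2 d1 d2 hX hj, ← dif _ _ h1 h2 h12 w5 k2 dw d2 hi hj]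
  · rwa [← dif _ _ hL h1 e w5 k1 dw d1 hi hX]

/-- With `X` from `many_cls`: every component has `CycS 3` (the second alternative of `cyc3` gives `v` of
class 1 by `Ub.clA` and `w` not of class 1 by `Pm.not_clA`).  If two classes `Y ≠ Y'`, both `∉ {0, X}`, miss
the kernel: an element `g` of order `a b` (`a ∈ Y`, `b ∈ Y'` primes, from `Lb`) has `orderOf (π g) = a b`,
odd and prime to `|layer Γ|` (`exists_comp_of_dvd`), so `diag` and `Ub.tri_cent` give a contradiction.  So two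
of the three classes `∉ {0, X}` meet the kernel, with primes `a`, `b`.  `Cmp S₁ r f`: `r = 3` (class 0) or
`r ≥ 5` (class `X`); let `w` be a prime of `|S₂|` of the other class (`big5` resp. `3`), `S₂ ≤ 𝒞(S₁)`;
`k23`. -/
theorem Sit.many (h : Sit π m μ) (hL : Lb μ G)
    (hc : ∀ L : Subgroup Γ, IsComponent L → ∃ r f, Cmp L r f) {S₃ : Subgroup Γ} (h1 : IsComponent S₁)
    (h2 : IsComponent S₂) (h3 : IsComponent S₃) (h12 : S₁ ≠ S₂) (h13 : S₁ ≠ S₃) (h23 : S₂ ≠ S₃) :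
    False := by
  have hP := h.par
  have hU := h.up.of_surj π h.surj
  obtain ⟨X, X0, hX⟩ := many_cls hP hU hc h1 h2 h3 h12 h13 h23
  have cyc : ∀ L : Subgroup Γ, IsComponent L → L ⊓ 𝒞(L) = ⊥ ∧ CycS 3 L := fun L hl => by
    obtain ⟨r, f, c⟩ := hc L hl
    refine ⟨c.ic, c.cyc3.resolve_right ?_⟩
    rintro ⟨v, w, k, l, pv, pw, v5, w5, dv, dw, ok, ev, ew⟩
    have e := Cl.unique hP (hU.clA hP pv v5 (dv.trans (card_subgroup_dvd_card L)) ok ev) (hX L hl v pv v5 dv)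
    exact hP.not_clA ew (e ▸ hX L hl w pw w5 dw)
  obtain ⟨r, f, c1⟩ := hc _ h1
  obtain ⟨_, _, c2⟩ := hc _ h2
  have miss : ∀ Y Y' : Fin 5, Y ≠ Y' → Y ≠ 0 → Y ≠ X → Y' ≠ 0 → Y' ≠ X → Mt μ Y π.ker ∨ Mt μ Y' π.ker := by
    intro Y Y' ne y0 yX y0' yX'
    by_contra! hn
    obtain ⟨a, ca⟩ := hP.exists_cl Y
    obtain ⟨b, cb⟩ := hP.exists_cl Y'
    obtain ⟨g, hg⟩ := (hL Y Y' ne).of_dvd (mul_dvd_mul ca.2 cb.2)
    have key : ∀ {a b : ℕ}, a.Prime → b.Prime → orderOf g = a * b → ¬ a ∣ Nat.card π.ker →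
        a ∣ orderOf (π g) := fun {a b} pa pb e n => by
      have e1 : orderOf (g ^ b) = a := by
        rw [orderOf_pow_of_dvd pb.ne_zero (e ▸ Dvd.intro_left _ rfl), e, Nat.mul_div_cancel _ pb.pos]
      rw [← orderOf_map_of_not_dvd pa e1 n, map_pow]
      exact orderOf_pow_dvd b
    have da := key ca.1 cb.1 hg fun e => hn.1 ⟨a, ca, e⟩
    have db := key cb.1 ca.1 (hg.trans (mul_comm _ _)) fun e => hn.2 ⟨b, cb, e⟩
    have dd : orderOf (π g) ∣ a * b := hg ▸ orderOf_map_dvd π g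
    have cop : ∀ {Y : Fin 5} {a : ℕ}, Cl μ Y a → Y ≠ 0 → Y ≠ X → a.Coprime (Nat.card (layer Γ)) :=
      fun {Y a} ca y0 yX => (Nat.Prime.coprime_iff_not_dvd ca.1).2 fun e => by
        obtain ⟨L, hl, d⟩ := exists_comp_of_dvd ca.1 e
        have := ca.seven_le hP y0
        exact yX (Cl.unique hP ca (hX L hl a ca.1 (by omega) d))
    obtain ⟨w, ow, cw⟩ := diag cyc h1 ((by decide : 3 ∣ 12).trans c1.d12)
      (((ca.1.odd_of_ne_two (ca.ne_two hP)).mul (cb.1.odd_of_ne_two (cb.ne_two hP))).of_dvd_nat dd)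
      ((Nat.Coprime.mul_left (cop ca y0 yX) (cop cb y0' yX')).coprime_dvd_left dd)
    refine hU.tri_cent hP ne y0 y0' ca cb hP.cl_three da db (C := zpowers w) (by rw [Nat.card_zpowers, ow]) ?_
    rintro _ ⟨k, rfl⟩
    exact (cw.zpow_left k).eq
  have fin : ∀ Y Y' : Fin 5, Y ≠ Y' → Y ≠ 0 → Y ≠ X → Y' ≠ 0 → Y' ≠ X → Mt μ Y π.ker → Mt μ Y' π.ker →
      False := by
    rintro Y Y' ne y0 yX y0' yX' ⟨a, ca, da⟩ ⟨b, cb, db⟩
    have le : S₂ ≤ 𝒞(S₁) := comp_le_centralizer_of_ne h2 h1 h12.symm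
    by_cases r3 : r = 3
    · obtain ⟨w, pw, w5, dw⟩ := c2.big5
      exact h.k23 c1 (i := 0) (j := X) (by simp [ne, y0.symm, yX.symm, y0'.symm, yX'.symm, X0.symm])
        (r3 ▸ hP.cl_three) (hX _ h2 w pw w5 dw) ca cb (dw.trans (cardSg le)) da db
    · exact h.k23 c1 (i := X) (j := 0) (by simp [ne, y0.symm, yX.symm, y0'.symm, yX'.symm, X0])
        (hX _ h1 r c1.hr (c1.hr.five_le_of_ne_two_of_ne_three c1.r2 r3) c1.pair.dvd) hP.cl_three ca cb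
        (((by decide : 3 ∣ 12).trans c2.d12).trans (cardSg le)) da db
  obtain ⟨A, B, C, ab, ac, bc, a0, aX, b0, bX, c0, cX⟩ := (by decide : ∀ X : Fin 5, ∃ A B C : Fin 5,
    A ≠ B ∧ A ≠ C ∧ B ≠ C ∧ A ≠ 0 ∧ A ≠ X ∧ B ≠ 0 ∧ B ≠ X ∧ C ≠ 0 ∧ C ≠ X) X
  rcases miss A B ab a0 aX b0 bX with k | k
  · rcases miss B C bc b0 bX c0 cX with k' | k'
    · exact fin A B ab a0 aX b0 bX k k'
    · exact fin A C ac a0 aX c0 cX k k'
  · rcases miss A C ac a0 aX c0 cX with k' | k'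
    · exact fin A B ab a0 aX b0 bX k' k
    · exact fin B C bc b0 bX c0 cX k k'

end CfsgLib.RSQ
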