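import Mathlib
import Cfsg.Agent.Lib.RSQ.Ari
import Cfsg.Agent.Lib.RSQ.K23

/-!
RSQ package ONE: one component (template: `SpecSq.one_cls` in `Lib/SpecSq/One.lean`).
-/

set_option autoImplicit false
set_option linter.unusedSectionVars false
set_option linter.style.haveILetI false

namespace CfsgLib.RSQ

open Cfsg Subgroup CfsgLib.BG CfsgLib.CIT.App CfsgLib.Comp CfsgLib.SpecSq
open scoped commutatorElement

variable {G : Type*} [Group G] [Finite G] {Γ : Type*} [Group Γ] [Finite Γ] {π : G →* Γ}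
  {μ : Fin 5 → ℕ} {m : ℕ} {S S₁ S₂ : Subgroup Γ} {r f r₁ f₁ r₂ f₂ : ℕ}

/-- The index of the layer is odd: a Sylow 2-subgroup lies in the layer (copy the proof of `h1` in
`SpecSq.all60`, `Lib/SpecSq/JD.lean`). -/
theorem odd_index_layer (hF : fittingSubgroup Γ = ⊥) (h4 : ¬ HasOrd Γ (2 ^ 2)) :
    Odd (layer Γ).index := by
  have h2 := Nat.prime_two
  haveI := Fact.mk h2
  haveI : (layer Γ).Normal := layer_normal
  obtain ⟨T⟩ : Nonempty (Sylow 2 Γ) := inferInstance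
  have hT := isSylowOf_top h2 T
  have h1 : (T : Subgroup Γ) ≤ layer Γ := Abel2.sylow_le_of_centralizer_eq_bot _
    (eq_bot_of_cents hF fun L hL => centS (comp_le_layer hL)) (by
      haveI := Core.pPrimeCore_characteristic 2 (layer Γ)
      rw [← map_eq_bot_iff_of_injective _ (layer Γ).subtype_injective, eq_bot_iff, ← hF]
      refine le_fit_of_solvable_of_isSubnormal_of_le_fstar
        (ConjAct.normal_of_characteristic_of_normal).isSubnormal (FT.odd_subgroup_solvable ?_)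
        ((map_subtype_le _).trans layer_le_fstar)
      rw [card_map_of_injective (layer Γ).subtype_injective]
      exact Nat.coprime_two_right.1 (Core.coprime_card_pPrimeCore 2 _)) T
    (abelem_two h4 hT.2.1).1
  rw [← Nat.not_even_iff_odd, even_iff_two_dvd]
  exact fun h => T.not_dvd_index (h.trans (index_dvd_of_le h1))

/-- a subgroup meeting a normal subgroup of odd index in a solvable group is solvable -/
theorem one_sol_of_odd (hn : ⊤ ≤ 𝒩(S)) (hodd : Odd S.index) {H : Subgroup Γ}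
    (h : Group.IsSolvable ↥(S ⊓ H)) : Group.IsSolvable H := by
  haveI : S.Normal := normalizer_eq_top_iff.1 (top_le_iff.1 hn)
  haveI : Group.IsSolvable (Γ ⧸ S) := FT.odd_order_solvable hodd
  refine Group.isSolvable_of_ker_le_range (inclusion (inf_le_right : S ⊓ H ≤ H))
    ((QuotientGroup.mk' S).comp H.subtype) fun x hx => ?_
  exact ⟨⟨x, (QuotientGroup.eq_one_iff _).1 hx, x.2⟩, rfl⟩

/-- Every class `i ≠ 0` meets the kernel.  Suppose not.  `E = 2 f`, `γ ^ E ∈ S` for all `γ` (`out`, `hC`),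
`¬ μ i ∣ E` (`ari_one` with `big`, `Ub.of_surj`).  Fix a prime `w` of class `i` with
`w ∣ μ i / gcd (μ i) E` (`exists_prime_div_gcd`; the SAME `w` for all `j`).  For `j ≠ i` take `g_j` of order
`μ i μ j`; `z_j`, a power of `g_j ^ E` of order `w` (`dvd_orderOf_pow`), `π z_j ∈ S` of order `w ≥ 7`; by
`line` and Sylow's theorem in `ker ⊔ zpowers z` (`w ∤ |ker|`) all `zpowers z_j` are conjugate in `G` to one
`zpowers z`; so `|𝒞[z]|` is divisible by a prime of each class `j ≠ i`.  `𝒞[z]` is solvable: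
it lies in the preimage of `𝒞[π z]`, `S ⊓ 𝒞[π z]` is solvable (`cent`) and normal in `𝒞[π z]` of odd index
(`FT.odd_order_solvable`), `comap_sol`.  `three_primes_mem` for three classes `≠ i`, then `Ub.tri_cent`. -/
theorem Sit.one_cls (h : Sit π m μ) (hL : Lb μ G) (hS : Cmp S r f) (hn : ⊤ ≤ 𝒩(S)) (hC : 𝒞(S) = ⊥)
    (hodd : Odd S.index) {i : Fin 5} (hi : i ≠ 0) : Mt μ i π.ker := by
  have hP := h.par
  have hπ := h.surj
  by_contra hcon
  have hcon' : ∀ s, Cl μ i s → ¬ s ∣ Nat.card π.ker := fun s h1 h2 => hcon ⟨s, h1, h2⟩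
  obtain ⟨k₀, hk₀, hk₁⟩ := hS.big
  have hE : ¬ μ i ∣ 2 * f := ari_one hP (h.up.of_surj π hπ) hS.fodd
    (hk₀.of_injective S.subtype S.subtype_injective) hk₁ hi
  obtain ⟨a, ha, hd⟩ := exists_prime_div_gcd (a := μ i) (by have := hP.seven_le i; omega) hE
  have hd' : Cl μ i a := ⟨ha, hd.trans (Nat.div_dvd_of_dvd (Nat.gcd_dvd_left _ _))⟩
  have a5 : 5 ≤ a := by have := Cl.seven_le hP hi hd'; omega
  have hTI : ∀ P : Subgroup G, IsPiSubgroup {a} P → π.ker ⊓ P = ⊥ := fun P h =>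
    pigroup_TI' ((p'group_iff ha).2 (hcon' a hd')) h
  have hel : ∀ j, i ≠ j → ∃ u : G, orderOf u = a ∧ π u ∈ S ∧ orderOf (π u) = a ∧
      μ j ∣ Nat.card 𝒞(zpowers u) := fun j hij => by
    obtain ⟨g, hg⟩ := hL i j hij
    obtain ⟨e, he⟩ := exists_pow_orderOf_eq (dvd_orderOf_pow hg hd)
    have h1 := hS.out (π g) (hn (mem_top _))
    rw [hC, sup_bot_eq] at h1
    refine ⟨_, he, by rw [map_pow, map_pow]; exact pow_mem h1 e, ?_, ?_⟩
    · rw [← Nat.card_zpowers, ← MonoidHom.map_zpowers, card_map_of_TI (hTI _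
        (pgp_of_card_prime (by rw [Nat.card_zpowers, he]) ha)), Nat.card_zpowers, he]
    · rw [cent_zpowers, ← pow_mul]
      exact (hg ▸ Dvd.intro_left _ rfl).trans (order_dvdG (cent1_le_cent1_pow g _ (cent1id g)))
  obtain ⟨j, k, l, hj, hk, hl, hjk, hjl, hkl⟩ := (by decide : ∀ i : Fin 5, ∃ j k l,
    i ≠ j ∧ i ≠ k ∧ i ≠ l ∧ j ≠ k ∧ j ≠ l ∧ k ≠ l) i
  obtain ⟨u, -, huS, huo, -⟩ := hel j hj
  obtain ⟨P, hSy⟩ := Sylow_exists ha ((zpowers (π u)).comap π)
  have hPm : P.map π ≤ zpowers (π u) := map_le_iff_le_comap.2 hSy.1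
  have hPc : Nat.card P ≤ a := by
    rw [← card_map_of_TI (hTI P hSy.2.1), ← huo, ← Nat.card_zpowers]
    exact BG.card_le_of_le hPm
  have key : ∀ j, i ≠ j → μ j ∣ Nat.card 𝒞(P) ∧ Nat.card P = a := fun j hij => by
    obtain ⟨v, h1, h2, h3, h4⟩ := hel j hij
    obtain ⟨s, -, h5⟩ := hS.line _ huS _ h2 (huo ▸ ha) (huo ▸ a5) (h3.trans huo.symm)
    obtain ⟨z, rfl⟩ := hπ s
    have h6 : Nat.card (cj z (zpowers v)) = a := by rw [card_cj, Nat.card_zpowers, h1]
    obtain ⟨b, -, h7⟩ := Sylow_Jsub ha hSy (Q := cj z (zpowers v)) (by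
      rw [← h5, cj_zpowers, cj_zpowers, zpowers_le, mem_comap, map_mul, map_mul, map_inv]
      exact mem_zpowers _) (pgp_of_card_prime h6 ha)
    rw [← eq_of_le_card h7 (by rwa [card_cj, h6]), ← cj_cent, ← cj_cent, card_cj, card_cj, card_cj]
    exact ⟨h4, h6⟩
  have hPa := (key j hj).2
  have hsol : Group.IsSolvable 𝒞(P) := by
    have h1 : P.map π = zpowers (π u) := eq_of_le_card hPm (by
      rw [card_map_of_TI (hTI P hSy.2.1), hPa, Nat.card_zpowers, huo])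
    exact solvableS (map_le_iff_le_comap.1 ((map_cent le_rfl).trans (by rw [h1, cent_zpowers])))
      (comap_sol π h.sol (one_sol_of_odd hn hodd (hS.cent _ huS (huo ▸ ha) (huo ▸ a5))))
  choose c hc using hP.exists_cl
  have fin : ∀ {s t : Fin 5}, i ≠ s → i ≠ t → s ≠ t → (∃ g ∈ 𝒞(P), orderOf g = c s * c t) →
      False := by
    rintro s t e1 e2 e3 ⟨g, h1, h2⟩
    exact h.up.tri_cent hP e3 e1.symm e2.symm (hc s) (hc t) hd' (h2 ▸ Dvd.intro _ rfl)
      (h2 ▸ Dvd.intro_left _ rfl) (hPa ▸ dvd_rfl) h1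
  rcases three_primes_mem hsol (hc j).1 (hc k).1 (hc l).1 (Cl.ne hP hjk (hc j) (hc k))
    (Cl.ne hP hjl (hc j) (hc l)) (Cl.ne hP hkl (hc k) (hc l))
    ((hc j).2.trans (key j hj).1) ((hc k).2.trans (key k hk).1) ((hc l).2.trans (key l hl).1) with
    e | e | e
  · exact fin hj hk hjk e
  · exact fin hj hl hjl e
  · exact fin hk hl hkl e

/-- `r` has a class `i` (`Ub.cls`, `Pair.dvd`); three classes `≠ 0, i` meet the kernel; `k3`. -/
theorem Sit.one (h : Sit π m μ) (hL : Lb μ G) (hS : Cmp S r f) (hn : ⊤ ≤ 𝒩(S)) (hC : 𝒞(S) = ⊥)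
    (hodd : Odd S.index) : False := by
  obtain ⟨i, hi⟩ := (h.up.of_surj π h.surj).cls hS.hr hS.r2
    (hS.pair.dvd.trans (card_subgroup_dvd_card S))
  obtain ⟨j, k, l, hj, hk, hl, hd⟩ := (by decide : ∀ i : Fin 5, ∃ j k l : Fin 5,
    j ≠ 0 ∧ k ≠ 0 ∧ l ≠ 0 ∧ [i, j, k, l].Nodup) i
  obtain ⟨a, ca, da⟩ := h.one_cls hL hS hn hC hodd hj
  obtain ⟨b, cb, db⟩ := h.one_cls hL hS hn hC hodd hk
  obtain ⟨c, cc, dc⟩ := h.one_cls hL hS hn hC hodd hl
  exact h.k3 hS hd hi ca cb cc da db dc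

end CfsgLib.RSQ
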