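import Mathlib
import Cfsg.Agent.Lib.RSQ.Defs
import Cfsg.Agent.Lib.Ree.Aut

/-!
RSQ package REEF: field automorphisms of the Ree groups.  Template: `Acts`, `exists_acts`, `exists_fixed`,
`szP_model` (field `fld`) in `Lib/SpecSq/SzP.lean`; model facts in `Lib/Ree/Aut.lean` (`M.fa`, `fa_u`, `fa_h`,
`fa_n`, `exists_eq_conj_mul_fa`, `eq_one_of_fa_mem`), `Lib/Ree/Simple.lean` (`u_pow_three`, `u_pow_nine`),
`uM_mul`.
-/

set_option autoImplicit false
set_option linter.unusedSectionVars false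
set_option linter.style.haveILetI false

namespace CfsgLib.RSQ

open Cfsg Subgroup CfsgLib.BG CfsgLib.CIT.App CfsgLib.Comp CfsgLib.SpecSq
open scoped commutatorElement

variable {G : Type*} [Group G] [Finite G] {Γ : Type*} [Group Γ] [Finite Γ] {π : G →* Γ}
  {μ : Fin 5 → ℕ} {m : ℕ} {S S₁ S₂ : Subgroup Γ} {r f r₁ f₁ r₂ f₂ : ℕ}

section Aux

/-- the matrix of the element of order seven over the prime field -/
def reefX : Ree.M7 (ZMod 3) :=
  !![1, 1, 0, 1, 0, 0, 2; 2, 0, 1, 0, 0, 2, 0; 0, 2, 0, 0, 2, 0, 0; 1, 0, 0, 2, 0, 0, 0;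
    0, 0, 2, 0, 0, 0, 0; 0, 2, 0, 0, 0, 0, 0; 2, 0, 0, 0, 0, 0, 0]

theorem reefX_eq : Ree.umat (0 : ZMod 3) 0 0 0 1 1 * Ree.nmat = reefX := by
  rw [Ree.umat, Ree.nmat, Ree.mul7, reefX]
  decide

theorem reefX_pow : reefX ^ 7 = 1 := by
  have h2 : reefX * reefX = !![2, 1, 1, 0, 0, 2, 2; 2, 2, 0, 2, 2, 0, 1; 1, 0, 0, 0, 0, 1, 0;
      0, 1, 0, 2, 0, 0, 2; 0, 1, 0, 0, 1, 0, 0; 1, 0, 2, 0, 0, 1, 0; 2, 2, 0, 2, 0, 0, 1] := by
    rw [reefX, Ree.mul7]; decide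
  have h3 : reefX * reefX * reefX = !![2, 2, 1, 2, 2, 2, 1; 1, 2, 0, 0, 0, 1, 1; 1, 0, 0, 1, 0, 0, 2;
      2, 0, 1, 1, 0, 2, 0; 2, 0, 0, 0, 0, 2, 0; 1, 1, 0, 1, 1, 0, 2; 1, 2, 2, 0, 0, 1, 1] := by
    rw [h2, reefX, Ree.mul7]; decide
  have h4 : reefX * reefX * (reefX * reefX) = !![1, 2, 0, 0, 2, 1, 1; 1, 0, 2, 1, 0, 1, 2;
      0, 1, 0, 0, 0, 0, 2; 0, 2, 0, 1, 2, 0, 1; 2, 0, 0, 2, 0, 0, 1; 2, 1, 0, 0, 0, 2, 2;
      1, 1, 2, 1, 1, 1, 2] := by
    rw [h2, Ree.mul7]; decide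
  have e : reefX ^ 7 = reefX * reefX * (reefX * reefX) * (reefX * reefX * reefX) := by
    simp only [pow_succ, pow_zero, one_mul, mul_assoc]
  rw [e, h4, h3, Ree.mul7, Ree.one7]
  decide

variable {A R : Type*} [Group A] [Group R] (F : A →* MulAut R) (ι : R →* Γ)

/-- `g` acts as the automorphism `F α` -/
def ReefActs (g : Γ) (α : A) : Prop := ∀ γ, g * ι γ * g⁻¹ = ι (F α γ)

variable {F ι}

theorem ReefActs.mul {g h : Γ} {α β : A} (h1 : ReefActs F ι g α) (h2 : ReefActs F ι h β) :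
    ReefActs F ι (g * h) (α * β) := fun γ => by
  rw [map_mul, MulAut.mul_apply, ← h1, ← h2]; group

theorem reefActs_one_iff {g : Γ} : ReefActs F ι g 1 ↔ g ∈ 𝒞(ι.range) := by
  rw [mem_cent_iff]
  constructor
  · rintro h _ ⟨γ, rfl⟩
    have := h γ
    rw [map_one, MulAut.one_apply, mul_inv_eq_iff_eq_mul] at this
    exact this.symm
  · intro h γ
    rw [map_one, MulAut.one_apply, ← h _ ⟨γ, rfl⟩, mul_inv_cancel_right]

theorem ReefActs.pow {g : Γ} {α : A} (h1 : ReefActs F ι g α) (k : ℕ) :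
    ReefActs F ι (g ^ k) (α ^ k) := by
  induction k with
  | zero => rw [pow_zero, pow_zero, reefActs_one_iff]; exact one_mem _
  | succ k ih => rw [pow_succ, pow_succ]; exact ih.mul h1

theorem ReefActs.fix (hι : Function.Injective ι) {g : Γ} {α : A} (h1 : ReefActs F ι g α)
    (h : g ∈ 𝒞(ι.range)) (γ : R) : F α γ = γ := by
  have := hι ((h1 γ).symm.trans ((reefActs_one_iff (F := F)).2 h γ))
  rwa [map_one, MulAut.one_apply] at this

theorem ReefActs.cent {g : Γ} {α : A} (h1 : ReefActs F ι g α) {γ : R} (h : F α γ = γ) :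
    g ∈ 𝒞[ι γ] := by
  have := h1 γ
  rw [h, mul_inv_eq_iff_eq_mul] at this
  exact mem_cent1.2 this

theorem reef_exists_acts (hι : Function.Injective ι)
    (hF : ∀ α : MulAut R, ∃ x σ, α = MulAut.conj x * F σ) {g : Γ}
    (hg : g ∈ 𝒩(ι.range)) : ∃ s ∈ ι.range, ∃ α, ReefActs F ι (s * g) α := by
  let e := MonoidHom.ofInjective hι
  obtain ⟨x, α, h⟩ := hF (e.trans ((ι.range.normalizerMonoidHom ⟨g, hg⟩).trans e.symm))
  refine ⟨ι x⁻¹, ⟨_, rfl⟩, α, fun γ => ?_⟩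
  have h1 := congrArg (fun z => ((e z : ι.range) : Γ)) (DFunLike.congr_fun h γ)
  simp only [MulEquiv.trans_apply, MulEquiv.apply_symm_apply, MulAut.mul_apply,
    MulAut.conj_apply] at h1
  change g * ι γ * g⁻¹ = ι _ at h1
  rw [map_mul, map_mul, map_inv] at h1
  calc ι x⁻¹ * g * ι γ * (ι x⁻¹ * g)⁻¹ = (ι x)⁻¹ * (g * ι γ * g⁻¹) * ι x := by
        rw [map_inv]; group
    _ = _ := by rw [h1]; group

theorem reef_fixed {K : Type*} [Field K] [Finite K] {n f : ℕ} (hK : Nat.card K = 3 ^ n) (ho : Odd n)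
    (hn : 1 < n) (hf : f.Prime) (hfn : f ≠ n) {β : RingAut K} (h : β ^ f = 1) :
    ∃ l : Kˣ, (orderOf l).Prime ∧ orderOf l ≠ 2 ∧ β l = l := by
  classical
  haveI : Finite (RingAut K) := DFunLike.finite _
  let H : Subgroup (RingAut K) := zpowers β
  have := Fintype.ofFinite H
  have h1 := FixedPoints.finrank_eq_card H K
  have h2 := Module.natCard_eq_pow_finrank (K := FixedPoints.subfield H K) (V := K)
  rw [h1, hK, ← Nat.card_eq_fintype_card, Nat.card_zpowers] at h2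
  have h0 : orderOf β ≠ 0 := (orderOf_pos β).ne'
  obtain ⟨d, -, hd⟩ := (Nat.dvd_prime_pow Nat.prime_three).1
    (h2 ▸ dvd_pow_self (Nat.card (FixedPoints.subfield H K)) h0)
  rw [hd, ← pow_mul] at h2
  have h3 : n = d * orderOf β := Nat.pow_right_injective (by norm_num) h2
  have hd1 : Odd d := Nat.Odd.of_mul_left (h3 ▸ ho)
  have hd2 : d ≠ 1 := by
    rintro rfl
    rcases (Nat.dvd_prime hf).1 (orderOf_dvd_of_pow_eq_one h) with e | e <;> omega
  obtain ⟨j, rfl⟩ := hd1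
  have h4 : 3 ^ (2 * j + 1) % 4 = 3 := by
    rw [pow_succ, pow_mul, Nat.mul_mod, Nat.pow_mod]; norm_num
  have h5 : 3 ^ 2 ≤ 3 ^ (2 * j + 1) := Nat.pow_le_pow_right (by norm_num) (by omega)
  obtain ⟨k, hk⟩ : ∃ k, 3 ^ (2 * j + 1) - 1 = 2 * (2 * k + 1) := ⟨3 ^ (2 * j + 1) / 4, by omega⟩
  have hp : (2 * k + 1).minFac.Prime := Nat.minFac_prime (by omega)
  have hp2 : (2 * k + 1).minFac ≠ 2 := fun e => by
    have := e ▸ Nat.minFac_dvd (2 * k + 1)
    omega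
  haveI := Fact.mk hp
  obtain ⟨u, hu⟩ := exists_prime_orderOf_dvd_card' (G := (FixedPoints.subfield H K)ˣ) (2 * k + 1).minFac (by
    rw [Nat.card_units, hd, hk]; exact (Nat.minFac_dvd _).mul_left 2)
  have hi : Function.Injective (Units.map (FixedPoints.subfield H K).subtype.toMonoidHom) :=
    Units.map_injective (FixedPoints.subfield H K).subtype.injective
  refine ⟨Units.map (FixedPoints.subfield H K).subtype.toMonoidHom u, ?_, ?_,
    (u : FixedPoints.subfield H K).2 ⟨β, mem_zpowers β⟩⟩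
  · rw [orderOf_injective _ hi, hu]; exact hp
  · rw [orderOf_injective _ hi, hu]; exact hp2

theorem reef_trace {K : Type*} [Field K] {β : RingAut K} (h : β ≠ 1) :
    ∃ a, a + β a + β (β a) ≠ 0 := by
  by_contra hc
  push Not at hc
  refine h (RingEquiv.ext fun b => ?_)
  change β b = b
  by_contra hb
  have h1 := hc (b * b)
  have h2 := hc b
  have h3 := hc 1
  simp only [map_mul, map_one] at h1 h3
  have h4 : (β b - β (β b)) * (β b - b) = 0 := by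
    linear_combination h1 - (b + β (β b)) * h2 + b * β (β b) * h3
  rcases mul_eq_zero.1 h4 with e | e
  · exact hb (β.injective (sub_eq_zero.1 e)).symm
  · exact hb (sub_eq_zero.1 e)

theorem reef_27 {S : Subgroup Γ} (hS : S ⊓ 𝒞(S) = ⊥) {y l c : Γ} (hl : l ∈ S) (hc : c ∈ 𝒞(S))
    (h9 : orderOf l = 9) (e : y ^ 3 = l * c) : 27 ∣ orderOf y := by
  have h1 : 9 ∣ orderOf (y ^ 3) := by
    have hk := pow_orderOf_eq_one (y ^ 3)
    generalize orderOf (y ^ 3) = k at hk ⊢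
    rw [e, Commute.mul_pow (mem_cent_iff.1 hc l hl)] at hk
    rw [← h9, orderOf_dvd_iff_pow_eq_one, ← mem_bot, ← hS]
    exact ⟨pow_mem hl k, eq_inv_of_mul_eq_one_left hk ▸ (𝒞(S)).inv_mem (pow_mem hc k)⟩
  have h2 : 3 ∣ orderOf y := ((by norm_num : 3 ∣ 9).trans h1).trans (orderOf_pow_dvd 3)
  rw [orderOf_pow_of_dvd three_ne_zero h2] at h1
  obtain ⟨o, ho⟩ := h2
  rw [ho, Nat.mul_div_cancel_left _ three_pos] at h1
  rw [ho]
  exact Nat.mul_dvd_mul_left 3 h1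

end Aux

/-- an element of order seven over the prime field: `M.u 0 0 1 * M.n`; it is fixed by all field automorphisms -/
theorem exists_seven {K : Type*} [Field K] [CharP K 3] {φ : K →+* K} {R : Type*} [Group R]
    (M : Ree.Model R K φ) : orderOf (M.u 0 0 1 * M.n) = 7 := by
  haveI : Fact (Nat.Prime 7) := ⟨by norm_num⟩
  let f : ZMod 3 →+* K := ZMod.castHom (dvd_refl 3) K
  have h : M.ρ (M.u 0 0 1 * M.n) = f.mapMatrix reefX := by
    rw [← reefX_eq, map_mul, map_mul, M.ρu, M.ρn, RingHom.mapMatrix_apply, RingHom.mapMatrix_apply,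
      Ree.uM, map_zero, map_one]
    congr 1
    · rw [Ree.umat, Ree.umat, Ree.map7]
      simp
    · rw [Ree.nmat, Ree.nmat, Ree.map7]
      simp
  refine orderOf_eq_prime (M.inj ?_) fun e => ?_
  · rw [map_pow, h, ← map_pow, reefX_pow, map_one, map_one]
  · rw [e, map_one] at h
    have := congrFun (congrFun h 6) 6
    simp [reefX] at this

/-- Let `ι = S.subtype ∘ e.symm`, `M = Ree.reeModel hK`.  Conjugation by `g` induces `α ∈ MulAut`, and
`α = conj a * fa σ` (`exists_eq_conj_mul_fa`); `s = (ι a)⁻¹`; `h = c s g` acts on `ι γ` as `fa σ` and `h ^ k` as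
`fa (σ ^ k)`; `h ^ k ∈ 𝒞(S) ↔ σ ^ k = 1`; `σ ^ n = 1` (`|RingAut K| = n`, or every `σ` is a power of the
Frobenius).  `c2`: `M.n` (or `M.h (-1)`), `c9`: `M.u 1 0 0`, `c7`: `exists_seven`.
`fix`: `β = σ ^ k`, `β ^ f = 1`; the fixed field of `β` has order `3 ^ d` with `d ∣ n`, `d = n` or `d = n / f`, odd
and `> 1`; `(3 ^ d - 1) / 2` is odd and `> 1`, so there is a fixed unit `l` of odd prime order; `M.h l`.
(E.g. `β x = x ^ 3 ^ j` with `n ∣ j f`; `l` with `l ^ (3 ^ d - 1) = 1`, `d = gcd j n`.)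
`three`: `β ≠ 1`, `β ^ 3 = 1`; there is `a` with `a + β a + β² a ≠ 0` (`linearIndependent_monoidHom`, or
`Algebra.trace_ne_zero`); `x = ι (M.u a 0 0)`, `h' = h ^ k`, `(x h') ^ 3 = x · h' x h'⁻¹ · h'² x h'⁻² · h'³ =
ι (M.u a' b c) · h'³` with `a' = a + β a + β² a ≠ 0`, `h'³ ∈ 𝒞(S)`; `M.u a' b c` has order 9
(`u_pow_three`).  So `9 ∣ orderOf ((x h') ^ 3)` (`S ⊓ 𝒞(S) = ⊥`, `decomp`) hence `27 ∣ orderOf (x h')`
(`orderOf_pow`: if `3 ∣ o` then `orderOf (y ^ 3) = o / 3`; `3 ∣ o` since `orderOf (y ^ 3) ∣ o`). -/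
theorem ree_fld (hS : S ⊓ 𝒞(S) = ⊥) {K : Type*} [Field K] [Fintype K] (hm : 1 ≤ m)
    (hK : Fintype.card K = 3 ^ (2 * m + 1)) (e : S ≃* ↥(Lie.twistedG2 K (3 ^ m))) :
    ∀ g ∈ 𝒩(S), ∃ s ∈ S, ∀ c ∈ 𝒞(S), Fd S (2 * m + 1) (c * s * g) := by
  haveI := Ree.charP_three hK
  have hK' := Ree.natCard_eq hK
  have hφ := Ree.isTits_tits hK
  have hc : ∀ (σ : RingAut K) (x : K), σ (Ree.tits K m x) = Ree.tits K m (σ x) := fun σ x => by
    rw [Ree.tits_apply, Ree.tits_apply, map_pow]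
  have hq : 3 < Nat.card K := by
    rw [hK']
    exact lt_of_lt_of_le (by norm_num : 3 < 3 ^ 2) (Nat.pow_le_pow_right (by norm_num) (by omega))
  have M := Ree.reeModel hK
  obtain ⟨ι, hι, rfl⟩ : ∃ ι : ↥(Lie.twistedG2 K (3 ^ m)) →* Γ, Function.Injective ι ∧ ι.range = S := by
    refine ⟨S.subtype.comp e.symm.toMonoidHom, Subtype.val_injective.comp e.symm.injective, ?_⟩
    rw [MonoidHom.range_comp, MonoidHom.range_eq_top.2 e.symm.surjective, ← MonoidHom.range_eq_map,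
      range_subtype]
  have ho : ∀ γ, orderOf (ι γ) = orderOf γ := orderOf_injective ι hι
  have hmem : ∀ γ, ι γ ∈ ι.range := fun γ => ⟨γ, rfl⟩
  have hpow : ∀ α : RingAut K, α ^ (2 * m + 1) = 1 := fun α => by
    rw [← Sz.card_ringEquiv hK']; exact pow_card_eq_one'
  have hone : ∀ {g : Γ} {α : RingAut K}, ReefActs (M.fa hφ hc) ι g α → g ∈ 𝒞(ι.range) → α = 1 :=
    fun h1 h2 => RingEquiv.ext fun a => by
      have := h1.fix hι h2 (M.u a 0 0)
      rw [M.fa_u] at this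
      exact (M.u_inj this).1
  intro g hg
  obtain ⟨s, hs, α, h⟩ := reef_exists_acts hι (M.exists_eq_conj_mul_fa hφ hc hq) hg
  refine ⟨s, hs, fun c hc' => ?_⟩
  have h1 := (reefActs_one_iff.2 hc').mul h
  rw [one_mul, ← mul_assoc] at h1
  generalize c * s * g = y at h1 ⊢
  refine ⟨⟨_, hmem (M.h (-1)), (ho _).trans M.orderOf_h_neg_one, h1.cent ?_⟩,
    ⟨_, hmem _, (ho _).trans (exists_seven M), h1.cent ?_⟩,
    ⟨_, hmem (M.u 1 0 0), (ho _).trans (M.orderOf_u hφ one_ne_zero 0 0), h1.cent ?_⟩,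
    reefActs_one_iff.1 (hpow α ▸ h1.pow _), fun k f hf hfn h2 => ?_, fun k h2 h3 => ?_⟩
  · rw [M.fa_h]
    exact congrArg _ (Units.ext (by simp))
  · rw [map_mul, M.fa_u, M.fa_n, map_zero, map_one]
  · rw [M.fa_u, map_zero, map_one]
  · obtain ⟨l, l1, l2, hl⟩ := reef_fixed hK' (odd_two_mul_add_one m) (by omega) hf hfn
      (hone ((h1.pow k).pow f) h2)
    have e1 : orderOf (ι (M.h l)) = orderOf l := (ho _).trans (orderOf_injective M.hHom M.h_inj l)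
    refine ⟨_, hmem (M.h l), e1 ▸ l1, e1 ▸ l2, ?_, (h1.pow k).cent ?_⟩
    · rw [e1, ← hK', ← Nat.card_units]
      exact orderOf_dvd_natCard l
    · rw [M.fa_h]
      exact congrArg _ (Units.ext hl)
  · have h4 := h1.pow k
    generalize y ^ k = z at h2 h3 h4 ⊢
    generalize α ^ k = β at h4
    obtain ⟨a, ha⟩ := reef_trace (β := β) fun e => h3 (reefActs_one_iff.1 (e ▸ h4))
    refine ⟨_, hmem (M.u a 0 0), reef_27 hS (hmem (M.u a 0 0 * M.fa hφ hc β (M.u a 0 0) *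
      M.fa hφ hc β (M.fa hφ hc β (M.u a 0 0)))) h2 ?_ ?_⟩
    · rw [ho, M.fa_u, M.fa_u, M.u_mul hφ, M.u_mul hφ]
      exact M.orderOf_u hφ ha _ _
    · rw [map_mul, map_mul, ← h4, ← h4, ← h4]
      simp only [pow_succ, pow_zero, one_mul]
      group

end CfsgLib.RSQ
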