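import Mathlib
import Cfsg.Agent.Lib.RSQ.Ari
import Cfsg.Agent.Lib.RSQ.K23

/-!
RSQ package TWOA: two components, the basic lemmas.
-/

set_option autoImplicit false
set_option linter.unusedSectionVars false
set_option linter.style.haveILetI false

namespace CfsgLib.RSQ

open Cfsg Subgroup CfsgLib.BG CfsgLib.CIT.App CfsgLib.Comp CfsgLib.SpecSq
open scoped commutatorElement

variable {G : Type*} [Group G] [Finite G] {Γ : Type*} [Group Γ] [Finite Γ] {π : G →* Γ}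
  {μ : Fin 5 → ℕ} {m : ℕ} {S S₁ S₂ : Subgroup Γ} {r f r₁ f₁ r₂ f₂ : ℕ}

theorem twoa_ne {i : Fin 5} {z : G} (cu : Cl μ i (orderOf z)) (ki : ¬ Mt μ i π.ker) : π z ≠ 1 :=
  fun e => ki ⟨_, cu, order_dvdG (MonoidHom.mem_ker.2 e)⟩

theorem twoa_ord {u : ℕ} (hu : u.Prime) {a : Γ} (h0 : a ≠ 1) (h1 : a ^ u = 1) : orderOf a = u :=
  haveI := Fact.mk hu
  orderOf_eq_prime h1 h0

theorem twoa_mt {i : Fin 5} {u : ℕ} (cu : Cl μ i u) {a : Γ} (ha : a ∈ S) (h0 : a ≠ 1) (h1 : a ^ u = 1) : Mt μ i S :=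
  ⟨u, cu, twoa_ord cu.1 h0 h1 ▸ order_dvdG ha⟩

namespace Tw

theorem comp_one (h : Tw π m μ S₁ S₂ r₁ f₁ r₂ f₂) {a b : Γ} (ha : a ∈ S₁) (hb : b ∈ S₂) (e : a * b = 1) :
    a = 1 ∧ b = 1 := by
  have h1 : a = 1 := mem_bot.1 (h.c1.ic ▸ mem_inf.2 ⟨ha, eq_inv_of_mul_eq_one_left e ▸ inv_mem (cents_symm h.comm hb)⟩)
  exact ⟨h1, by rwa [h1, one_mul] at e⟩

/-- `3 ∣ |S₂|`, `x ∈ 𝒞(S₂)`: `Ub.tri_cent` in `Γ`. -/
theorem single (h : Tw π m μ S₁ S₂ r₁ f₁ r₂ f₂) {x : Γ} (hx : x ∈ S₁) {i j : Fin 5} (hi : i ≠ 0)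
    (hj : j ≠ 0) {a b : ℕ} (ca : Cl μ i a) (cb : Cl μ j b) (da : a ∣ orderOf x) (db : b ∣ orderOf x) :
    i = j := by
  by_contra hij
  exact (h.sit.up.of_surj π h.sit.surj).tri_cent h.sit.par hij hi hj ca cb h.sit.par.cl_three da db
    (Dvd.dvd.trans (by norm_num) h.c2.d12) (h.comm hx)

/-- `orderOf x ∣ 2 μᵢ μⱼ`; if `i, j ≠ 0`, by `single` the order is coprime to `μ i` or to `μ j`. -/
theorem single_dvd (h : Tw π m μ S₁ S₂ r₁ f₁ r₂ f₂) {x : Γ} (hx : x ∈ S₁) :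
    ∃ j : Fin 5, j ≠ 0 ∧ orderOf x ∣ 18 * μ j := by
  obtain ⟨i, j, hij, hd⟩ := (h.sit.up.of_surj π h.sit.surj).dvd x
  by_cases hi : i = 0
  · subst hi
    exact ⟨j, hij.symm, hd.trans (dvd_of_eq (by rw [h.sit.par.m0]; ring))⟩
  by_cases hj : j = 0
  · subst hj
    exact ⟨i, hij, hd.trans (dvd_of_eq (by rw [h.sit.par.m0]; ring))⟩
  by_cases c1 : (orderOf x).Coprime (μ i)
  · exact ⟨j, hj, (c1.dvd_of_dvd_mul_left (hd.trans (dvd_of_eq (mul_left_comm _ _ _)))).trans ⟨9, by ring⟩⟩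
  by_cases c2 : (orderOf x).Coprime (μ j)
  · exact ⟨i, hi, (c2.dvd_of_dvd_mul_right (hd.trans (dvd_of_eq (mul_assoc _ _ _).symm))).trans ⟨9, by ring⟩⟩
  obtain ⟨a, a1, a2, a3⟩ := Nat.Prime.not_coprime_iff_dvd.1 c1
  obtain ⟨b, b1, b2, b3⟩ := Nat.Prime.not_coprime_iff_dvd.1 c2
  exact absurd (h.single hx hi hj ⟨a1, a3⟩ ⟨b1, b3⟩ a2 b2) hij

/-- `big`, `single_dvd`, `two_pow_le` (also for `h.symm`), `ari_two`. -/
theorem not_dvd (h : Tw π m μ S₁ S₂ r₁ f₁ r₂ f₂) {i : Fin 5} (hi : i ≠ 0) :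
    ¬ μ i ∣ 2 * (f₁ * f₂) := by
  have key : ∀ {S₁ S₂ : Subgroup Γ} {r₁ f₁ r₂ f₂ : ℕ}, Tw π m μ S₁ S₂ r₁ f₁ r₂ f₂ → 2 ^ f₁ ≤ 2 * 3 ^ (2 * m + 1) :=
    fun h => by
      obtain ⟨k, hk, hb⟩ := h.c1.big
      obtain ⟨x, hx, rfl⟩ := hasOrd_sub.1 hk
      obtain ⟨j, hj, hd⟩ := h.single_dvd hx
      exact two_pow_le h.sit.par hj h.c1.fodd hd hb
  exact ari_two h.sit.par h.c1.fodd h.c2.fodd (key h) (key h.symm) hi

/-- `out` twice and `mem_sup_of`. -/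
theorem pow_mem (h : Tw π m μ S₁ S₂ r₁ f₁ r₂ f₂) (γ : Γ) :
    ∃ a ∈ S₁, ∃ b ∈ S₂, a * b = γ ^ (2 * (f₁ * f₂)) := by
  refine mem_sup_of h.comm h.cc ?_ ?_
  · rw [← mul_assoc, pow_mul]
    exact Subgroup.pow_mem _ (h.c1.out γ (h.n1 (mem_top γ))) _
  · rw [mul_comm f₁, ← mul_assoc, pow_mul]
    exact Subgroup.pow_mem _ (h.c2.out γ (h.n2 (mem_top γ))) _

/-- uniqueness of the decomposition: orders and commutation pass to the components (`ic`, `comm`) -/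
theorem comp_pow (h : Tw π m μ S₁ S₂ r₁ f₁ r₂ f₂) {a b : Γ} (ha : a ∈ S₁) (hb : b ∈ S₂) {k : ℕ}
    (e : (a * b) ^ k = 1) : a ^ k = 1 ∧ b ^ k = 1 := by
  rw [Commute.mul_pow (cents_iff.1 h.comm a ha b hb)] at e
  exact h.comp_one (Subgroup.pow_mem _ ha k) (Subgroup.pow_mem _ hb k) e

theorem comp_comm (h : Tw π m μ S₁ S₂ r₁ f₁ r₂ f₂) {a b c d : Γ} (ha : a ∈ S₁) (hb : b ∈ S₂)
    (hc : c ∈ S₁) (hd : d ∈ S₂) (e : Commute (a * b) (c * d)) : Commute a c ∧ Commute b d := by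
  have k : ∀ x ∈ S₁, ∀ y ∈ S₂, x * y = y * x := cents_iff.1 h.comm
  have e1 : a * c * (b * d) = c * a * (d * b) := by
    rw [mul_assoc, ← mul_assoc c, k c hc b hb, mul_assoc b, ← mul_assoc a, e.eq, mul_assoc c, ← mul_assoc d,
      ← k a ha d hd, mul_assoc a, mul_assoc c]
  obtain ⟨h1, h2⟩ := h.comp_one (a := (c * a)⁻¹ * (a * c)) (b := b * d * (d * b)⁻¹)
    (mul_mem (inv_mem (mul_mem hc ha)) (mul_mem ha hc)) (mul_mem (mul_mem hb hd) (inv_mem (mul_mem hd hb))) (by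
      rw [mul_assoc, ← mul_assoc (a * c), e1]; group)
  exact ⟨(inv_mul_eq_one.1 h1).symm, mul_inv_eq_one.1 h2⟩

theorem no_two (h : Tw π m μ S₁ S₂ r₁ f₁ r₂ f₂) {i j : Fin 5} (hi : i ≠ 0) (hj : j ≠ 0) (hij : i ≠ j) {u v : ℕ}
    (cu : Cl μ i u) (cv : Cl μ j v) {a c : Γ} (ha : a ∈ S₁) (hc : c ∈ S₁) (a0 : a ≠ 1) (c0 : c ≠ 1)
    (a1 : a ^ u = 1) (c1 : c ^ v = 1) (k : Commute a c) : False := by
  have e1 := twoa_ord cu.1 a0 a1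
  have e2 := twoa_ord cv.1 c0 c1
  have e : orderOf (a * c) = u * v := by
    rw [k.orderOf_mul_eq_mul_orderOf_of_coprime (by
      rw [e1, e2]; exact (Nat.coprime_primes cu.1 cv.1).2 (Cl.ne h.sit.par hij cu cv)), e1, e2]
  exact hij (h.single (mul_mem ha hc) hi hj cu cv (e ▸ dvd_mul_right u v) (e ▸ dvd_mul_left v u))

theorem wit (h : Tw π m μ S₁ S₂ r₁ f₁ r₂ f₂) {i j : Fin 5} (hi : i ≠ 0) (hj : j ≠ 0) (hij : i ≠ j) :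
    ∃ z z' : G, ∃ a ∈ S₁, ∃ b ∈ S₂, ∃ c ∈ S₁, ∃ d ∈ S₂, Cl μ i (orderOf z) ∧ Cl μ j (orderOf z') ∧ Commute z z' ∧
      a * b = π z ∧ c * d = π z' ∧ (a ^ orderOf z = 1 ∧ b ^ orderOf z = 1) ∧
      (c ^ orderOf z' = 1 ∧ d ^ orderOf z' = 1) ∧ Commute a c ∧ Commute b d := by
  obtain ⟨g, hg⟩ := h.low i j hij
  obtain ⟨_, k, cu, rfl⟩ := h.sit.par.wit (h.not_dvd hi) (g := g) (hg ▸ dvd_mul_right _ _)
  obtain ⟨_, l, cv, rfl⟩ := h.sit.par.wit (h.not_dvd hj) (g := g) (hg ▸ dvd_mul_left _ _)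
  obtain ⟨a, ha, b, hb, e⟩ := h.pow_mem (π g)
  have e1 : ∀ k : ℕ, a ^ k * b ^ k = π ((g ^ (2 * (f₁ * f₂))) ^ k) := fun k => by
    rw [map_pow, map_pow, ← e, Commute.mul_pow (cents_iff.1 h.comm a ha b hb)]
  have e2 : ∀ k : ℕ, (a ^ k) ^ orderOf ((g ^ (2 * (f₁ * f₂))) ^ k) = 1 ∧
      (b ^ k) ^ orderOf ((g ^ (2 * (f₁ * f₂))) ^ k) = 1 := fun k =>
    h.comp_pow (Subgroup.pow_mem _ ha k) (Subgroup.pow_mem _ hb k) (by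
      rw [e1, ← map_pow, pow_orderOf_eq_one, map_one])
  exact ⟨_, _, _, Subgroup.pow_mem _ ha k, _, Subgroup.pow_mem _ hb k, _, Subgroup.pow_mem _ ha l, _,
    Subgroup.pow_mem _ hb l, cu, cv, Commute.pow_pow_self _ k l, e1 k, e1 l, e2 k, e2 l,
    Commute.pow_pow_self a k l, Commute.pow_pow_self b k l⟩

/-- SPLIT.  `g` of order `μ i μ j`, `E = 2 f₁ f₂`; `Pm.wit` gives powers `z, z'` of `g ^ E` of prime orders `u`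
(class `i`), `v` (class `j`); `π z = a b ≠ 1`, `π z' = c d ≠ 1` (powers of the decomposition `pow_mem`;
`orderOf_map_of_not_dvd`), `a ^ u = b ^ u = 1`, `c ^ v = d ^ v = 1`, `a, c` commute, `b, d` commute.  If
`a ≠ 1 ≠ c` then `a c ∈ S₁` has order `u v`, against `single`; likewise `b ≠ 1 ≠ d`. -/
theorem split (h : Tw π m μ S₁ S₂ r₁ f₁ r₂ f₂) {i j : Fin 5} (hi : i ≠ 0) (hj : j ≠ 0) (hij : i ≠ j)
    (ki : ¬ Mt μ i π.ker) (kj : ¬ Mt μ j π.ker) :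
    (Mt μ i S₁ ∧ Mt μ j S₂) ∨ (Mt μ j S₁ ∧ Mt μ i S₂) := by
  obtain ⟨z, z', a, ha, b, hb, c, hc, d, hd, cu, cv, -, e1, e2, ⟨a1, b1⟩, ⟨c1, d1⟩, k1, k2⟩ := h.wit hi hj hij
  have n1 := twoa_ne cu ki
  have n2 := twoa_ne cv kj
  by_cases a0 : a = 1
  · have b0 : b ≠ 1 := fun e => n1 (by rw [← e1, a0, e, mul_one])
    have d0 : d = 1 := by_contra fun e => h.symm.no_two hi hj hij cu cv hb hd b0 e b1 d1 k2
    exact .inr ⟨twoa_mt cv hc (fun e => n2 (by rw [← e2, d0, e, mul_one])) c1, twoa_mt cu hb b0 b1⟩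
  · have c0 : c = 1 := by_contra fun e => h.no_two hi hj hij cu cv ha hc a0 e a1 c1 k1
    exact .inl ⟨twoa_mt cu ha a0 a1, twoa_mt cv hd (fun e => n2 (by rw [← e2, c0, e, mul_one])) d1⟩

/-- FULL.  As in `split`: `z` of order `u` (class `i`), `π z = a b ≠ 1`, `a = 1` as `¬ Mt μ i S₁`, so
`π z = b ∈ S₂ ≤ 𝒞(S₁)`.  `z'` of order `v` (class `j`) commutes with `z`; by `Sit.f1` (classes `0, i, j`)
`v ∤ |ker ⊓ 𝒞[z]|`, so `π z' = c d ≠ 1`; `d ≠ 1` contradicts `single` for `b d ∈ S₂`; so `c ≠ 1` has order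
`v`. -/
theorem full (h : Tw π m μ S₁ S₂ 3 f₁ r₂ f₂) {i j : Fin 5} (hi : i ≠ 0) (hj : j ≠ 0) (hij : i ≠ j)
    (ki : ¬ Mt μ i π.ker) (si : ¬ Mt μ i S₁) : Mt μ j S₁ := by
  obtain ⟨z, z', a, ha, b, hb, c, hc, d, hd, cu, cv, k0, e1, e2, ⟨a1, b1⟩, ⟨c1, d1⟩, k1, k2⟩ := h.wit hi hj hij
  have a0 : a = 1 := by_contra fun e => si (twoa_mt cu ha e a1)
  rw [a0, one_mul] at e1
  have b0 : b ≠ 1 := e1 ▸ twoa_ne cu ki
  have d0 : d = 1 := by_contra fun e => h.symm.no_two hi hj hij cu cv hb hd b0 e b1 d1 k2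
  refine twoa_mt cv hc (fun e => ?_) c1
  refine h.sit.f1 h.c1 hi.symm hj.symm hij h.sit.par.cl_three cu cv rfl (fun k => ki ⟨_, cu, k⟩)
    (e1 ▸ cents_symm h.comm hb) (order_dvdG (mem_inf.2 ⟨?_, mem_cent1.2 k0.eq.symm⟩))
  rw [MonoidHom.mem_ker, ← e2, e, d0, mul_one]

end Tw

end CfsgLib.RSQ
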