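import Mathlib
import Cfsg.Agent.Lib.RSQ.TwoA

/-!
RSQ package TOP: the fields have the right order and there are no field automorphisms
(templates: `SzP.dvd`, `Two.eq_left`, `sup_eq_top` in `Lib/SpecSq`).
-/

set_option autoImplicit false
set_option linter.unusedSectionVars false
set_option linter.style.haveILetI false

namespace CfsgLib.RSQ

open Cfsg Subgroup CfsgLib.BG CfsgLib.CIT.App CfsgLib.Comp CfsgLib.SpecSq
open scoped commutatorElement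

variable {G : Type*} [Group G] [Finite G] {Γ : Type*} [Group Γ] [Finite Γ] {π : G →* Γ}
  {μ : Fin 5 → ℕ} {m : ℕ} {S S₁ S₂ : Subgroup Γ} {r f r₁ f₁ r₂ f₂ : ℕ}

/-- `k = (q₁ - 1) / 2` is an element order (`spec`), odd and prime to 3; its primes are `≥ 5`, of class 1
(`Ub.clA`); `Ub.dvd_mu` gives `k ∣ μ 1`, so `q₁ - 1 ∣ q - 1`; `dvd_of_three_pow`. -/
theorem ReA.dvd {m₁ : ℕ} (hS : ReA S m₁) (hP : Pm m μ) (hU : Ub μ Γ) : 2 * m₁ + 1 ∣ 2 * m + 1 := by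
  have h8 : 3 ^ (2 * m₁ + 1) % 4 = 3 := by
    rw [pow_succ, pow_mul, Nat.mul_mod, Nat.pow_mod]; norm_num
  have h3 : 3 ∣ 3 ^ (2 * m₁ + 1) := dvd_pow_self 3 (by omega)
  obtain ⟨k, hk⟩ : ∃ k, 3 ^ (2 * m₁ + 1) - 1 = 2 * k := ⟨(3 ^ (2 * m₁ + 1) - 1) / 2, by omega⟩
  have ho : HasOrd Γ k :=
    ((hS.spec k).2 (.inr (.inr (.inl (hk ▸ Dvd.intro_left 2 rfl))))).of_subgroup
  have k23 : ¬ 2 ∣ k ∧ ¬ 3 ∣ k := by
    generalize 3 ^ (2 * m₁ + 1) = q at h8 h3 hk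
    omega
  have hd := hU.dvd_mu hP (i := 1) ho fun s hs hsk => (hU.clA hP hs (hs.five_le_of_ne_two_of_ne_three
    (by rintro rfl; exact k23.1 hsk) (by rintro rfl; exact k23.2 hsk)) (hsk.trans ho.dvd_card) (odd_two_mul_add_one m₁)
    (hk ▸ hsk.mul_left 2)).2
  refine dvd_of_three_pow ?_
  rw [hk, ← hP.m1, Nat.add_sub_cancel]
  exact Nat.mul_dvd_mul_left 2 hd

/-- by `spec`: all orders are `≤ q₁ + r₁ + 1 ≤ 2 q₁` -/
theorem ReA.ord_le {m₁ : ℕ} (hS : ReA S m₁) {x : Γ} (hx : x ∈ S) :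
    orderOf x ≤ 2 * 3 ^ (2 * m₁ + 1) := by
  have h1 : 3 ^ (m₁ + 1) < 3 ^ (2 * m₁ + 1) := Nat.pow_lt_pow_right (by norm_num) (by have := hS.hm; omega)
  have h2 : 3 ^ 2 ≤ 3 ^ (m₁ + 1) := Nat.pow_le_pow_right (by norm_num) (by have := hS.hm; omega)
  rcases (hS.spec _).1 (hasOrd_sub.2 ⟨x, hx, rfl⟩) with h | h | h | h | h | h <;>
    have := Nat.le_of_dvd (by omega) h <;> omega

/-- Suppose `m₁ ≠ m`.  `n = 2 m + 1`; `γ ^ n = a b ∈ S₁ S₂` for all `γ` (`out1`, `ReA.dvd`, `mem_sup_of`).  Take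
`g` of order `μ 1 μ 4`; `γ = π g` has the same order (it is prime to `|ker|` by `hK`), so
`μ 1 μ 4 ∣ orderOf a * orderOf b * n` and `orderOf a, orderOf b ∣ μ 1 μ 4` (`comp_pow`).  By `single` each of
`orderOf a`, `orderOf b` is coprime to `μ 1` or to `μ 4`.  If both are coprime to the same `μ i` then
`μ i ∣ n`, against `not_dvd_n`.  Otherwise `orderOf b` is coprime to some `μ i`, `i ∈ {1, 4}` [in fact this
alone suffices]: `μ i ∣ orderOf a * n`, and `ari_size` contradicts `ord_le`. -/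
theorem Tw.size {m₁ m₂ : ℕ} (h : Tw π m μ S₁ S₂ 3 f₁ 3 f₂) (h1 : ReA S₁ m₁) (h2 : ReA S₂ m₂)
    (hK : ∀ i : Fin 5, i ≠ 0 → ¬ Mt μ i π.ker) : m₁ = m := by
  by_contra hne
  have hP := h.sit.par
  have hU := h.sit.up.of_surj π h.sit.surj
  obtain ⟨g, hg⟩ := (h.low 1 4 (by decide)).map_of_coprime π (Nat.coprime_of_dvd fun p hp hd hk =>
    (hp.dvd_mul.1 hd).elim (fun e => hK 1 (by decide) ⟨p, ⟨hp, e⟩, hk⟩)
      fun e => hK 4 (by decide) ⟨p, ⟨hp, e⟩, hk⟩)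
  have key : ∀ {S : Subgroup Γ} {k : ℕ}, ReA S k → ⊤ ≤ 𝒩(S) → g ^ (2 * m + 1) ∈ S ⊔ 𝒞(S) := by
    intro S k hS hn
    obtain ⟨f, e⟩ := hS.dvd hP hU
    rw [e, pow_mul]
    exact Subgroup.pow_mem _ (hS.out1 g (hn (mem_top g))) f
  obtain ⟨a, ha, b, hb, e⟩ := mem_sup_of h.comm h.cc (key h1 h.n1) (key h2 h.n2)
  have h3 : μ 1 * μ 4 ∣ orderOf a * (2 * m + 1) * orderOf b := by
    rw [← hg, orderOf_dvd_iff_pow_eq_one, mul_comm (orderOf a), mul_assoc, pow_mul, ← e,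
      ← orderOf_dvd_iff_pow_eq_one]
    exact Commute.orderOf_mul_dvd_mul_orderOf (cents_iff.1 h.comm a ha b hb)
  have fin : ∀ i : Fin 5, i ≠ 0 → μ i ∣ μ 1 * μ 4 → ¬ (μ i).Coprime (orderOf b) := fun i hi hd hc =>
    (ari_size hP h1.hm (h1.dvd hP hU) hne hi (orderOf_pos a)
      (hc.dvd_of_dvd_mul_right (hd.trans h3))).not_ge (h1.ord_le ha)
  obtain ⟨p, hp, p1, p2⟩ := Nat.Prime.not_coprime_iff_dvd.1 (fin 1 (by decide) (Dvd.intro _ rfl))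
  obtain ⟨q, hq, q1, q2⟩ := Nat.Prime.not_coprime_iff_dvd.1 (fin 4 (by decide) (Dvd.intro_left _ rfl))
  exact absurd (h.symm.single hb (i := 1) (j := 4) (by decide) (by decide) ⟨hp, p1⟩ ⟨hq, q1⟩ p2 q2)
    (by decide)

/-- Start as in `SpecSq.sup_eq_top`: `h = b a g ≠ 1` with `Fd S₁ n h`, `Fd S₂ n h`, `h ^ n = 1`; `h' = h ^ k` of
prime order `w ∣ n`, odd.  `w = 3`: `h' ∉ 𝒞(S₁)` or `h' ∉ 𝒞(S₂)` (`hC`), `three` contradicts `no27`.
`w ≠ 3`: class `j ≠ 0`; let `j₇ ≠ 0` be the class of 7.  `h'` commutes with an element of order 3 of `S₁` (cube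
of `c9`) and one of order 7 of `S₂`, so `j = j₇` (`Ub.tri_elt`), `j ≠ 1` (`Pm.not_clA`, `7 ∣ 3 ^ 3 + 1`).
If `w ≠ n`, `fix` gives `l ∈ S₁` of class 1 (`Ub.clA`; its order is not 3), and the cube of `c9` in `S₂` gives
a triple of classes `j, 1, 0`.  If `w = n`: `c9` in `S₁`, `c2` in `S₂` give order `18 w` (`hasOrd_mul3`), so
`j = 2` by `n2`, `Pm.three_dvd` gives `3 ∣ n = w`. -/
theorem top (hP : Pm m μ) (hU : Ub μ Γ) (h1 : ReP S₁ m) (h2 : ReP S₂ m) (hc : S₁ ≤ 𝒞(S₂))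
    (hn1 : ⊤ ≤ 𝒩(S₁)) (hn2 : ⊤ ≤ 𝒩(S₂)) (hC : 𝒞(S₁) ⊓ 𝒞(S₂) = ⊥) : S₁ ⊔ S₂ = ⊤ := by
  refine eq_top_iff.2 fun g _ => ?_
  by_contra hg
  obtain ⟨a, ha, k3⟩ := h1.fld g (hn1 (mem_top _))
  obtain ⟨b, hb, k4⟩ := h2.fld (a * g) (hn2 (mem_top _))
  have f1 := k3 b (cents_symm hc hb)
  have f2 := k4 1 (one_mem _)
  rw [one_mul, ← mul_assoc] at f2
  have h3 : (b * a * g) ^ (2 * m + 1) = 1 := by rw [← mem_bot, ← hC]; exact ⟨f1.pow, f2.pow⟩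
  have h4 : b * a * g ≠ 1 := fun e => hg (by
    rw [eq_inv_of_mul_eq_one_right e]
    exact inv_mem (mul_mem (mem_sup_right hb) (mem_sup_left ha)))
  generalize b * a * g = y at f1 f2 h3 h4
  obtain ⟨w, hw, hd⟩ := exists_prime_dvd_orderOf h4
  obtain ⟨k, hk⟩ := exists_pow_orderOf_eq hd
  have w2 : w ≠ 2 :=
    ne_two_of_dvd_odd (odd_two_mul_add_one m) (hd.trans (orderOf_dvd_of_pow_eq_one h3))
  have yw : (y ^ k) ^ w = 1 := by rw [← hk, pow_orderOf_eq_one]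
  by_cases w3 : w = 3
  · subst w3
    have key : ∀ {S : Subgroup Γ}, Fd S (2 * m + 1) y → y ^ k ∈ 𝒞(S) := fun f => by
      by_contra hn
      obtain ⟨x, -, hx⟩ := f.three k (yw ▸ one_mem _) hn
      exact hU.no27 hP (HasOrd.of_dvd ⟨_, rfl⟩ hx)
    have : y ^ k = 1 := by rw [← mem_bot, ← hC]; exact ⟨key f1, key f2⟩
    rw [this, orderOf_one] at hk
    omega
  obtain ⟨j, cj⟩ := hU.cls hw w2 (hk ▸ orderOf_dvd_natCard _)
  have j0 : j ≠ 0 := by rintro rfl; exact w3 (cj.eq_three hP)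
  obtain ⟨u, hu, uo, uc⟩ := f2.c7
  obtain ⟨t, ht, t9, tc⟩ := f1.c9
  obtain ⟨t', ht', t9', tc'⟩ := f2.c9
  obtain ⟨s, hs, so, sc⟩ := f2.c2
  have cube : ∀ {t : Γ}, orderOf t = 9 → Cl μ 0 (orderOf (t ^ 3)) := fun {t} e => by
    rw [orderOf_pow_of_dvd (by norm_num) (by rw [e]; norm_num), e]
    exact hP.cl_three
  have cm : ∀ {t : Γ}, y ∈ 𝒞[t] → Commute (y ^ k) t := fun h => mem_cent1.1 (pow_mem h k)
  obtain ⟨i, ci⟩ := hU.cls (p := 7) (by norm_num) (by norm_num) (uo ▸ orderOf_dvd_natCard _)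
  have i0 : i ≠ 0 := ci.ne_zero hP (by norm_num)
  obtain rfl : j = i := by
    by_contra hne
    exact hU.tri_elt hP j0.symm i0.symm hne (cube t9) (hk ▸ cj) (uo ▸ ci)
      ((cm tc).symm.pow_left 3) (cents_iff.1 hc _ (pow_mem ht 3) u hu) (cm uc)
  have j1 : j ≠ 1 := by rintro rfl; exact hP.not_clA (w := 7) (l := 3) (by norm_num) ci
  by_cases wn : w = 2 * m + 1
  · have c2 := (Nat.coprime_primes Nat.prime_two hw).2 (Ne.symm w2)
    have c3 := (Nat.coprime_primes Nat.prime_three hw).2 (Ne.symm w3)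
    have ho : HasOrd Γ (18 * w) := hasOrd_mul3 so t9 hk (by norm_num) c2 (c3.pow_left 2)
      (cents_iff.1 hc t ht s hs).symm (cm sc).symm (cm tc).symm
    have j3 : j ≠ 3 := by rintro rfl; exact hU.n2 w (.inl cj) ho
    have j4 : j ≠ 4 := by rintro rfl; exact hU.n2 w (.inr cj) ho
    obtain rfl : j = 2 := by omega
    exact w3 ((Nat.prime_dvd_prime_iff_eq Nat.prime_three hw).1 (wn ▸ hP.three_dvd ci)).symm
  · obtain ⟨l, hl, l1, l2, l3, l4⟩ := f1.fix k w hw wn (yw ▸ one_mem _)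
    have l5 : orderOf l ≠ 3 := fun e => by
      have h5 : 3 ∣ 3 ^ (2 * m + 1) := dvd_pow_self 3 (by omega)
      have h6 : 0 < 3 ^ (2 * m + 1) := by positivity
      rw [e] at l3
      omega
    exact hU.tri_elt hP j1 j0 (by decide) (hk ▸ cj) (hU.clA hP l1 (l1.five_le_of_ne_two_of_ne_three l2 l5)
      (orderOf_dvd_natCard l) (odd_two_mul_add_one m) l3) (cube t9') (mem_cent1.1 l4)
      ((cm tc').pow_right 3) (cents_iff.1 hc l hl _ (pow_mem ht' 3))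

end CfsgLib.RSQ
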