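import Mathlib
import Cfsg.Agent.Lib.RSQ.TwoA

/-!
RSQ package TWOB: two components; both are Ree groups and the kernel is a `{2, 3}`-group.
-/

set_option autoImplicit false
set_option linter.unusedSectionVars false
set_option linter.style.haveILetI false

namespace CfsgLib.RSQ

open Cfsg Subgroup CfsgLib.BG CfsgLib.CIT.App CfsgLib.Comp CfsgLib.SpecSq
open scoped commutatorElement

variable {G : Type*} [Group G] [Finite G] {Γ : Type*} [Group Γ] [Finite Γ] {π : G →* Γ}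
  {μ : Fin 5 → ℕ} {m : ℕ} {S S₁ S₂ : Subgroup Γ} {r f r₁ f₁ r₂ f₂ : ℕ}

theorem tb_nd : ∀ {i j k l : Fin 5}, [i, j, k, l].Nodup ↔ i ≠ j ∧ i ≠ k ∧ i ≠ l ∧ j ≠ k ∧ j ≠ l ∧ k ≠ l := by
  decide

theorem tb_c1 : ∀ x : Fin 5, x ≠ 0 → ∃ a b c : Fin 5, [0, a, b, c].Nodup ∧ a ≠ x ∧ b ≠ x ∧ c ≠ x := by decide

theorem tb_c2 : ∀ i j : Fin 5, i ≠ 0 → j ≠ 0 → i ≠ j → ∃ k l : Fin 5, [0, i, j, k].Nodup ∧ [0, i, j, l].Nodup ∧
    [0, k, i, j].Nodup ∧ [0, l, i, j].Nodup ∧ k ≠ 0 ∧ l ≠ 0 ∧ k ≠ l := by decide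


namespace Tw

theorem tb_U (h : Tw π m μ S₁ S₂ r₁ f₁ r₂ f₂) : Ub μ Γ := h.sit.up.of_surj π h.sit.surj

theorem tb_no3 (h : Tw π m μ S₁ S₂ r₁ f₁ r₂ f₂) {i j : Fin 5} (hi : i ≠ 0) (hj : j ≠ 0) (hij : i ≠ j) {w : ℕ}
    (cw : Cl μ i w) (h2 : Mt μ j S₂) : ¬ HasOrd S₁ (3 * w) := fun ho => by
  obtain ⟨x, hx, e⟩ := hasOrd_sub.1 ho
  obtain ⟨v, cv, dv⟩ := h2
  exact h.tb_U.tri_cent h.sit.par hi.symm hj.symm hij h.sit.par.cl_three cw cv (e ▸ dvd_mul_right 3 w)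
    (e ▸ dvd_mul_left w 3) dv (h.comm hx)


/-- `X` the class of `r₁ ≥ 5` (`X ≠ 0`).  `k23` with `w = 3` (`3 ∣ |S₂|`, `S₂ ≤ 𝒞(S₁)`): at most one of the
three classes `∉ {0, X}` meets the kernel; so two of them, `Y, Y'`, do not; `split` gives (after renaming)
`w ∈ Y`, `w ∣ |S₁|`, `w' ∈ Y'`, `w' ∣ |S₂|`.  `w ∣ k` contradicts `single` (`r₁ ∣ k`); `HasOrd S₁ (3 w)`
contradicts `Ub.tri_cent` (classes `0, Y, Y'`). -/
theorem not_ev (h : Tw π m μ S₁ S₂ r₁ f₁ r₂ f₂) (he : EvP S₁ r₁) : False := by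
  obtain ⟨h5, k, hk, rk, hw⟩ := he
  have P := h.sit.par
  obtain ⟨X, cX⟩ := h.tb_U.cls h.c1.hr h.c1.r2 (h.c1.pair.dvd.trans (card_subgroup_dvd_card _))
  have X0 := cX.ne_zero P h5
  obtain ⟨x, hx, e⟩ := hasOrd_sub.1 hk
  have key : ∀ {Y Y' : Fin 5}, Y ≠ 0 → Y' ≠ 0 → Y ≠ Y' → Y ≠ X → Y' ≠ X → Mt μ Y π.ker → ¬ Mt μ Y' π.ker := by
    rintro Y Y' a b c d e ⟨u, cu, du⟩ ⟨v, cv, dv⟩
    exact h.sit.k23 h.c1 (tb_nd.2 ⟨X0, d.symm, e.symm, a.symm, b.symm, c⟩) cX P.cl_three cu cv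
      ((Dvd.dvd.trans (by norm_num) h.c2.d12).trans (card_dvd_of_le h.symm.comm)) du dv
  have fin : ∀ {Y Y' : Fin 5}, Y ≠ 0 → Y' ≠ 0 → Y ≠ Y' → Y ≠ X → Mt μ Y S₁ → ¬ Mt μ Y' S₂ := by
    rintro Y Y' a b c d ⟨w, cw, dw⟩ h2
    rcases hw w cw.1 (le_trans (by norm_num) (cw.seven_le P a)) dw with k1 | k1
    · exact d (h.single hx a X0 cw cX (e ▸ k1) (e ▸ rk))
    · exact h.tb_no3 a b c cw h2 k1
  have two : ∀ {Y Y' : Fin 5}, Y ≠ 0 → Y' ≠ 0 → Y ≠ Y' → Y ≠ X → Y' ≠ X → ¬ Mt μ Y π.ker → Mt μ Y' π.ker := by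
    intro Y Y' a b c d e k1
    by_contra k2
    rcases h.split a b c k1 k2 with ⟨p, q⟩ | ⟨p, q⟩
    exacts [fin a b c d p q, fin b a c.symm e p q]
  obtain ⟨a, b, c, nd, aX, bX, cX'⟩ := tb_c1 X X0
  obtain ⟨a0, b0, c0, ab, ac, bc⟩ := tb_nd.1 nd
  by_cases ka : Mt μ a π.ker
  · exact key a0.symm c0.symm ac aX cX' ka (two b0.symm c0.symm bc bX cX' (key a0.symm b0.symm ab aX bX ka))
  · exact key b0.symm c0.symm bc bX cX' (two a0.symm b0.symm ab aX bX ka) (two a0.symm c0.symm ac aX cX' ka)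

/-- Suppose `i ≠ j` both meet the kernel; `k, l` the other two classes `≠ 0`.  They miss the kernel (`k3`), so
by `split` one of them meets `S₂ ≤ 𝒞(S₁)`; `k23`. -/
theorem kle1 (h : Tw π m μ S₁ S₂ 3 f₁ r₂ f₂) {i j : Fin 5} (hi : i ≠ 0) (hj : j ≠ 0)
    (ki : Mt μ i π.ker) (kj : Mt μ j π.ker) : i = j := by
  by_contra hij
  have P := h.sit.par
  obtain ⟨a, ca, da⟩ := ki
  obtain ⟨b, cb, db⟩ := kj
  obtain ⟨k, l, n1, n2, n3, n4, k0, l0, kl⟩ := tb_c2 i j hi hj hij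
  have miss : ∀ {x : Fin 5}, [0, i, j, x].Nodup → ¬ Mt μ x π.ker := fun n ⟨c, cc, dc⟩ =>
    h.sit.k3 h.c1 n P.cl_three ca cb cc da db dc
  have fin : ∀ {x : Fin 5}, [0, x, i, j].Nodup → ¬ Mt μ x S₂ := fun n ⟨c, cc, dc⟩ =>
    h.sit.k23 h.c1 n P.cl_three cc ca cb (dc.trans (card_dvd_of_le h.symm.comm)) da db
  rcases h.split k0 l0 kl (miss n1) (miss n2) with ⟨-, q⟩ | ⟨-, q⟩
  exacts [fin n4 q, fin n3 q]

theorem tb_miss (h : Tw π m μ S₁ S₂ 3 f₁ r₂ f₂) : ∃ i j k : Fin 5, [0, i, j, k].Nodup ∧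
    ¬ Mt μ i π.ker ∧ ¬ Mt μ j π.ker ∧ ¬ Mt μ k π.ker := by
  by_cases e : ∃ x, x ≠ 0 ∧ Mt μ x π.ker
  · obtain ⟨x, x0, kx⟩ := e
    obtain ⟨a, b, c, nd, aX, bX, cX⟩ := tb_c1 x x0
    obtain ⟨a0, b0, c0, -⟩ := tb_nd.1 nd
    exact ⟨a, b, c, nd, fun k => aX (h.kle1 a0.symm x0 k kx), fun k => bX (h.kle1 b0.symm x0 k kx),
      fun k => cX (h.kle1 c0.symm x0 k kx)⟩
  · push Not at e
    exact ⟨1, 2, 3, by decide, e 1 (by decide), e 2 (by decide), e 3 (by decide)⟩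


/-- By `kle1` three classes `≠ 0` miss the kernel; if one of them misses `S₁`, `full`. -/
theorem three_cls (h : Tw π m μ S₁ S₂ 3 f₁ r₂ f₂) : ∃ i j k : Fin 5, [0, i, j, k].Nodup ∧
    Mt μ i S₁ ∧ Mt μ j S₁ ∧ Mt μ k S₁ := by
  obtain ⟨i, j, k, nd, ki, kj, kk⟩ := h.tb_miss
  have key : ∀ {x : Fin 5}, x ≠ 0 → ¬ Mt μ x π.ker → ¬ Mt μ x S₁ → ∃ i j k : Fin 5, [0, i, j, k].Nodup ∧
      Mt μ i S₁ ∧ Mt μ j S₁ ∧ Mt μ k S₁ := fun {x} x0 k1 k2 => by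
    obtain ⟨a, b, c, nd, aX, bX, cX⟩ := tb_c1 x x0
    obtain ⟨a0, b0, c0, -⟩ := tb_nd.1 nd
    exact ⟨a, b, c, nd, h.full x0 a0.symm aX.symm k1 k2, h.full x0 b0.symm bX.symm k1 k2,
      h.full x0 c0.symm cX.symm k1 k2⟩
  obtain ⟨i0, j0, k0, -⟩ := tb_nd.1 nd
  by_cases si : Mt μ i S₁
  · by_cases sj : Mt μ j S₁
    · by_cases sk : Mt μ k S₁
      exacts [⟨i, j, k, nd, si, sj, sk⟩, key k0.symm kk sk]
    · exact key j0.symm kj sj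
  · exact key i0.symm ki si

/-- Three classes `i, j, k ≠ 0` miss the kernel (`kle1`); `split` twice: two different classes meet `S₂`.
Hence `¬ HasOrd S₁ (3 w)` for primes `w ≥ 5` (`Ub.tri_cent` with a class of `S₂` different from that of
`w`).  `three_cls`: two of the three primes divide the same of `k, l`; `single`. -/
theorem not_od (h : Tw π m μ S₁ S₂ 3 f₁ r₂ f₂) (ho : OdP S₁) : False := by
  obtain ⟨k, l, hk, hl, hw⟩ := ho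
  have P := h.sit.par
  obtain ⟨a, b, a0, b0, ab, ma, mb⟩ : ∃ a b : Fin 5, a ≠ 0 ∧ b ≠ 0 ∧ a ≠ b ∧ Mt μ a S₂ ∧ Mt μ b S₂ := by
    obtain ⟨i, j, k, nd, ki, kj, kk⟩ := h.tb_miss
    obtain ⟨i0, j0, k0, ij, ik, jk⟩ := tb_nd.1 nd
    rcases h.split i0.symm j0.symm ij ki kj with ⟨-, q⟩ | ⟨-, q⟩
    · rcases h.split i0.symm k0.symm ik ki kk with ⟨-, q'⟩ | ⟨-, q'⟩
      exacts [⟨j, k, j0.symm, k0.symm, jk, q, q'⟩, ⟨i, j, i0.symm, j0.symm, ij, q', q⟩]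
    · rcases h.split j0.symm k0.symm jk kj kk with ⟨-, q'⟩ | ⟨-, q'⟩
      exacts [⟨i, k, i0.symm, k0.symm, ik, q, q'⟩, ⟨i, j, i0.symm, j0.symm, ij, q, q'⟩]
  obtain ⟨x, hx, rfl⟩ := hasOrd_sub.1 hk
  obtain ⟨y, hy, rfl⟩ := hasOrd_sub.1 hl
  have key : ∀ {Y : Fin 5} {w : ℕ}, Y ≠ 0 → Cl μ Y w → w ∣ Nat.card S₁ → w ∣ orderOf x ∨ w ∣ orderOf y := by
    intro Y w Y0 cw dw
    rcases hw w cw.1 (le_trans (by norm_num) (cw.seven_le P Y0)) dw with k1 | k1 | k1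
    · exact Or.inl k1
    · exact Or.inr k1
    · by_cases e : Y = a
      · exact (h.tb_no3 Y0 b0 (e ▸ ab) cw mb k1).elim
      · exact (h.tb_no3 Y0 a0 e cw ma k1).elim
  obtain ⟨i, j, k, nd, ⟨u, cu, du⟩, ⟨v, cv, dv⟩, ⟨w, cw, dw⟩⟩ := h.three_cls
  obtain ⟨i0, j0, k0, ij, ik, jk⟩ := tb_nd.1 nd
  rcases key i0.symm cu du with p | p <;> rcases key j0.symm cv dv with q | q <;>
    rcases key k0.symm cw dw with r | r <;>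
    first
    | exact ij (h.single hx i0.symm j0.symm cu cv p q)
    | exact ij (h.single hy i0.symm j0.symm cu cv p q)
    | exact ik (h.single hx i0.symm k0.symm cu cw p r)
    | exact ik (h.single hy i0.symm k0.symm cu cw p r)
    | exact jk (h.single hx j0.symm k0.symm cv cw q r)
    | exact jk (h.single hy j0.symm k0.symm cv cw q r)

/-- Suppose `s ∈ Y` divides `|ker|`.  If `Y ≠ 1` take the pair `(t, ρ) = (3, w)` of `pA` (`Ub.clA`), if `Y = 1`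
the pair `(2, 7)` (`7 ∣ 3 ^ 3 + 1`, `Pm.not_clA`); the class `Z` of `ρ` is `∉ {0, Y}`, so `ρ ∤ |ker|` (`kle1`).
`fix_all` with `A = ⊤`, `H = π.ker` gives `x` of order `ρ`, `π x ∈ S₁ ≤ 𝒞(S₂)`, `s ∣ |ker ⊓ 𝒞[x]|`;
`Sit.f1` for `S₂` (classes `0, Z, Y`). -/
theorem not_mt {m₁ : ℕ} (h : Tw π m μ S₁ S₂ 3 f₁ 3 f₂) (h1 : ReA S₁ m₁) {i : Fin 5} (hi : i ≠ 0) :
    ¬ Mt μ i π.ker := by
  rintro ⟨s, cs, ds⟩
  have P := h.sit.par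
  have s7 := cs.seven_le P hi
  have key : ∀ {t ρ : ℕ} {Z : Fin 5}, t.Prime → t < 5 → 5 ≤ ρ → Cl μ Z ρ → Z ≠ i → Pair S₁ t ρ → False := by
    intro t ρ Z ht t5 h5 cρ Zi hp
    have Z0 := cρ.ne_zero P h5
    have hK : ¬ ρ ∣ Nat.card π.ker := fun d => Zi (h.kle1 Z0 hi ⟨ρ, cρ, d⟩ ⟨s, cs, ds⟩)
    obtain ⟨x, -, hx, ox, hH⟩ := fix_all (π := π) h.c1.simp (h.sit.up.no4 P) ht cρ.1 (by omega) hp (A := ⊤)
      (by rw [map_top_of_surjective π h.sit.surj]; exact le_top) (by rwa [top_inf_eq])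
    exact h.sit.f1 h.c2 Z0.symm hi.symm Zi P.cl_three cρ cs ox hK (h.comm hx)
      (hH π.ker le_rfl (normalizer_eq_top _).ge hK s cs.1 (by omega) ds)
  by_cases e : i = 1
  · obtain ⟨Z, cZ⟩ := h.tb_U.cls (p := 7) (by norm_num) (by norm_num) (h1.p7.dvd.trans (card_subgroup_dvd_card _))
    exact key Nat.prime_two (by norm_num) (by norm_num) cZ
      (fun k => P.not_clA (l := 3) (by norm_num) (e ▸ k ▸ cZ)) h1.p7
  · obtain ⟨w, hw, h5, hd, hp⟩ := h1.pA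
    exact key Nat.prime_three (by norm_num) h5
      (h.tb_U.clA P hw h5 (hp.dvd.trans (card_subgroup_dvd_card _)) (odd_two_mul_add_one m₁) hd) (Ne.symm e) hp

end Tw

end CfsgLib.RSQ
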